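import Cfsg.Agent.PushGen.Last
import Cfsg.Agent.H260.Push5
import Cfsg.Agent.LieClassical.SLTwoUnipotent
import Cfsg.Prelude.Def_LocalEven
import Mathlib.GroupTheory.Complement
import Mathlib.Algebra.Group.Action.End
set_option linter.all false

-- part: H213/AmalMain
section
/-!
# The amalgam argument of rank one pushing up, all primes: distance at least three

This is `Cfsg.Agent.PushGen.Main` (helper54) without the hypotheses `v² = 1`, `b² ∈ Q` there, which it does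
not use.  `B` is normal in `A`, `L` normalises `V` and `Q = C_B(V)`, `[V, B] = D ≤ Z ≤ V`, `C_V(b) = Z`
for `b ∈ B ∖ Q`, `|B : Q| ≤ |V : Z|`, and no nontrivial subgroup of `B` is normalised by `L` and `A`.
-/

set_option autoImplicit false

namespace Cfsg.Agent.H213.Amal

open Cfsg.Agent.MinSimple.PushUp
open Cfsg.Agent.Omega.PushUp (Mv Dm mem_Dm cj_mem_Dm)

variable {G : Type*} [Group G]

/-- The hypotheses of the pushing up theorem. -/
structure Dt (A L B Q V Z D : Subgroup G) : Prop where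
  BA : B ≤ A
  BL : B ≤ L
  QB : Q ≤ B
  VQ : V ≤ Q
  ZV : Z ≤ V
  DZ : D ≤ Z
  AnB : ∀ a ∈ A, ∀ b ∈ B, a * b * a⁻¹ ∈ B
  AnZ : ∀ a ∈ A, ∀ b ∈ Z, a * b * a⁻¹ ∈ Z
  LnQ : ∀ l ∈ L, ∀ q ∈ Q, l * q * l⁻¹ ∈ Q
  LnV : ∀ l ∈ L, ∀ v ∈ V, l * v * l⁻¹ ∈ V
  BcZ : ∀ b ∈ B, ∀ y ∈ Z, b * y = y * b
  QcV : ∀ b ∈ B, (∀ v ∈ V, b * v = v * b) → b ∈ Q
  VcQ : ∀ q ∈ Q, ∀ v ∈ V, q * v = v * q
  comm : ∀ v ∈ V, ∀ b ∈ B, v * b * v⁻¹ * b⁻¹ ∈ D
  Dgen : D ≤ Subgroup.closure {x | ∃ v ∈ V, ∃ b ∈ B, x = v * b * v⁻¹ * b⁻¹}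
  ncomm : ∀ v ∈ V, v ∉ Z → ∀ b ∈ B, b ∉ Q → v * b ≠ b * v
  card : Q.relIndex B ≤ Z.relIndex V
  gen : ∀ l ∈ L, Mv D Z l → ∀ K : Subgroup G, B ≤ K → (∀ b ∈ B, l * b * l⁻¹ ∈ K) → L ≤ K
  moves : ∃ l ∈ L, Mv D Z l
  mvinv : ∀ l ∈ L, Mv D Z l → Mv D Z l⁻¹
  ti : ∀ l ∈ L, Mv D Z l → ∀ b ∈ B, b ∉ Q → Mv D Z (l⁻¹ * b * l)
  core : ∀ R : Subgroup G, R ≤ B → (∀ l ∈ L, ∀ r ∈ R, l * r * l⁻¹ ∈ R) →
    (∀ a ∈ A, ∀ r ∈ R, a * r * a⁻¹ ∈ R) → R = ⊥

variable {A L B Q V Z D : Subgroup G}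

namespace Dt

variable (h : Dt A L B Q V Z D)

include h

theorem VB : V ≤ B := h.VQ.trans h.QB

theorem DV : D ≤ V := h.DZ.trans h.ZV

theorem cjB {a b : G} (ha : a ∈ A) (hb : b ∈ B) : cj a b ∈ B := h.AnB a ha b hb

theorem cjB_inv {a b : G} (ha : a ∈ A) (hb : cj a b ∈ B) : b ∈ B := by
  have := h.cjB (A.inv_mem ha) hb
  rwa [cj_inv_cj] at this

theorem cjZ {a b : G} (ha : a ∈ A) (hb : b ∈ Z) : cj a b ∈ Z := h.AnZ a ha b hb

theorem cjQ {l b : G} (hl : l ∈ L) (hb : b ∈ Q) : cj l b ∈ Q := h.LnQ l hl b hb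

theorem cjV {l b : G} (hl : l ∈ L) (hb : b ∈ V) : cj l b ∈ V := h.LnV l hl b hb

omit h in
theorem cjL {l g : G} (hl : l ∈ L) (hg : g ∈ L) : cj l g ∈ L :=
  L.mul_mem (L.mul_mem hl hg) (L.inv_mem hl)

/-- commutator of `v ∈ V` and `b ∈ B`, conjugation form -/
theorem comm' {v b : G} (hv : v ∈ V) (hb : b ∈ B) : ∃ d ∈ D, cj v b = d * b :=
  ⟨v * b * v⁻¹ * b⁻¹, h.comm v hv b hb, by simp [cj, mul_assoc]⟩

theorem commB {v b : G} (hv : v ∈ V) (hb : b ∈ B) : ∃ d ∈ D, cj b v = d * v := by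
  refine ⟨(v * b * v⁻¹ * b⁻¹)⁻¹, D.inv_mem (h.comm v hv b hb), ?_⟩
  simp [cj, mul_assoc]

theorem exists_ne : ∃ d ∈ D, d ≠ 1 := by
  obtain ⟨l, hl, d, hd, hdZ⟩ := h.moves
  refine ⟨d, hd, ?_⟩
  rintro rfl
  apply hdZ
  have : cj l 1 = 1 := by simp [cj]
  rw [this]; exact Z.one_mem

section

variable {n : ℕ} (hc : ∀ m < n, ∀ w ∈ W A L m, Com V w)

include hc

theorem memB {m : ℕ} (hm : m ≤ n) {w : G} (hw : w ∈ W A L m) {v : G} (hv : v ∈ V) :
    cj w⁻¹ v ∈ B := by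
  induction m generalizing w with
  | zero => exact h.cjB (A.inv_mem hw) (h.VB hv)
  | succ m ih =>
    obtain ⟨w', hw', l, hl, a, ha, rfl⟩ := hw
    have h1 := ih (by omega) hw'
    have h2 : cj w'⁻¹ v ∈ Q := by
      apply h.QcV _ h1
      intro u hu
      have := (hc m (by omega) w' hw').inv u hu v hv
      exact this.symm
    have h3 : cj l⁻¹ (cj w'⁻¹ v) ∈ Q := h.cjQ (L.inv_mem hl) h2
    have h4 : cj a⁻¹ (cj l⁻¹ (cj w'⁻¹ v)) ∈ B := h.cjB (A.inv_mem ha) (h.QB h3)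
    have e : (w' * l * a)⁻¹ = a⁻¹ * (l⁻¹ * w'⁻¹) := by simp [mul_assoc]
    rw [e, cj_mul, cj_mul]
    exact h4

theorem memB' {m : ℕ} (hm : m ≤ n) {w : G} (hw : w ∈ W A L m) {v : G} (hv : v ∈ V) :
    cj w v ∈ B := by
  have := h.memB hc hm (W_inv hw) hv
  simpa using this

/-- in a critical pair there is an element of `V` which acts nontrivially -/
theorem crit_elt {w : G} (hw : w ∈ W A L n) (hnc : ¬ Com V w) :
    ∃ v ∈ V, cj w v ∈ B ∧ cj w v ∉ Q := by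
  simp only [Com] at hnc
  push Not at hnc
  obtain ⟨v, hv, u, hu, hne⟩ := hnc
  exact ⟨u, hu, h.memB' hc le_rfl hw hu, fun hq => hne (h.VcQ _ hq v hv).symm⟩

/-- centraliser in a critical pair -/
theorem crit_Z {w : G} (hw : w ∈ W A L n) (hnc : ¬ Com V w) {v : G} (hv : v ∈ V)
    (hcv : ∀ u ∈ V, v * cj w u = cj w u * v) : v ∈ Z := by
  obtain ⟨u, hu, hB, hQ⟩ := h.crit_elt hc hw hnc
  by_contra hZ
  exact h.ncomm v hv hZ _ hB hQ (hcv u hu)

/-- the injection of coset spaces given by a critical pair -/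
theorem crit_inj {w : G} (hw : w ∈ W A L n) (hnc : ¬ Com V w) :
    ∃ f : V ⧸ Z.subgroupOf V → B ⧸ Q.subgroupOf B, Function.Injective f ∧
      ∀ v : V, ∃ hB : cj w v ∈ B, f (Quotient.mk'' v) = Quotient.mk'' ⟨cj w v, hB⟩ := by
  have hnc' : ¬ Com V w⁻¹ := fun hcom => hnc hcom.of_inv
  let f0 : V → B := fun v => ⟨cj w v, h.memB' hc le_rfl hw v.2⟩
  let f : V ⧸ Z.subgroupOf V → B ⧸ Q.subgroupOf B :=
    Quotient.map' f0 (by
      intro v₁ v₂ hv
      rw [QuotientGroup.leftRel_apply] at hv ⊢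
      rw [Subgroup.mem_subgroupOf] at hv ⊢
      have e : (((f0 v₁)⁻¹ * f0 v₂ : B) : G) = cj w ((v₁⁻¹ * v₂ : V) : G) := by
        simp [f0, cj, mul_assoc]
      rw [e]
      apply h.QcV _ (h.memB' hc le_rfl hw (v₁⁻¹ * v₂ : V).2)
      intro u hu
      have h1 : cj w⁻¹ u ∈ B := h.memB hc le_rfl hw hu
      have h2 := h.BcZ _ h1 _ hv
      have h3 := (cj_comm (g := w)).2 h2
      rw [cj_cj_inv] at h3
      exact h3.symm)
  have hf : Function.Injective f := by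
    intro x y
    induction x using Quotient.inductionOn' with | _ v₁
    induction y using Quotient.inductionOn' with | _ v₂
    intro hxy
    have hxy' : (Quotient.mk'' (f0 v₁) : B ⧸ Q.subgroupOf B) = Quotient.mk'' (f0 v₂) := hxy
    rw [Quotient.eq''] at hxy' ⊢
    rw [QuotientGroup.leftRel_apply] at hxy' ⊢
    rw [Subgroup.mem_subgroupOf] at hxy' ⊢
    have e : (((f0 v₁)⁻¹ * f0 v₂ : B) : G) = cj w ((v₁⁻¹ * v₂ : V) : G) := by
      simp [f0, cj, mul_assoc]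
    rw [e] at hxy'
    apply h.crit_Z hc (W_inv hw) hnc' (v₁⁻¹ * v₂ : V).2
    intro u hu
    have h1 := h.VcQ _ hxy' u hu
    have h2 := (cj_comm (g := w⁻¹)).2 h1
    rw [cj_inv_cj] at h2
    exact h2
  exact ⟨f, hf, fun v => ⟨h.memB' hc le_rfl hw v.2, rfl⟩⟩

/-- a critical conjugate covers `B / Q` -/
theorem crit_B [Finite G] {w : G} (hw : w ∈ W A L n) (hnc : ¬ Com V w) {b : G} (hb : b ∈ B) :
    ∃ v ∈ V, ∃ q ∈ Q, b = cj w v * q := by
  obtain ⟨f, hf, hfe⟩ := h.crit_inj hc hw hnc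
  have hcard : Nat.card (B ⧸ Q.subgroupOf B) ≤ Nat.card (V ⧸ Z.subgroupOf V) := h.card
  have hbij := Function.Injective.bijective_of_nat_card_le hf hcard
  obtain ⟨x, hx⟩ := hbij.2 (Quotient.mk'' ⟨b, hb⟩)
  induction x using Quotient.inductionOn' with | _ v
  obtain ⟨hB, hv⟩ := hfe v
  rw [hv, Quotient.eq'', QuotientGroup.leftRel_apply, Subgroup.mem_subgroupOf] at hx
  refine ⟨v, v.2, (cj w v)⁻¹ * b, ?_, by simp⟩
  simpa using hx

/-- a critical pair gives `|V : Z| = |B : Q|` -/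
theorem crit_card [Finite G] {w : G} (hw : w ∈ W A L n) (hnc : ¬ Com V w) :
    Nat.card (V ⧸ Z.subgroupOf V) ≤ Nat.card (B ⧸ Q.subgroupOf B) := by
  obtain ⟨f, hf, -⟩ := h.crit_inj hc hw hnc
  exact Nat.card_le_card_of_injective f hf

/-- the commutator group of a critical pair -/
theorem crit_D [Finite G] {w : G} (hw : w ∈ W A L n) (hnc : ¬ Com V w) {d : G} (hd : d ∈ D) :
    cj w d ∈ D := by
  have hnc' : ¬ Com V w⁻¹ := fun hcom => hnc hcom.of_inv
  have key : Subgroup.closure {x | ∃ v ∈ V, ∃ b ∈ B, x = v * b * v⁻¹ * b⁻¹} ≤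
      D.comap (MulAut.conj w).toMonoidHom := by
    rw [Subgroup.closure_le]
    rintro x ⟨v, hv, b, hb, rfl⟩
    obtain ⟨v', hv', q, hq, rfl⟩ := h.crit_B hc (W_inv hw) hnc' hb
    have hqv : q * v⁻¹ = v⁻¹ * q := h.VcQ q hq _ (V.inv_mem hv)
    have e1 : v * (cj w⁻¹ v' * q) * v⁻¹ * (cj w⁻¹ v' * q)⁻¹ =
        v * cj w⁻¹ v' * v⁻¹ * (cj w⁻¹ v')⁻¹ := by
      calc v * (cj w⁻¹ v' * q) * v⁻¹ * (cj w⁻¹ v' * q)⁻¹
          = v * cj w⁻¹ v' * (q * v⁻¹) * q⁻¹ * (cj w⁻¹ v')⁻¹ := by simp [mul_assoc]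
        _ = v * cj w⁻¹ v' * (v⁻¹ * q) * q⁻¹ * (cj w⁻¹ v')⁻¹ := by rw [hqv]
        _ = v * cj w⁻¹ v' * v⁻¹ * (cj w⁻¹ v')⁻¹ := by simp [mul_assoc]
    have e2 : cj w (v * cj w⁻¹ v' * v⁻¹ * (cj w⁻¹ v')⁻¹) =
        (v' * cj w v * v'⁻¹ * (cj w v)⁻¹)⁻¹ := by
      simp [cj, mul_assoc]
    have h1 := h.comm v' hv' (cj w v) (h.memB' hc le_rfl hw hv)
    have h2 : cj w (v * (cj w⁻¹ v' * q) * v⁻¹ * (cj w⁻¹ v' * q)⁻¹) ∈ D := by
      rw [e1, e2]; exact D.inv_mem h1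
    simpa [cj] using h2
  have := key (h.Dgen hd)
  simpa [cj] using this

end

/-! ### The groups generated by conjugates of `V` -/

theorem RP_le (P : G → Prop) : Data.RP A V P ≤ B := by
  rw [Data.RP, Subgroup.closure_le]
  rintro x ⟨t, ht, -, v, hv, rfl⟩
  exact h.cjB ht (h.VB hv)

/-- no `L`-invariance for the full family -/
theorem not_full (hL : ∀ l ∈ L, ∀ r ∈ Data.RP A V (fun _ => True),
    l * r * l⁻¹ ∈ Data.RP A V (fun _ => True)) : False := by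
  have h1 := h.core _ (h.RP_le _) hL Data.RP_A
  obtain ⟨d, hd, hd1⟩ := h.exists_ne
  have h2 : d ∈ Data.RP A V (fun _ => True) := by
    have := Data.mem_RP (A := A) (V := V) (P := fun _ => True) A.one_mem trivial (h.DV hd)
    rwa [cj_one] at this
  rw [h1] at h2
  exact hd1 (by simpa using h2)

section

variable {n : ℕ} (hc : ∀ m < n, ∀ w ∈ W A L m, Com V w)

include hc

/-- the key normalisation argument -/
theorem norm_core [Finite G] (P : G → Prop) (hP : P 1) {w : G} (hw : w ∈ W A L n)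
    (hnc : ¬ Com V w) {l₀ : G} (hl₀ : l₀ ∈ L) (hm : Mv D Z l₀)
    (hall : ∀ t ∈ A, P t → ∀ v ∈ V, cj w⁻¹ (cj l₀ (cj t v)) ∈ B) :
    ∀ l ∈ L, ∀ r ∈ Data.RP A V P, l * r * l⁻¹ ∈ Data.RP A V P := by
  have hVR : V ≤ Data.RP A V P := by
    intro v hv
    have := Data.mem_RP (A := A) (V := V) (P := P) A.one_mem hP hv
    rwa [cj_one] at this
  -- `cj w v₁` normalises the conjugate
  have hu1 : ∀ v₁ ∈ V, ∀ x ∈ Data.RP A V P, cj (cj l₀⁻¹ (cj w v₁)) x ∈ Data.RP A V P := by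
    intro v₁ hv₁
    apply Data.closure_conj
    rintro x ⟨t, ht, hPt, v, hv, rfl⟩
    have h1 := hall t ht hPt v hv
    obtain ⟨d, hd, h2⟩ := h.comm' hv₁ h1
    have key : cj (cj w v₁) (cj l₀ (cj t v)) = cj w d * cj l₀ (cj t v) := by
      rw [cj_cj, h2, cj_prod, cj_cj_inv]
    have e : cj (cj l₀⁻¹ (cj w v₁)) (cj t v) = cj l₀⁻¹ (cj (cj w v₁) (cj l₀ (cj t v))) := by
      simp [cj, mul_assoc]
    rw [e, key, cj_prod, cj_inv_cj]
    exact (Data.RP A V P).mul_mem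
      (hVR (h.cjV (L.inv_mem hl₀) (h.DV (h.crit_D hc hw hnc hd)))) (Data.mem_RP ht hPt hv)
  have hB1 : ∀ b ∈ B, ∀ x ∈ Data.RP A V P, cj b x ∈ Data.RP A V P := by
    intro b hb
    apply Data.closure_conj
    rintro x ⟨t, ht, hPt, v, hv, rfl⟩
    have hb' : cj t⁻¹ b ∈ B := h.cjB (A.inv_mem ht) hb
    have e : cj b (cj t v) = cj t (cj (cj t⁻¹ b) v) := by simp [cj, mul_assoc]
    rw [e]
    exact Data.mem_RP ht hPt (h.cjV (h.BL hb') hv)
  -- the subgroup of elements of `G` whose `l₀`-conjugate normalises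
  let N : Subgroup G :=
    { carrier := {g | (∀ x ∈ Data.RP A V P, cj (cj l₀⁻¹ g) x ∈ Data.RP A V P) ∧
        (∀ x ∈ Data.RP A V P, cj (cj l₀⁻¹ g)⁻¹ x ∈ Data.RP A V P)}
      one_mem' := by
        constructor
        · intro x hx; simpa [cj] using hx
        · intro x hx; simpa [cj] using hx
      mul_mem' := by
        rintro a b ⟨ha1, ha2⟩ ⟨hb1, hb2⟩
        constructor
        · intro x hx
          rw [cj_prod, cj_mul]
          exact ha1 _ (hb1 x hx)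
        · intro x hx
          rw [cj_prod, mul_inv_rev, cj_mul]
          exact hb2 _ (ha2 x hx)
      inv_mem' := by
        rintro a ⟨ha1, ha2⟩
        constructor
        · intro x hx
          rw [cj_inv]; exact ha2 x hx
        · intro x hx
          rw [cj_inv, inv_inv]; exact ha1 x hx }
  have hLN : L ≤ N := by
    apply h.gen l₀ hl₀ hm N
    · intro b hb
      obtain ⟨v, hv, q, hq, rfl⟩ := h.crit_B hc hw hnc hb
      apply N.mul_mem
      · refine ⟨hu1 v hv, ?_⟩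
        have e : (cj l₀⁻¹ (cj w v))⁻¹ = cj l₀⁻¹ (cj w v⁻¹) := by rw [cj_inv, cj_inv]
        rw [e]
        exact hu1 _ (V.inv_mem hv)
      · have hq' : cj l₀⁻¹ q ∈ B := h.QB (h.cjQ (L.inv_mem hl₀) hq)
        exact ⟨hB1 _ hq', hB1 _ (B.inv_mem hq')⟩
    · intro b hb
      have e : cj l₀⁻¹ (l₀ * b * l₀⁻¹) = b := cj_inv_cj l₀ b
      refine ⟨?_, ?_⟩
      · intro x hx
        rw [e]; exact hB1 b hb x hx
      · intro x hx
        rw [e]; exact hB1 b⁻¹ (B.inv_mem hb) x hx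
  intro l hl r hr
  have h5 := (hLN (show cj l₀ l ∈ L from L.mul_mem (L.mul_mem hl₀ hl) (L.inv_mem hl₀))).1 r hr
  rw [cj_inv_cj] at h5
  exact h5

/-- an active element exists -/
theorem exists_active [Finite G] {w : G} (hw : w ∈ W A L n) (hnc : ¬ Com V w)
    {l₀ : G} (hl₀ : l₀ ∈ L) (hm : Mv D Z l₀) :
    ∃ t ∈ A, ∃ v ∈ V, cj w⁻¹ (cj l₀ (cj t v)) ∉ B := by
  by_contra hcon
  push Not at hcon
  exact h.not_full (h.norm_core hc (fun _ => True) trivial hw hnc hl₀ hm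
    (fun t ht _ v hv => hcon t ht v hv))

theorem active_crit {m : ℕ} (hmn : m + 1 = n) {w₁ l a : G} (hw₁ : w₁ ∈ W A L m) (hl : l ∈ L)
    (ha : a ∈ A) {l₀ : G} (hl₀ : l₀ ∈ L) {t v : G} (ht : t ∈ A) (hv : v ∈ V)
    (hact : cj (w₁ * l * a)⁻¹ (cj l₀ (cj t v)) ∉ B) :
    ¬ Com V ((l₀ * t)⁻¹ * w₁) := by
  intro hcom
  apply hact
  have hmem : (l₀ * t)⁻¹ * w₁ ∈ W A L n := by
    have := W_cons hw₁ (L.inv_mem hl₀) (A.inv_mem ht)
    rw [hmn] at this
    simpa [mul_assoc] using this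
  have h1 := h.memB hc le_rfl hmem hv
  have h2 : cj ((l₀ * t)⁻¹ * w₁)⁻¹ v ∈ Q := by
    apply h.QcV _ h1
    intro u hu
    exact (hcom.inv u hu v hv).symm
  have h3 := h.cjQ (L.inv_mem hl) h2
  have h4 := h.cjB (A.inv_mem ha) (h.QB h3)
  have e : cj (w₁ * l * a)⁻¹ (cj l₀ (cj t v)) = cj a⁻¹ (cj l⁻¹ (cj ((l₀ * t)⁻¹ * w₁)⁻¹ v)) := by
    simp [cj, mul_assoc]
  rw [e]
  exact h4

theorem active_cent [Finite G] (hn : 0 < n) {m : ℕ} (hmn : m + 1 = n) {w₁ l a : G}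
    (hw₁ : w₁ ∈ W A L m) (hl : l ∈ L) (ha : a ∈ A) (hnc : ¬ Com V (w₁ * l * a)) {l₀ : G}
    (hl₀ : l₀ ∈ L) (hm : Mv D Z l₀) {t v : G} (ht : t ∈ A) (hv : v ∈ V)
    (hact : cj (w₁ * l * a)⁻¹ (cj l₀ (cj t v)) ∉ B) :
    Dm D w₁ = Dm D t ∧ ∀ l' ∈ L, ∀ d ∈ D, cj l' (cj t d) = cj t d := by
  have hw : w₁ * l * a ∈ W A L n := by rw [← hmn]; exact ⟨w₁, hw₁, l, hl, a, ha, rfl⟩
  have hcr := h.active_crit hc hmn hw₁ hl ha hl₀ ht hv hact
  have hmem : (l₀ * t)⁻¹ * w₁ ∈ W A L n := by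
    have := W_cons hw₁ (L.inv_mem hl₀) (A.inv_mem ht)
    rw [hmn] at this
    simpa [mul_assoc] using this
  have hcr' : ¬ Com V ((l₀ * t)⁻¹ * w₁)⁻¹ := fun hcom => hcr hcom.of_inv
  -- the elements `cj l₀ (cj t d)` are of the form `cj w₁ d'`
  have hz' : ∀ d ∈ D, ∃ d' ∈ D, cj l₀ (cj t d) = cj w₁ d' := by
    intro d hd
    refine ⟨cj ((l₀ * t)⁻¹ * w₁)⁻¹ d, h.crit_D hc (W_inv hmem) hcr' hd, ?_⟩
    simp [cj, mul_assoc]
  have hcent : ∀ d ∈ D, ∀ l' ∈ L, cj l' (cj l₀ (cj t d)) = cj l₀ (cj t d) := by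
    intro d hd
    obtain ⟨d', hd', he⟩ := hz' d hd
    have hLc : L ≤ Subgroup.centralizer {cj l₀ (cj t d)} := by
      apply h.gen l₀ hl₀ hm
      · intro b hb
        rw [Subgroup.mem_centralizer_iff]
        intro y hy
        rw [Set.mem_singleton_iff] at hy
        rw [hy]
        obtain ⟨v', hv', q, hq, rfl⟩ := h.crit_B hc hw hnc hb
        have k1 : cj l₀ (cj t d) * cj (w₁ * l * a) v' = cj (w₁ * l * a) v' * cj l₀ (cj t d) := by
          rw [he]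
          have e : cj (w₁ * l * a) v' = cj w₁ (cj l (cj a v')) := by rw [cj_mul, cj_mul]
          rw [e, cj_comm]
          have h1 := hc 0 hn a ha (cj l⁻¹ d') (h.cjV (L.inv_mem hl) (h.DV hd')) v' hv'
          have h2 := (cj_comm (g := l)).2 h1
          rw [cj_cj_inv] at h2
          exact h2
        have k2 : q * cj l₀ (cj t d) = cj l₀ (cj t d) * q :=
          h.VcQ q hq _ (h.cjV hl₀ (h.ZV (h.cjZ ht (h.DZ hd))))
        exact (show Commute (cj l₀ (cj t d)) (cj (w₁ * l * a) v' * q) from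
          Commute.mul_right k1 k2.symm)
      · intro b hb
        rw [Subgroup.mem_centralizer_iff]
        intro y hy
        rw [Set.mem_singleton_iff] at hy
        rw [hy]
        have : cj t d ∈ Z := h.cjZ ht (h.DZ hd)
        exact (cj_comm (g := l₀)).2 (h.BcZ b hb _ this).symm
    intro l' hl'
    rw [cj_eq_self]
    have := Subgroup.mem_centralizer_iff.1 (hLc hl') _ rfl
    exact this.symm
  have h6 : ∀ d ∈ D, cj l₀ (cj t d) = cj t d := by
    intro d hd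
    have := hcent d hd l₀⁻¹ (L.inv_mem hl₀)
    rw [cj_inv_cj] at this
    exact this.symm
  refine ⟨?_, ?_⟩
  · apply le_antisymm
    · intro x hx
      rw [mem_Dm] at hx
      have h7 := h.crit_D hc hmem hcr hx
      have e : cj ((l₀ * t)⁻¹ * w₁) (cj w₁⁻¹ x) = cj t⁻¹ (cj l₀⁻¹ x) := by
        simp [cj, mul_assoc]
      rw [e] at h7
      have h8 := h6 _ h7
      rw [cj_cj_inv, cj_cj_inv] at h8
      rw [← h8] at h7
      rwa [mem_Dm]
    · intro x hx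
      rw [mem_Dm] at hx
      obtain ⟨d', hd', he⟩ := hz' _ hx
      rw [h6 _ hx, cj_cj_inv] at he
      rw [he]
      exact cj_mem_Dm hd'
  · intro l' hl' d hd
    have := hcent d hd l' hl'
    rwa [h6 d hd] at this

end

/-! ### Mates -/

omit h in
/-- `τ` is a mate. -/
structure Mate (A L V D : Subgroup G) (τ : G) : Prop where
  mem : τ ∈ A
  cent : ∀ l ∈ L, ∀ d ∈ D, cj l (cj τ d) = cj τ d
  norm : ∀ l ∈ L, ∀ r ∈ Data.RP A V (fun t => Dm D t ≠ Dm D τ),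
    l * r * l⁻¹ ∈ Data.RP A V (fun t => Dm D t ≠ Dm D τ)

theorem ne_of_cent {τ : G} (hc : ∀ l ∈ L, ∀ d ∈ D, cj l (cj τ d) = cj τ d) :
    Dm D 1 ≠ Dm D τ := by
  intro he
  obtain ⟨l, hl, d, hd, hdZ⟩ := h.moves
  have h1 : d ∈ Dm D τ := by
    rw [← he, mem_Dm, inv_one, cj_one]; exact hd
  rw [mem_Dm] at h1
  have h2 := hc l hl _ h1
  rw [cj_cj_inv] at h2
  rw [h2] at hdZ
  exact hdZ (h.DZ hd)

theorem mate_D {τ τ' : G} (hτ : Mate A L V D τ) (hτ' : Mate A L V D τ') :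
    Dm D τ = Dm D τ' := by
  by_contra hne
  have hsup : Data.RP A V (fun _ => True) ≤ Data.RP A V (fun t => Dm D t ≠ Dm D τ) ⊔
      Data.RP A V (fun t => Dm D t ≠ Dm D τ') := by
    rw [Data.RP, Subgroup.closure_le]
    rintro x ⟨t, ht, -, v, hv, rfl⟩
    by_cases h1 : Dm D t ≠ Dm D τ
    · exact (le_sup_left : Data.RP A V (fun t => Dm D t ≠ Dm D τ) ≤ _)
        (Data.mem_RP ht h1 hv)
    · have h2 : Dm D t ≠ Dm D τ' := by
        push Not at h1
        rw [h1]; exact hne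
      exact (le_sup_right : Data.RP A V (fun t => Dm D t ≠ Dm D τ') ≤ _)
        (Data.mem_RP ht h2 hv)
  have hle : ∀ P : G → Prop, Data.RP A V P ≤ Data.RP A V (fun _ => True) := by
    intro P
    rw [Data.RP, Subgroup.closure_le]
    rintro x ⟨t, ht, -, v, hv, rfl⟩
    exact Data.mem_RP ht trivial hv
  have heq : Data.RP A V (fun _ => True) = Data.RP A V (fun t => Dm D t ≠ Dm D τ) ⊔
      Data.RP A V (fun t => Dm D t ≠ Dm D τ') :=
    le_antisymm hsup (sup_le (hle _) (hle _))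
  apply h.not_full
  intro l hl r hr
  have hcl : Data.RP A V (fun _ => True) ≤
      (Data.RP A V (fun _ => True)).comap (MulAut.conj l).toMonoidHom := by
    nth_rewrite 1 [heq]
    apply sup_le
    · intro y hy
      have := hle _ (hτ.norm l hl y hy)
      simpa using this
    · intro y hy
      have := hle _ (hτ'.norm l hl y hy)
      simpa using this
  have := hcl hr
  simpa using this

section

variable {n : ℕ} (hc : ∀ m < n, ∀ w ∈ W A L m, Com V w)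

include hc

theorem active_mate [Finite G] (hn : 0 < n) {m : ℕ} (hmn : m + 1 = n) {w₁ l a : G}
    (hw₁ : w₁ ∈ W A L m) (hl : l ∈ L) (ha : a ∈ A) (hnc : ¬ Com V (w₁ * l * a)) {l₀ : G}
    (hl₀ : l₀ ∈ L) (hm : Mv D Z l₀) {t v : G} (ht : t ∈ A) (hv : v ∈ V)
    (hact : cj (w₁ * l * a)⁻¹ (cj l₀ (cj t v)) ∉ B) : Mate A L V D t ∧ Dm D w₁ = Dm D t := by
  have hw : w₁ * l * a ∈ W A L n := by rw [← hmn]; exact ⟨w₁, hw₁, l, hl, a, ha, rfl⟩
  obtain ⟨hz1, hz2⟩ := h.active_cent hc hn hmn hw₁ hl ha hnc hl₀ hm ht hv hact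
  refine ⟨⟨ht, hz2, ?_⟩, hz1⟩
  apply h.norm_core hc _ (h.ne_of_cent hz2) hw hnc hl₀ hm
  intro t' ht' hP v' hv'
  by_contra hact'
  obtain ⟨hz1', -⟩ := h.active_cent hc hn hmn hw₁ hl ha hnc hl₀ hm ht' hv' hact'
  exact hP (by rw [← hz1', hz1])

omit hc in
/-- the intersection of two opposite conjugates of `B` -/
theorem cap_Q {l b : G} (hl : l ∈ L) (hm : Mv D Z l) (hb : b ∈ B) (hb' : cj l⁻¹ b ∈ B) :
    b ∈ Q := by
  by_contra hbQ
  obtain ⟨d, hd, hdZ⟩ := h.ti l hl hm b hb hbQ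
  apply hdZ
  have e : l⁻¹ * b * l = cj l⁻¹ b := by simp [cj]
  rw [e, cj_eq_self.2 (h.BcZ _ hb' d (h.DZ hd))]
  exact h.DZ hd

/-- the two ends of a path both of whose maximal proper subpaths are critical -/
theorem sym_mate [Finite G] (hn : 0 < n) {m : ℕ} (hmn : m + 1 = n) {a' l' u l a : G}
    (ha' : a' ∈ A) (hl' : l' ∈ L) (hm' : Mv D Z l') (hu : u ∈ W A L m) (hl : l ∈ L)
    (hm : Mv D Z l) (ha : a ∈ A) (hc1 : ¬ Com V (a' * l' * u)) (hc2 : ¬ Com V (u * l * a)) :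
    Mate A L V D a'⁻¹ ∧ Dm D u = Dm D a'⁻¹ := by
  have hex : ∃ v ∈ V, cj (u * l * a)⁻¹ (cj l'⁻¹ (cj a'⁻¹ v)) ∉ B := by
    by_contra hcon
    push Not at hcon
    apply hc1
    have hw : a' * l' * u ∈ W A L n := by rw [← hmn]; exact W_cons hu hl' ha'
    apply Com.of_inv
    intro v hv x hx
    have h1 := h.memB hc le_rfl hw hx
    have h2 := hcon x hx
    have e : cj (u * l * a)⁻¹ (cj l'⁻¹ (cj a'⁻¹ x)) = cj a⁻¹ (cj l⁻¹ (cj (a' * l' * u)⁻¹ x)) := by
      simp [cj, mul_assoc]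
    rw [e] at h2
    have h3 := h.cjB_inv (A.inv_mem ha) h2
    exact (h.VcQ _ (h.cap_Q hl hm h1 h3) v hv).symm
  obtain ⟨v, hv, hact⟩ := hex
  exact h.active_mate hc hn hmn hu hl ha hc2 (L.inv_mem hl') (h.mvinv l' hl' hm')
    (A.inv_mem ha') hv hact

/-- left extension of a critical word -/
theorem extend [Finite G] {m : ℕ} (hmn : m + 1 = n) {w₁ l a : G}
    (hw₁ : w₁ ∈ W A L m) (hl : l ∈ L) (ha : a ∈ A) (hnc : ¬ Com V (w₁ * l * a)) {l₀ : G}
    (hl₀ : l₀ ∈ L) (hm : Mv D Z l₀) : ∃ t ∈ A, ¬ Com V (t * l₀ * w₁) := by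
  have hw : w₁ * l * a ∈ W A L n := by rw [← hmn]; exact ⟨w₁, hw₁, l, hl, a, ha, rfl⟩
  obtain ⟨t, ht, v, hv, hact⟩ := h.exists_active hc hw hnc (L.inv_mem hl₀) (h.mvinv _ hl₀ hm)
  have hcr := h.active_crit hc hmn hw₁ hl ha (L.inv_mem hl₀) ht hv hact
  refine ⟨t⁻¹, A.inv_mem ht, ?_⟩
  have e : t⁻¹ * l₀ * w₁ = (l₀⁻¹ * t)⁻¹ * w₁ := by simp
  rw [e]; exact hcr

/-- the other end -/
theorem sym_mate' [Finite G] (hn : 0 < n) {m : ℕ} (hmn : m + 1 = n) {a' l' u l a : G}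
    (ha' : a' ∈ A) (hl' : l' ∈ L) (hm' : Mv D Z l') (hu : u ∈ W A L m) (hl : l ∈ L)
    (hm : Mv D Z l) (ha : a ∈ A) (hc1 : ¬ Com V (a' * l' * u)) (hc2 : ¬ Com V (u * l * a)) :
    Mate A L V D a ∧ Dm D u⁻¹ = Dm D a := by
  have h1 : ¬ Com V (a⁻¹ * l⁻¹ * u⁻¹) := by
    intro hcom
    apply hc2
    apply Com.of_inv
    simpa [mul_assoc] using hcom
  have h2 : ¬ Com V (u⁻¹ * l'⁻¹ * a'⁻¹) := by
    intro hcom
    apply hc1
    apply Com.of_inv
    simpa [mul_assoc] using hcom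
  have := h.sym_mate hc hn hmn (A.inv_mem ha) (L.inv_mem hl) (h.mvinv _ hl hm) (W_inv hu)
    (L.inv_mem hl') (h.mvinv _ hl' hm') (A.inv_mem ha') h1 h2
  rwa [inv_inv] at this

/-- right extension of a critical word -/
theorem extend' [Finite G] {m : ℕ} (hmn : m + 1 = n) {w₁ l a : G}
    (hw₁ : w₁ ∈ W A L m) (hl : l ∈ L) (ha : a ∈ A) (hnc : ¬ Com V (a * l * w₁)) {l₀ : G}
    (hl₀ : l₀ ∈ L) (hm : Mv D Z l₀) : ∃ t ∈ A, ¬ Com V (w₁ * l₀ * t) := by
  have h1 : ¬ Com V (w₁⁻¹ * l⁻¹ * a⁻¹) := by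
    intro hcom
    apply hnc
    apply Com.of_inv
    simpa [mul_assoc] using hcom
  obtain ⟨t, ht, h2⟩ := h.extend hc hmn (W_inv hw₁) (L.inv_mem hl) (A.inv_mem ha) h1
    (L.inv_mem hl₀) (h.mvinv _ hl₀ hm)
  refine ⟨t⁻¹, A.inv_mem ht, fun hcom => h2 ?_⟩
  apply Com.of_inv
  simpa [mul_assoc] using hcom

end

end Dt

/-! ### Long paths -/

theorem W_left {A L : Subgroup G} {n : ℕ} {w : G} (hw : w ∈ W A L (n + 1)) :
    ∃ a ∈ A, ∃ l ∈ L, ∃ w' ∈ W A L n, w = a * l * w' := by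
  obtain ⟨w', hw', l, hl, a, ha, he⟩ := W_inv hw
  refine ⟨a⁻¹, A.inv_mem ha, l⁻¹, L.inv_mem hl, w'⁻¹, W_inv hw', ?_⟩
  have := congrArg (·⁻¹) he
  simpa [mul_assoc] using this

/-- the word with letters `s j, …, s (j + k)` -/
def wd (l : G) (s : ℕ → G) : ℕ → ℕ → G
  | j, 0 => s j
  | j, k + 1 => s j * l * wd l s (j + 1) k

theorem wd_succ (l : G) (s : ℕ → G) (j k : ℕ) :
    wd l s j (k + 1) = wd l s j k * l * s (j + k + 1) := by
  induction k generalizing j with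
  | zero => simp [wd]
  | succ k ih =>
    rw [wd, ih, wd]
    have : j + 1 + k + 1 = j + (k + 1) + 1 := by ring
    rw [this]
    simp only [mul_assoc]

theorem wd_mem {A L : Subgroup G} {l : G} (hl : l ∈ L) {s : ℕ → G} (hs : ∀ i, s i ∈ A)
    (j k : ℕ) : wd l s j k ∈ W A L k := by
  induction k generalizing j with
  | zero => exact hs j
  | succ k ih => exact W_cons (ih (j + 1)) hl (hs j)

theorem wd_congr {l : G} {s s' : ℕ → G} {j k : ℕ} (h : ∀ i, j ≤ i → i ≤ j + k → s i = s' i) :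
    wd l s j k = wd l s' j k := by
  induction k generalizing j with
  | zero => exact h j le_rfl (by omega)
  | succ k ih =>
    rw [wd, wd, h j le_rfl (by omega), ih (j := j + 1) (fun i h1 h2 => h i (by omega) (by omega))]

namespace Dt

variable (h : Dt A L B Q V Z D)

include h

variable {n : ℕ} (hc : ∀ m < n, ∀ w ∈ W A L m, Com V w)

include hc

theorem exists_start [Finite G] {l : G} (hl : l ∈ L) (hm : Mv D Z l) {w : G}
    (hw : w ∈ W A L n) (hnc : ¬ Com V w) (k : ℕ) :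
    ∀ j, k + j + 1 = n → ∃ u ∈ W A L j, ∃ s : ℕ → G, (∀ i, s i ∈ A) ∧
      ¬ Com V (u * l * wd l s 0 k) := by
  induction k with
  | zero =>
    intro j hj
    obtain rfl : n = j + 1 := by omega
    obtain ⟨a, ha, l', hl', w', hw', rfl⟩ := W_left hw
    obtain ⟨t, ht, h1⟩ := h.extend' hc rfl hw' hl' ha hnc hl hm
    exact ⟨w', hw', fun _ => t, fun _ => ht, h1⟩
  | succ k ih =>
    intro j hj
    obtain ⟨u, hu, s, hs, h1⟩ := ih (j + 1) (by omega)
    obtain ⟨a, ha, l', hl', u', hu', rfl⟩ := W_left hu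
    have h2 : u' * l * wd l s 0 k ∈ W A L (n - 1) := by
      have : ∀ k', u' * l * wd l s 0 k' ∈ W A L (j + k' + 1) := by
        intro k'
        induction k' with
        | zero => exact ⟨u', hu', l, hl, _, hs 0, rfl⟩
        | succ k' ih' =>
          refine ⟨u' * l * wd l s 0 k', ?_, l, hl, s (k' + 1), hs _, ?_⟩
          · exact ih'
          · rw [wd_succ, Nat.zero_add]; simp only [mul_assoc]
      have := this k
      rwa [show n - 1 = j + k + 1 by omega]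
    obtain ⟨t, ht, h3⟩ := h.extend' hc (show n - 1 + 1 = n by omega) h2 hl' ha
      (by simpa only [mul_assoc] using h1) hl hm
    refine ⟨u', hu', Function.update s (k + 1) t, ?_, ?_⟩
    · intro i
      by_cases hi : i = k + 1
      · subst hi; simpa using ht
      · rw [Function.update_of_ne hi]; exact hs i
    · rw [wd_succ, Nat.zero_add, Function.update_self]
      have h4 : wd l (Function.update s (k + 1) t) 0 k = wd l s 0 k := by
        apply wd_congr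
        intro i _ hi
        rw [Function.update_of_ne (by omega)]
      rw [h4]
      simpa only [mul_assoc] using h3

omit hc h in
theorem wd_shift (l : G) (s : ℕ → G) (j k : ℕ) :
    wd l (fun i => s (i + 1)) j k = wd l s (j + 1) k := by
  induction k generalizing j with
  | zero => rfl
  | succ k ih => rw [wd, wd, ih]

theorem exists_window [Finite G] (hn : 0 < n) {l : G} (hl : l ∈ L) (hm : Mv D Z l) {w : G}
    (hw : w ∈ W A L n) (hnc : ¬ Com V w) :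
    ∃ s : ℕ → G, (∀ i, s i ∈ A) ∧ ¬ Com V (wd l s 0 n) := by
  obtain ⟨u, hu, s, hs, h1⟩ := h.exists_start hc hl hm hw hnc (n - 1) 0 (by omega)
  refine ⟨fun i => Nat.casesOn i u s, ?_, ?_⟩
  · intro i
    cases i with
    | zero => exact hu
    | succ i => exact hs i
  · obtain ⟨m, rfl⟩ : ∃ m, n = m + 1 := ⟨n - 1, by omega⟩
    rw [wd, ← wd_shift]
    exact h1

/-- long paths all of whose windows are critical -/
theorem exists_path [Finite G] (hn : 0 < n) {l : G} (hl : l ∈ L) (hm : Mv D Z l) {w : G}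
    (hw : w ∈ W A L n) (hnc : ¬ Com V w) (N : ℕ) :
    ∃ s : ℕ → G, (∀ i, s i ∈ A) ∧ ∀ j ≤ N, ¬ Com V (wd l s j n) := by
  induction N with
  | zero =>
    obtain ⟨s, hs, h1⟩ := h.exists_window hc hn hl hm hw hnc
    exact ⟨s, hs, fun j hj => by obtain rfl : j = 0 := by omega
                                 exact h1⟩
  | succ N ih =>
    obtain ⟨s, hs, h1⟩ := ih
    obtain ⟨m, rfl⟩ : ∃ m, n = m + 1 := ⟨n - 1, by omega⟩
    have h2 := h1 N le_rfl
    rw [wd] at h2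
    obtain ⟨t, ht, h3⟩ := h.extend' hc rfl (wd_mem hl hs (N + 1) m) hl (hs N) h2 hl hm
    refine ⟨Function.update s (N + m + 2) t, ?_, ?_⟩
    · intro i
      by_cases hi : i = N + m + 2
      · subst hi; simpa using ht
      · rw [Function.update_of_ne hi]; exact hs i
    · intro j hj
      rcases Nat.lt_or_ge N j with hj' | hj'
      · obtain rfl : j = N + 1 := by omega
        rw [wd_succ, show N + 1 + m + 1 = N + m + 2 by ring, Function.update_self]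
        have h4 : wd l (Function.update s (N + m + 2) t) (N + 1) m = wd l s (N + 1) m := by
          apply wd_congr
          intro i _ hi
          rw [Function.update_of_ne (by omega)]
        rw [h4]; exact h3
      · have h4 : wd l (Function.update s (N + m + 2) t) j (m + 1) = wd l s j (m + 1) := by
          apply wd_congr
          intro i _ hi
          rw [Function.update_of_ne (by omega)]
        rw [h4]; exact h1 j hj'

/-- `b ≥ 3` is impossible. -/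
theorem not_two_le [Finite G] (hn : 2 ≤ n) {w : G} (hw : w ∈ W A L n) (hnc : ¬ Com V w) :
    False := by
  obtain ⟨l, hl, hm⟩ := h.moves
  have hn0 : 0 < n := by omega
  obtain ⟨s, hs, hwin⟩ := h.exists_path hc hn0 hl hm hw hnc (n + 2)
  obtain ⟨k, rfl⟩ : ∃ k, n = k + 2 := ⟨n - 2, by omega⟩
  -- facts about windows
  have hfact : ∀ j, j + 1 ≤ k + 4 → (Mate A L V D (s j)⁻¹ ∧
      Dm D (wd l s (j + 1) (k + 1)) = Dm D (s j)⁻¹) ∧
      (Mate A L V D (s (j + k + 3)) ∧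
      Dm D (wd l s (j + 1) (k + 1))⁻¹ = Dm D (s (j + k + 3))) := by
    intro j hj
    have h1 := hwin j (by omega)
    have h2 := hwin (j + 1) (by omega)
    rw [wd] at h1
    rw [wd_succ, show j + 1 + (k + 1) + 1 = j + k + 3 by ring] at h2
    exact ⟨h.sym_mate hc hn0 rfl (hs j) hl hm (wd_mem hl hs _ _) hl hm (hs _) h1 h2,
      h.sym_mate' hc hn0 rfl (hs j) hl hm (wd_mem hl hs _ _) hl hm (hs _) h1 h2⟩
  -- `u = y * l * a`
  have h1 := (hfact 1 (by omega)).2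
  have h2 := (hfact (k + 3) (by omega)).1.1
  have h3 : Dm D (wd l s 2 (k + 1))⁻¹ = Dm D (s (k + 3))⁻¹ := by
    rw [h1.2]
    exact h.mate_D h1.1 h2
  rw [wd_succ, show 2 + k + 1 = k + 3 by ring] at h3
  -- `y * l` normalises `D`
  have h4 : ∀ d ∈ D, cj (wd l s 2 k) (cj l d) ∈ D := by
    intro d hd
    have h5 : cj (s (k + 3))⁻¹ d ∈ Dm D (s (k + 3))⁻¹ := cj_mem_Dm hd
    rw [← h3, mem_Dm, inv_inv] at h5
    have e : cj (wd l s 2 k * l * s (k + 3)) (cj (s (k + 3))⁻¹ d) =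
        cj (wd l s 2 k) (cj l d) := by
      simp [cj, mul_assoc]
    rwa [e] at h5
  obtain ⟨d, hd, hdZ⟩ := hm
  apply hdZ
  have hwc := hwin 0 (by omega)
  have hw0 : wd l s 0 (k + 2) ∈ W A L (k + 2) := wd_mem hl hs 0 (k + 2)
  have hwc' : ¬ Com V (wd l s 0 (k + 2))⁻¹ := fun hcom => hwc hcom.of_inv
  apply h.crit_Z hc (W_inv hw0) hwc' (h.cjV hl (h.DV hd))
  intro u hu
  -- the element `cj c (cj l d)` lies in the conjugate of `V` under a word of length one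
  have h6 : cj (wd l s 0 (k + 2)) (cj l d) =
      cj (s 0 * l * s 1) (cj l (cj (wd l s 2 k) (cj l d))) := by
    rw [wd, wd]
    simp [cj, mul_assoc]
  have h7 : cj l (cj (wd l s 2 k) (cj l d)) ∈ V := h.cjV hl (h.DV (h4 d hd))
  have h8 := hc 1 (by omega) (s 0 * l * s 1) ⟨s 0, hs 0, l, hl, s 1, hs 1, rfl⟩ u hu _ h7
  rw [← h6] at h8
  have h9 := (cj_comm (g := (wd l s 0 (k + 2))⁻¹)).2 h8
  rw [cj_inv_cj] at h9
  exact h9.symm

end Dt

end Cfsg.Agent.H213.Amal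
end

-- part: H213/AmalLast
section
/-!
# The amalgam argument of rank one pushing up, all primes: the structure for distance two

The part of `Cfsg.Agent.PushGen.Last` (helper54) which is not special to the prime 2.
-/

set_option autoImplicit false

namespace Cfsg.Agent.H213.Amal

open Cfsg.Agent.MinSimple.PushUp
open Cfsg.Agent.Omega.PushUp (Mv Dm mem_Dm cj_mem_Dm mem_Dm' closure_left closure_cent
  closure_comm closure_sq)

variable {G : Type*} [Group G]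

variable {A L B Q V Z D : Subgroup G}

/-- `τ` occurs as first letter of a critical word -/
def Cr (A L V Z D : Subgroup G) (τ : G) : Prop :=
  τ ∈ A ∧ ∃ m ∈ L, Mv D Z m ∧ ∃ σ ∈ A, ¬ Com V (τ * m * σ)

/-- the generators of `W` -/
def Wset (A L V Z D : Subgroup G) : Set G :=
  {x | x ∈ V ∨ ∃ l ∈ L, ∃ τ, Cr A L V Z D τ ∧ ∃ v ∈ V, x = cj l (cj τ v)}

/-- the group `W` generated by `V` and all `cj l (cj τ V)` -/
def Wg (A L V Z D : Subgroup G) : Subgroup G := Subgroup.closure (Wset A L V Z D)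

/-- the elements of `W` which are fixed by `L` modulo `V` -/
def CT (A L V Z D : Subgroup G) (w : G) : Prop :=
  w ∈ Wg A L V Z D ∧ ∀ l ∈ L, ∃ v ∈ V, cj l w = v * w

theorem V_le_Wg : V ≤ Wg A L V Z D := fun _ hv => Subgroup.subset_closure (Or.inl hv)

theorem mem_Wg {τ l v : G} (hτ : Cr A L V Z D τ) (hl : l ∈ L) (hv : v ∈ V) :
    cj l (cj τ v) ∈ Wg A L V Z D :=
  Subgroup.subset_closure (Or.inr ⟨l, hl, τ, hτ, v, hv, rfl⟩)

theorem mem_Wg' {τ v : G} (hτ : Cr A L V Z D τ) (hv : v ∈ V) : cj τ v ∈ Wg A L V Z D := by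
  have := mem_Wg (L := L) hτ L.one_mem hv
  rwa [cj_one] at this

namespace Dt

variable (h : Dt A L B Q V Z D)

include h

section

variable [Finite G] (hc : ∀ m < 1, ∀ w ∈ W A L m, Com V w)

include hc

/-- extension of a critical word -/
theorem cr_ext {τ m σ l₀ : G} (hτ : τ ∈ A) (hm : m ∈ L) (hσ : σ ∈ A)
    (hnc : ¬ Com V (τ * m * σ)) (hl₀ : l₀ ∈ L) (hm₀ : Mv D Z l₀) :
    ∃ t ∈ A, ¬ Com V (t * l₀ * τ) :=
  h.extend hc rfl (show τ ∈ W A L 0 from hτ) hm hσ hnc hl₀ hm₀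

omit [Finite G] hc in
theorem ncom_inv {τ m σ : G} (hnc : ¬ Com V (τ * m * σ)) : ¬ Com V (σ⁻¹ * m⁻¹ * τ⁻¹) := by
  intro hcom
  apply hnc
  apply Com.of_inv
  simpa [mul_assoc] using hcom

theorem cr_inv {τ : G} (hτ : Cr A L V Z D τ) : Cr A L V Z D τ⁻¹ := by
  obtain ⟨hA, m, hm, hmv, σ, hσ, hnc⟩ := hτ
  obtain ⟨t, ht, h1⟩ := h.cr_ext hc hA hm hσ hnc hm hmv
  exact ⟨A.inv_mem hA, m⁻¹, L.inv_mem hm, h.mvinv m hm hmv, t⁻¹, A.inv_mem ht, h.ncom_inv h1⟩

theorem cr_right {τ m σ : G} (hτ : τ ∈ A) (hm : m ∈ L) (hmv : Mv D Z m) (hσ : σ ∈ A)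
    (hnc : ¬ Com V (τ * m * σ)) : Cr A L V Z D σ := by
  have h1 : Cr A L V Z D σ⁻¹ :=
    ⟨A.inv_mem hσ, m⁻¹, L.inv_mem hm, h.mvinv m hm hmv, τ⁻¹, A.inv_mem hτ, h.ncom_inv hnc⟩
  have := h.cr_inv hc h1
  rwa [inv_inv] at this

/-- every element of the class occurs as last letter, with a given middle letter -/
theorem cr_left {τ m : G} (hτ : Cr A L V Z D τ) (hm : m ∈ L) (hmv : Mv D Z m) :
    ∃ t, Cr A L V Z D t ∧ ¬ Com V (t⁻¹ * m * τ) := by
  obtain ⟨hA, m', hm', hmv', σ, hσ, hnc⟩ := hτ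
  obtain ⟨t, ht, h1⟩ := h.cr_ext hc hA hm' hσ hnc hm hmv
  refine ⟨t⁻¹, h.cr_inv hc ⟨ht, m, hm, hmv, τ, hA, h1⟩, ?_⟩
  rwa [inv_inv]

theorem cr_mate {τ : G} (hτ : Cr A L V Z D τ) : Mate A L V D τ := by
  obtain ⟨m, hm, hmv⟩ := h.moves
  obtain ⟨t, ht, h1⟩ := h.cr_left hc hτ hm hmv
  obtain ⟨t', ht', h2⟩ := h.cr_left hc (h.cr_inv hc ht) hm hmv
  exact (h.sym_mate' hc one_pos rfl (A.inv_mem ht'.1) hm hmv
    (show t⁻¹ ∈ W A L 0 from A.inv_mem ht.1) hm hmv hτ.1 h2 h1).1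

theorem cr_D {τ τ' : G} (hτ : Cr A L V Z D τ) (hτ' : Cr A L V Z D τ') : Dm D τ = Dm D τ' :=
  h.mate_D (h.cr_mate hc hτ) (h.cr_mate hc hτ')

theorem cr_DD {τ d : G} (hτ : Cr A L V Z D τ) (hd : d ∈ Dm D τ) : cj τ d ∈ D := by
  rw [h.cr_D hc hτ (h.cr_inv hc hτ), mem_Dm, inv_inv] at hd
  exact hd

theorem exists_cr {w : G} (hw : w ∈ W A L 1) (hnc : ¬ Com V w) : ∃ τ, Cr A L V Z D τ := by
  obtain ⟨l, hl, hm⟩ := h.moves
  obtain ⟨s, hs, h1⟩ := h.exists_window hc one_pos hl hm hw hnc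
  exact ⟨s 0, hs 0, l, hl, hm, s 1, hs 1, h1⟩

end

section

variable [Finite G] (hc : ∀ m < 1, ∀ w ∈ W A L m, Com V w)
variable {τ : G} (hτ : Cr A L V Z D τ)

include hτ

omit [Finite G] in
theorem F_le {f : G} (hf : f ∈ Dm D τ) : f ∈ Z := by
  obtain ⟨d, hd, rfl⟩ := mem_Dm' hf
  exact h.cjZ hτ.1 (h.DZ hd)

include hc

theorem F_L {f l : G} (hf : f ∈ Dm D τ) (hl : l ∈ L) : cj l f = f := by
  obtain ⟨d, hd, rfl⟩ := mem_Dm' hf
  exact (h.cr_mate hc hτ).cent l hl d hd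

omit hτ in
omit [Finite G] in
theorem Wset_Q {x : G} (hx : x ∈ Wset A L V Z D) : x ∈ Q := by
  rcases hx with hx | ⟨l, hl, τ, hτ, v, hv, rfl⟩
  · exact h.VQ hx
  · apply h.cjQ hl
    apply h.QcV _ (h.cjB hτ.1 (h.VB hv))
    intro u hu
    exact (hc 0 one_pos τ hτ.1 u hu v hv).symm

omit hτ in
omit [Finite G] in
theorem Wg_le_Q : Wg A L V Z D ≤ Q := by
  rw [Wg, Subgroup.closure_le]
  intro x hx
  exact h.Wset_Q hc hx

omit [Finite G] in
theorem Wset_F {x : G} (hx : x ∈ Wset A L V Z D) : ∀ f ∈ Dm D τ, x * f = f * x := fun f hf =>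
  h.VcQ x (h.Wset_Q hc hx) f (h.ZV (h.F_le hτ hf))

theorem Wset_comm : ∀ s ∈ Wset A L V Z D, ∀ t ∈ Wset A L V Z D,
    ∃ f ∈ Dm D τ, cj s t = f * t := by
  intro s hs t ht
  have htQ := h.Wset_Q hc ht
  have hsQ := h.Wset_Q hc hs
  rcases hs with hs | ⟨l, hl, σ, hσ, v, hv, rfl⟩
  · refine ⟨1, (Dm D τ).one_mem, ?_⟩
    rw [one_mul, cj_eq_self]
    exact (h.VcQ t htQ s hs).symm
  · rcases ht with ht | ⟨l', hl', σ', hσ', v', hv', rfl⟩
    · refine ⟨1, (Dm D τ).one_mem, ?_⟩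
      rw [one_mul, cj_eq_self]
      exact h.VcQ _ hsQ t ht
    · have hw : σ⁻¹ * (l⁻¹ * l') * σ' ∈ W A L 1 :=
        ⟨σ⁻¹, A.inv_mem hσ.1, l⁻¹ * l', L.mul_mem (L.inv_mem hl) hl', σ', hσ'.1, rfl⟩
      have hb := h.memB' hc le_rfl hw hv'
      obtain ⟨d, hd, h1⟩ := h.comm' hv hb
      refine ⟨cj σ d, ?_, ?_⟩
      · rw [h.cr_D hc hτ hσ]; exact cj_mem_Dm hd
      · have e : cj (cj l (cj σ v)) (cj l' (cj σ' v')) =
            cj l (cj σ (cj v (cj (σ⁻¹ * (l⁻¹ * l') * σ') v'))) := by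
          simp [cj, mul_assoc]
        have e2 : cj l (cj σ (cj (σ⁻¹ * (l⁻¹ * l') * σ') v')) = cj l' (cj σ' v') := by
          simp [cj, mul_assoc]
        rw [e, h1, cj_prod, cj_prod, e2, (h.cr_mate hc hσ).cent l hl d hd]

theorem Wg_comm : ∀ x ∈ Wg A L V Z D, ∀ y ∈ Wg A L V Z D, ∃ f ∈ Dm D τ, cj x y = f * y :=
  closure_comm (fun _ hs => h.Wset_F hc hτ hs) (h.Wset_comm hc hτ)

omit hc hτ in
omit [Finite G] in
theorem Wg_L {l x : G} (hl : l ∈ L) (hx : x ∈ Wg A L V Z D) : cj l x ∈ Wg A L V Z D := by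
  refine Data.closure_conj ?_ x hx
  rintro x (hx | ⟨l', hl', σ, hσ, v, hv, rfl⟩)
  · exact V_le_Wg (h.cjV hl hx)
  · rw [← cj_mul]
    exact mem_Wg hσ (L.mul_mem hl hl') hv

theorem Q_comm {q : G} (hq : q ∈ Q) : ∀ x ∈ Wg A L V Z D, ∃ f ∈ Dm D τ, cj q x = f * x := by
  apply closure_left (fun _ hs => h.Wset_F hc hτ hs)
  rintro s (hs | ⟨l, hl, σ, hσ, v, hv, rfl⟩)
  · refine ⟨1, (Dm D τ).one_mem, ?_⟩
    rw [one_mul, cj_eq_self]
    exact h.VcQ q hq s hs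
  · have hb : cj σ⁻¹ (cj l⁻¹ q) ∈ B := h.cjB (A.inv_mem hσ.1) (h.QB (h.cjQ (L.inv_mem hl) hq))
    obtain ⟨d, hd, h1⟩ := h.commB hv hb
    refine ⟨cj σ d, ?_, ?_⟩
    · rw [h.cr_D hc hτ hσ]; exact cj_mem_Dm hd
    · have e : cj q (cj l (cj σ v)) = cj l (cj σ (cj (cj σ⁻¹ (cj l⁻¹ q)) v)) := by
        simp [cj, mul_assoc]
      rw [e, h1, cj_prod, cj_prod, (h.cr_mate hc hσ).cent l hl d hd]

omit hc in
omit [Finite G] in
theorem B_comm {b : G} (hb : b ∈ B) {v : G} (hv : v ∈ V) :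
    ∃ f ∈ Dm D τ, cj b (cj τ v) = f * cj τ v := by
  have hb' : cj τ⁻¹ b ∈ B := h.cjB (A.inv_mem hτ.1) hb
  obtain ⟨d, hd, h1⟩ := h.commB hv hb'
  refine ⟨cj τ d, cj_mem_Dm hd, ?_⟩
  have e : cj b (cj τ v) = cj τ (cj (cj τ⁻¹ b) v) := by simp [cj, mul_assoc]
  rw [e, h1, cj_prod]

omit [Finite G] hc hτ in
theorem word_mem {τ m σ : G} (hτ : τ ∈ A) (hm : m ∈ L) (hσ : σ ∈ A) : τ * m * σ ∈ W A L 1 :=
  ⟨τ, hτ, m, hm, σ, hσ, rfl⟩

/-- an element of `W` commuting with `cj τ V` is centralised by `B` modulo `V` -/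
theorem B_fix {x : G} (hx : x ∈ Wg A L V Z D) (hxc : ∀ u ∈ V, x * cj τ u = cj τ u * x) {b : G}
    (hb : b ∈ B) : ∃ v ∈ V, cj b x = v * x := by
  obtain ⟨hτA, m, hm, hmv, σ, hσA, hnc⟩ := id hτ
  have hσ := h.cr_right hc hτA hm hmv hσA hnc
  obtain ⟨v, hv, q, hq, rfl⟩ := h.crit_B hc (h.word_mem hτA hm hσA) hnc hb
  obtain ⟨f, hf, h1⟩ := h.Q_comm hc hτ hq x hx
  -- the element `cj τ⁻¹ x` lies in `Q`
  have hxQ : cj τ⁻¹ x ∈ Q := by
    apply h.QcV _ (h.cjB (A.inv_mem hτA) (h.QB (h.Wg_le_Q hc hx)))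
    intro u hu
    have := (cj_comm (g := τ⁻¹)).2 (hxc u hu)
    rwa [cj_inv_cj] at this
  obtain ⟨f', hf', h2⟩ := h.Q_comm hc hτ hxQ _ (mem_Wg hσ hm hv)
  -- `cj (cj τ⁻¹ x) y = f' * y`, so `cj y (cj τ⁻¹ x) = f'⁻¹ * cj τ⁻¹ x`
  have h3 : cj (cj m (cj σ v)) (cj τ⁻¹ x) = f'⁻¹ * cj τ⁻¹ x := by
    set y := cj m (cj σ v)
    set z := cj τ⁻¹ x
    have h4 : z * y = f' * y * z := by rw [← h2, cj]; simp [mul_assoc]
    have h5 : y * z = f'⁻¹ * z * y := by rw [mul_assoc f'⁻¹ z y, h4]; simp [mul_assoc]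
    rw [cj, h5]; simp
  have h6 : cj (cj (τ * m * σ) v) x = (cj τ f')⁻¹ * x := by
    have e : cj (cj (τ * m * σ) v) x = cj τ (cj (cj m (cj σ v)) (cj τ⁻¹ x)) := by
      simp [cj, mul_assoc]
    rw [e, h3, cj_prod, cj_inv, cj_cj_inv]
  -- `cj τ f' ∈ D`
  have h7 : cj τ f' ∈ V := h.DV (h.cr_DD hc hτ hf')
  refine ⟨cj (cj (τ * m * σ) v) f * (cj τ f')⁻¹, ?_, ?_⟩
  · apply V.mul_mem
    · apply h.cjV _ (h.ZV (h.F_le hτ hf))
      exact h.BL (h.memB' hc le_rfl (h.word_mem hτA hm hσA) hv)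
    · exact V.inv_mem h7
  · rw [cj_mul, h1, cj_prod, h6]
    simp only [mul_assoc]

/-- `W = cj m (cj σ V) * C_W(cj τ V)` for a critical word `τ⁻¹ m σ` -/
theorem dec0 {m σ : G} (hσ : Cr A L V Z D σ) (hm : m ∈ L) (hnc : ¬ Com V (τ⁻¹ * m * σ)) {x : G}
    (hx : x ∈ Wg A L V Z D) :
    ∃ y ∈ V, ∃ u ∈ Wg A L V Z D, x = cj m (cj σ y) * u ∧
      (∀ v ∈ V, u * cj τ v = cj τ v * u) := by
  have hxB : cj τ⁻¹ x ∈ B := h.cjB (A.inv_mem hτ.1) (h.QB (h.Wg_le_Q hc hx))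
  obtain ⟨y, hy, q, hq, h1⟩ := h.crit_B hc (h.word_mem (A.inv_mem hτ.1) hm hσ.1) hnc hxB
  have h2 : x = cj m (cj σ y) * cj τ q := by
    have := congrArg (cj τ) h1
    rw [cj_cj_inv, cj_prod] at this
    rw [this]; simp [cj, mul_assoc]
  refine ⟨y, hy, cj τ q, ?_, h2, fun v hv => cj_comm.2 (h.VcQ q hq v hv)⟩
  have h3 : cj τ q = (cj m (cj σ y))⁻¹ * x := by rw [h2]; simp
  rw [h3]
  exact (Wg A L V Z D).mul_mem ((Wg A L V Z D).inv_mem (mem_Wg hσ hm hy)) hx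

omit hc hτ in
omit [Finite G] in
theorem CT_of_gen {m : G} (hm : m ∈ L) (hmv : Mv D Z m) {x : G} (hx : x ∈ Wg A L V Z D)
    (h1 : ∀ b ∈ B, ∃ v ∈ V, cj b x = v * x) (h2 : ∀ b ∈ B, ∃ v ∈ V, cj (m * b * m⁻¹) x = v * x) :
    CT A L V Z D x := by
  refine ⟨hx, ?_⟩
  let K : Subgroup G :=
    { carrier := {l | l ∈ L ∧ ∃ v ∈ V, cj l x = v * x}
      one_mem' := ⟨L.one_mem, 1, V.one_mem, by rw [cj_one, one_mul]⟩
      mul_mem' := by
        rintro a b ⟨ha, v, hv, h3⟩ ⟨hb, v', hv', h4⟩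
        refine ⟨L.mul_mem ha hb, cj a v' * v, V.mul_mem (h.cjV ha hv') hv, ?_⟩
        rw [cj_mul, h4, cj_prod, h3, mul_assoc]
      inv_mem' := by
        rintro a ⟨ha, v, hv, h3⟩
        refine ⟨L.inv_mem ha, (cj a⁻¹ v)⁻¹, V.inv_mem (h.cjV (L.inv_mem ha) hv), ?_⟩
        have := congrArg (cj a⁻¹) h3
        rw [cj_inv_cj, cj_prod] at this
        rw [eq_inv_mul_iff_mul_eq, ← this] }
  have hK : L ≤ K := by
    apply h.gen m hm hmv K
    · intro b hb
      exact ⟨h.BL hb, h1 b hb⟩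
    · intro b hb
      exact ⟨L.mul_mem (L.mul_mem hm (h.BL hb)) (L.inv_mem hm), h2 b hb⟩
  intro l hl
  exact (hK hl).2

/-- elements which are centralised by `B` modulo `V` commute with all `cj τ V` -/
theorem B_comm' {x : G} (hx : x ∈ Wg A L V Z D) (hxB : ∀ b ∈ B, ∃ v ∈ V, cj b x = v * x) {v : G}
    (hv : v ∈ V) : x * cj τ v = cj τ v * x := by
  obtain ⟨hτA, m, hm, hmv, σ, hσA, hnc⟩ := h.cr_inv hc hτ
  have hσ := h.cr_right hc hτA hm hmv hσA hnc
  obtain ⟨y, hy, u, hu, h1, h2⟩ := h.dec0 hc hτ hσ hm hnc hx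
  -- `y' := cj m (cj σ y)` lies in `C~`
  have hy' : CT A L V Z D (cj m (cj σ y)) := by
    apply h.CT_of_gen hm hmv (mem_Wg hσ hm hy)
    · intro b hb
      obtain ⟨v₁, hv₁, h3⟩ := hxB b hb
      obtain ⟨v₂, hv₂, h4⟩ := h.B_fix hc hτ hu h2 hb
      refine ⟨v₁ * v₂⁻¹, V.mul_mem hv₁ (V.inv_mem hv₂), ?_⟩
      have h5 : cj m (cj σ y) = x * u⁻¹ := by rw [h1]; simp
      have h6 : u⁻¹ * v₂⁻¹ = v₂⁻¹ * u⁻¹ :=
        h.VcQ u⁻¹ (Q.inv_mem (h.Wg_le_Q hc hu)) v₂⁻¹ (V.inv_mem hv₂)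
      have h7 : x * v₂⁻¹ = v₂⁻¹ * x := h.VcQ x (h.Wg_le_Q hc hx) v₂⁻¹ (V.inv_mem hv₂)
      rw [h5, cj_prod, cj_inv, h3, h4, mul_inv_rev, h6]
      calc v₁ * x * (v₂⁻¹ * u⁻¹) = v₁ * (x * v₂⁻¹) * u⁻¹ := by simp [mul_assoc]
        _ = v₁ * (v₂⁻¹ * x) * u⁻¹ := by rw [h7]
        _ = v₁ * v₂⁻¹ * (x * u⁻¹) := by simp [mul_assoc]
    · intro b hb
      obtain ⟨f, hf, h3⟩ := h.B_comm hσ hb hy
      refine ⟨f, h.ZV (h.F_le hσ hf), ?_⟩
      rw [cj_mul, cj_mul, cj_inv_cj, h3, cj_prod, h.F_L hc hσ hf hm]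
  obtain ⟨v₁, hv₁, h3⟩ := hy'.2 m⁻¹ (L.inv_mem hm)
  rw [cj_inv_cj] at h3
  have h4 : cj m (cj σ y) = v₁⁻¹ * cj σ y := by rw [eq_inv_mul_iff_mul_eq, ← h3]
  rw [h1, h4]
  have k1 : Commute v₁ (cj τ v) := hc 0 one_pos τ hτ.1 v₁ hv₁ v hv
  have k2 : Commute (cj σ y) (cj τ v) := by
    have h5 := hc 0 one_pos (τ⁻¹ * σ) (A.mul_mem (A.inv_mem hτ.1) hσ.1) v hv y hy
    have h6 := (cj_comm (g := τ)).2 h5
    have e : cj τ (cj (τ⁻¹ * σ) y) = cj σ y := by simp [cj, mul_assoc]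
    rw [e] at h6
    exact h6.symm
  have k3 : Commute u (cj τ v) := h2 v hv
  exact (k1.inv_left.mul_left k2).mul_left k3

/-- all words are critical -/
theorem all_crit {m σ : G} (hσ : Cr A L V Z D σ) (hm : m ∈ L) (hmv : Mv D Z m) :
    ¬ Com V (τ⁻¹ * m * σ) := by
  intro hcom
  obtain ⟨ρ, hρ, hnc⟩ := h.cr_left hc hσ hm hmv
  apply hnc
  intro v hv u hu
  have h1 : ∀ b ∈ B, ∃ v ∈ V, cj b (cj m (cj σ u)) = v * cj m (cj σ u) := by
    intro b hb
    refine h.B_fix hc hτ (mem_Wg hσ hm hu) (fun v hv => ?_) hb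
    have h2 := (cj_comm (g := τ)).2 (hcom v hv u hu)
    have e : cj τ (cj (τ⁻¹ * m * σ) u) = cj m (cj σ u) := by simp [cj, mul_assoc]
    rw [e] at h2
    exact h2.symm
  have h2 := h.B_comm' hc hρ (mem_Wg hσ hm hu) h1 hv
  have h3 := (cj_comm (g := ρ⁻¹)).2 h2
  rw [cj_inv_cj] at h3
  have e : cj ρ⁻¹ (cj m (cj σ u)) = cj (ρ⁻¹ * m * σ) u := by simp [cj, mul_assoc]
  rw [e] at h3
  exact h3.symm

theorem crit_tau {m : G} (hm : m ∈ L) (hmv : Mv D Z m) : ¬ Com V (τ⁻¹ * m * τ) :=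
  h.all_crit hc hτ hτ hm hmv

theorem crit_word {m : G} (hm : m ∈ L) (hmv : Mv D Z m) : ¬ Com V (τ * m * τ) := by
  have := h.all_crit hc (h.cr_inv hc hτ) hτ hm hmv
  rwa [inv_inv] at this

/-- `W = cj l₀ (cj τ V) * C_W(cj τ V)` -/
theorem dec {m : G} (hm : m ∈ L) (hmv : Mv D Z m) {x : G} (hx : x ∈ Wg A L V Z D) :
    ∃ y ∈ V, ∃ u ∈ Wg A L V Z D, x = cj m (cj τ y) * u ∧ (∀ v ∈ V, u * cj τ v = cj τ v * u) := by
  have hxB : cj τ⁻¹ x ∈ B := h.cjB (A.inv_mem hτ.1) (h.QB (h.Wg_le_Q hc hx))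
  obtain ⟨y, hy, q, hq, h1⟩ :=
    h.crit_B hc (h.word_mem (A.inv_mem hτ.1) hm hτ.1) (h.crit_tau hc hτ hm hmv) hxB
  have h2 : x = cj m (cj τ y) * cj τ q := by
    have := congrArg (cj τ) h1
    rw [cj_cj_inv, cj_prod] at this
    rw [this]; simp [cj, mul_assoc]
  refine ⟨y, hy, cj τ q, ?_, h2, fun v hv => cj_comm.2 (h.VcQ q hq v hv)⟩
  have h3 : cj τ q = (cj m (cj τ y))⁻¹ * x := by rw [h2]; simp
  rw [h3]
  exact (Wg A L V Z D).mul_mem ((Wg A L V Z D).inv_mem (mem_Wg hτ hm hy)) hx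

/-- `W = cj τ V * C_W(cj l₀ (cj τ V))` -/
theorem dec' {m : G} (hm : m ∈ L) (hmv : Mv D Z m) {x : G} (hx : x ∈ Wg A L V Z D) :
    ∃ y ∈ V, ∃ u ∈ Wg A L V Z D, x = cj τ y * u ∧
      (∀ v ∈ V, u * cj m (cj τ v) = cj m (cj τ v) * u) := by
  obtain ⟨y, hy, u, hu, h1, h2⟩ := h.dec hc hτ (L.inv_mem hm) (h.mvinv m hm hmv)
    (h.Wg_L (L.inv_mem hm) hx)
  refine ⟨y, hy, cj m u, h.Wg_L hm hu, ?_, fun v hv => cj_comm.2 (h2 v hv)⟩
  have := congrArg (cj m) h1
  rw [cj_cj_inv, cj_prod, cj_cj_inv] at this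
  exact this

/-- the complete decomposition -/
theorem dec2 {m : G} (hm : m ∈ L) (hmv : Mv D Z m) {x : G} (hx : x ∈ Wg A L V Z D) :
    ∃ y ∈ V, ∃ z ∈ V, ∃ u ∈ Wg A L V Z D, x = cj m (cj τ y) * cj τ z * u ∧
      (∀ v ∈ V, u * cj τ v = cj τ v * u) ∧
      (∀ v ∈ V, u * cj m (cj τ v) = cj m (cj τ v) * u) := by
  obtain ⟨y, hy, u, hu, h1, h2⟩ := h.dec hc hτ hm hmv hx
  obtain ⟨z, hz, u', hu', h3, h4⟩ := h.dec' hc hτ hm hmv hu
  refine ⟨y, hy, z, hz, u', hu', by rw [h1, h3, mul_assoc], ?_, h4⟩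
  intro v hv
  have h5 : u' = (cj τ z)⁻¹ * u := by rw [h3]; simp
  rw [h5]
  have k1 : Commute u (cj τ v) := h2 v hv
  have k2 : Commute (cj τ z) (cj τ v) := by
    have : z * v = v * z := h.VcQ z (h.VQ hz) v hv
    exact cj_comm.2 this
  exact (k2.inv_left).mul_left k1

theorem CT_of_cent {m : G} (hm : m ∈ L) (hmv : Mv D Z m) {x : G} (hx : x ∈ Wg A L V Z D)
    (h1 : ∀ v ∈ V, x * cj τ v = cj τ v * x)
    (h2 : ∀ v ∈ V, x * cj m (cj τ v) = cj m (cj τ v) * x) : CT A L V Z D x := by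
  apply h.CT_of_gen hm hmv hx
  · intro b hb
    exact h.B_fix hc hτ hx h1 hb
  · intro b hb
    have h3 : ∀ v ∈ V, cj m⁻¹ x * cj τ v = cj τ v * cj m⁻¹ x := by
      intro v hv
      have := (cj_comm (g := m⁻¹)).2 (h2 v hv)
      rwa [cj_inv_cj] at this
    obtain ⟨v, hv, h4⟩ := h.B_fix hc hτ (h.Wg_L (L.inv_mem hm) hx) h3 hb
    refine ⟨cj m v, h.cjV hm hv, ?_⟩
    rw [cj_mul, cj_mul, h4, cj_prod, cj_cj_inv]

omit hc hτ in
omit [Finite G] in
theorem CT_V {v : G} (hv : v ∈ V) : CT A L V Z D v :=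
  ⟨V_le_Wg hv, fun l hl => ⟨cj l v * v⁻¹, V.mul_mem (h.cjV hl hv) (V.inv_mem hv), by simp⟩⟩

omit hτ in
omit [Finite G] in
theorem CT_mul {x y : G} (hx : CT A L V Z D x) (hy : CT A L V Z D y) : CT A L V Z D (x * y) := by
  refine ⟨(Wg A L V Z D).mul_mem hx.1 hy.1, fun l hl => ?_⟩
  obtain ⟨v, hv, h1⟩ := hx.2 l hl
  obtain ⟨v', hv', h2⟩ := hy.2 l hl
  refine ⟨v * v', V.mul_mem hv hv', ?_⟩
  have h3 : x * v' = v' * x := h.VcQ x (h.Wg_le_Q hc hx.1) v' hv'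
  rw [cj_prod, h1, h2]
  calc v * x * (v' * y) = v * (x * v') * y := by simp [mul_assoc]
    _ = v * (v' * x) * y := by rw [h3]
    _ = v * v' * (x * y) := by simp [mul_assoc]

omit hτ in
omit [Finite G] in
theorem CT_inv {x : G} (hx : CT A L V Z D x) : CT A L V Z D x⁻¹ := by
  refine ⟨(Wg A L V Z D).inv_mem hx.1, fun l hl => ?_⟩
  obtain ⟨v, hv, h1⟩ := hx.2 l hl
  refine ⟨v⁻¹, V.inv_mem hv, ?_⟩
  have h3 : x⁻¹ * v⁻¹ = v⁻¹ * x⁻¹ :=
    h.VcQ x⁻¹ (Q.inv_mem (h.Wg_le_Q hc hx.1)) v⁻¹ (V.inv_mem hv)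
  rw [cj_inv, h1, mul_inv_rev, h3]

omit hc hτ in
omit [Finite G] in
theorem CT_L {x l : G} (hx : CT A L V Z D x) (hl : l ∈ L) : CT A L V Z D (cj l x) := by
  refine ⟨h.Wg_L hl hx.1, fun k hk => ?_⟩
  obtain ⟨v, hv, h1⟩ := hx.2 l hl
  obtain ⟨v', hv', h2⟩ := hx.2 (k * l) (L.mul_mem hk hl)
  refine ⟨v' * v⁻¹, V.mul_mem hv' (V.inv_mem hv), ?_⟩
  rw [← cj_mul, h2, h1]; simp [mul_assoc]

/-- `C~` centralises `cj τ V` -/
theorem CT_comm {x : G} (hx : CT A L V Z D x) {v : G} (hv : v ∈ V) :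
    x * cj τ v = cj τ v * x :=
  h.B_comm' hc hτ hx.1 (fun b hb => hx.2 b (h.BL hb)) hv

/-- `C~` is central in `W` -/
theorem CT_central {x : G} (hx : CT A L V Z D x) {y : G} (hy : y ∈ Wg A L V Z D) : x * y = y * x := by
  have hle : Wg A L V Z D ≤ Subgroup.centralizer {x} := by
    rw [Wg, Subgroup.closure_le]
    rintro y (hy | ⟨l, hl, σ, hσ, v, hv, rfl⟩)
    · rw [SetLike.mem_coe, Subgroup.mem_centralizer_iff]
      intro z hz
      rw [Set.mem_singleton_iff] at hz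
      rw [hz]
      exact h.VcQ x (h.Wg_le_Q hc hx.1) y hy
    · rw [SetLike.mem_coe, Subgroup.mem_centralizer_iff]
      intro z hz
      rw [Set.mem_singleton_iff] at hz
      rw [hz]
      have h1 := h.CT_comm hc hσ (h.CT_L hx (L.inv_mem hl)) hv
      have h2 := (cj_comm (g := l)).2 h1
      rwa [cj_cj_inv] at h2
  exact Subgroup.mem_centralizer_iff.1 (hle hy) x rfl

/-- `B` moves `y` onto the whole coset -/
theorem cover {m : G} (hm : m ∈ L) (hmv : Mv D Z m) {y : G} (hy : y ∈ V) (hyZ : y ∉ Z) {x : G}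
    (hx : x ∈ V) :
    ∃ b ∈ B, CT A L V Z D ((cj m (cj τ y) * cj τ x)⁻¹ * cj b (cj m (cj τ y))) := by
  classical
  -- decomposition of `y⁻¹ * cj b y`
  have hdec : ∀ b : B, ∃ x : V,
      CT A L V Z D ((cj m (cj τ y) * cj τ (x : G))⁻¹ * cj (b : G) (cj m (cj τ y))) := by
    rintro ⟨b, hb⟩
    have hbL := h.BL hb
    have hyW : cj m (cj τ y) ∈ Wg A L V Z D := mem_Wg hτ hm hy
    obtain ⟨x, hx, u, hu, h1, h2⟩ := h.dec' hc hτ hm hmv
      ((Wg A L V Z D).mul_mem ((Wg A L V Z D).inv_mem hyW) (h.Wg_L hbL hyW))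
    refine ⟨⟨x, hx⟩, ?_⟩
    have h3 : (cj m (cj τ y) * cj τ x)⁻¹ * cj b (cj m (cj τ y)) = u := by
      rw [mul_inv_rev, mul_assoc, h1]; simp
    show CT A L V Z D ((cj m (cj τ y) * cj τ x)⁻¹ * cj b (cj m (cj τ y)))
    rw [h3]
    apply h.CT_of_cent hc hτ hm hmv hu _ h2
    intro v hv
    -- `y⁻¹ * cj b y` commutes with `cj τ v`
    set y' := cj m (cj τ y) with hy'
    have h4 : cj (y'⁻¹ * cj b y') (cj τ v) = cj τ v := by
      obtain ⟨f₁, hf₁, k1⟩ := h.Wg_comm hc hτ y' hyW (cj τ v) (mem_Wg' hτ hv)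
      obtain ⟨f₂, hf₂, k2⟩ := h.B_comm hτ (B.inv_mem hb) hv
      have k3 : cj y' f₂ = f₂ :=
        cj_eq_self.2 (h.VcQ _ (h.Wg_le_Q hc hyW) _ (h.ZV (h.F_le hτ hf₂)))
      have k4 : cj b f₁ = f₁ := cj_eq_self.2 (h.BcZ b hb _ (h.F_le hτ hf₁))
      have k5 : f₂ * f₁ = f₁ * f₂ :=
        h.VcQ _ (h.VQ (h.ZV (h.F_le hτ hf₂))) _ (h.ZV (h.F_le hτ hf₁))
      have e : cj (y'⁻¹ * cj b y') (cj τ v) = cj y'⁻¹ (cj b (cj y' (cj b⁻¹ (cj τ v)))) := by
        simp [cj, mul_assoc]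
      rw [e, k2, cj_prod, k3, k1, ← mul_assoc, k5, mul_assoc, cj_prod, k4, ← k2, cj_cj_inv, ← k1,
        cj_inv_cj]
    have h5 : u = (cj τ x)⁻¹ * (y'⁻¹ * cj b y') := by rw [h1]; simp
    have k1 : Commute (y'⁻¹ * cj b y') (cj τ v) := cj_eq_self.1 h4
    have k2 : Commute (cj τ x) (cj τ v) := cj_comm.2 (h.VcQ x (h.VQ hx) v hv)
    rw [h5]
    exact k2.inv_left.mul_left k1
  choose f hf using hdec
  let g : B ⧸ Q.subgroupOf B → V ⧸ Z.subgroupOf V := fun q => Quotient.mk'' (f (Quotient.out q))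
  have hg : Function.Injective g := by
    intro q₁ q₂ hq
    have hq' : (Quotient.mk'' (f (Quotient.out q₁)) : V ⧸ Z.subgroupOf V) =
      Quotient.mk'' (f (Quotient.out q₂)) := hq
    rw [Quotient.eq'', QuotientGroup.leftRel_apply, Subgroup.mem_subgroupOf] at hq'
    rw [← Quotient.out_eq' q₁, ← Quotient.out_eq' q₂, Quotient.eq'', QuotientGroup.leftRel_apply,
      Subgroup.mem_subgroupOf]
    set b₁ := Quotient.out q₁
    set b₂ := Quotient.out q₂
    by_contra hbQ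
    apply hyZ
    have hbB : (b₁ : G)⁻¹ * b₂ ∈ B := B.mul_mem (B.inv_mem b₁.2) b₂.2
    have hmv' := h.ti m hm hmv _ hbB (by simpa using hbQ)
    have hmL : m⁻¹ * ((b₁ : G)⁻¹ * b₂) * m ∈ L :=
      L.mul_mem (L.mul_mem (L.inv_mem hm) (h.BL hbB)) hm
    apply h.crit_Z hc (h.word_mem (A.inv_mem hτ.1) hmL hτ.1) (h.crit_tau hc hτ hmL hmv') hy
    intro u hu
    have c1 := hf b₁
    have c2 := hf b₂
    set c₁ := (cj m (cj τ y) * cj τ (f b₁ : G))⁻¹ * cj (b₁ : G) (cj m (cj τ y)) with hc₁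
    set c₂ := (cj m (cj τ y) * cj τ (f b₂ : G))⁻¹ * cj (b₂ : G) (cj m (cj τ y)) with hc₂
    have hz : CT A L V Z D (cj τ ((f b₁ : G)⁻¹ * (f b₂ : G))) :=
      h.CT_V (h.ZV (h.cjZ hτ.1 (by simpa using hq')))
    have hc' : CT A L V Z D (c₁⁻¹ * cj τ ((f b₁ : G)⁻¹ * (f b₂ : G)) * c₂) :=
      h.CT_mul hc (h.CT_mul hc (h.CT_inv hc c1) hz) c2
    set c := c₁⁻¹ * cj τ ((f b₁ : G)⁻¹ * (f b₂ : G)) * c₂ with hcdef
    have e1 : cj (b₂ : G) (cj m (cj τ y)) = cj (b₁ : G) (cj m (cj τ y)) * c := by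
      rw [hcdef, hc₁, hc₂, cj_prod τ, cj_inv τ]
      simp [mul_assoc]
    have e2 : cj (b₁ : G) (cj m (cj τ y)) = cj (b₂ : G) (cj m (cj τ y)) * c⁻¹ := by
      rw [e1]; simp
    -- `cj b₁ y'` commutes with `cj b₂ u'`
    have k1 : Commute (cj (b₂ : G) (cj m (cj τ y))) (cj (b₂ : G) (cj m (cj τ u))) :=
      cj_comm.2 (cj_comm.2 (cj_comm.2 (h.VcQ y (h.VQ hy) u hu)))
    have k2 : Commute c (cj (b₂ : G) (cj m (cj τ u))) :=
      h.CT_central hc hτ hc' (h.Wg_L (h.BL b₂.2) (mem_Wg hτ hm hu))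
    have k3 : Commute (cj (b₁ : G) (cj m (cj τ y))) (cj (b₂ : G) (cj m (cj τ u))) := by
      rw [e2]; exact k1.mul_left k2.inv_left
    have k4 := (cj_comm (g := τ⁻¹)).2 ((cj_comm (g := m⁻¹)).2
      ((cj_comm (g := (b₁ : G)⁻¹)).2 k3.eq))
    rw [cj_inv_cj, cj_inv_cj, cj_inv_cj] at k4
    have e3 : cj τ⁻¹ (cj m⁻¹ (cj (b₁ : G)⁻¹ (cj (b₂ : G) (cj m (cj τ u))))) =
        cj (τ⁻¹ * (m⁻¹ * ((b₁ : G)⁻¹ * b₂) * m) * τ) u := by
      simp [cj, mul_assoc]
    rw [e3] at k4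
    exact k4
  have hbij := Function.Injective.bijective_of_nat_card_le hg
    (h.crit_card hc (h.word_mem hτ.1 hm hτ.1) (h.crit_word hc hτ hm hmv))
  obtain ⟨q, hq⟩ := hbij.2 (Quotient.mk'' ⟨x, hx⟩)
  have hq' : (Quotient.mk'' (f (Quotient.out q)) : V ⧸ Z.subgroupOf V) =
      Quotient.mk'' ⟨x, hx⟩ := hq
  rw [Quotient.eq'', QuotientGroup.leftRel_apply, Subgroup.mem_subgroupOf] at hq'
  set b := Quotient.out q
  refine ⟨b, b.2, ?_⟩
  have hz : CT A L V Z D (cj τ ((f b : G)⁻¹ * x))⁻¹ :=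
    h.CT_inv hc (h.CT_V (h.ZV (h.cjZ hτ.1 (by simpa using hq'))))
  have := h.CT_mul hc hz (hf b)
  have e : (cj τ ((f b : G)⁻¹ * x))⁻¹ * ((cj m (cj τ y) * cj τ (f b : G))⁻¹ *
      cj (b : G) (cj m (cj τ y))) = (cj m (cj τ y) * cj τ x)⁻¹ * cj (b : G) (cj m (cj τ y)) := by
    rw [cj_prod τ, cj_inv τ]
    simp [mul_assoc]
  rw [e] at this
  exact this

end

/-- if `V` does not commute with `V ^ t`, then `t` normalises `D` -/
theorem noncomm_D [Finite G] {t v u : G} (ht : t ∈ A) (hv : v ∈ V) (hu : u ∈ V)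
    (hne : v * (t * u * t⁻¹) ≠ (t * u * t⁻¹) * v) {d : G} (hd : d ∈ D) : t * d * t⁻¹ ∈ D := by
  have hc : ∀ m < 0, ∀ w ∈ W A L m, Com V w := fun m hm => absurd hm (Nat.not_lt_zero m)
  exact h.crit_D hc (show t ∈ W A L 0 from ht) (fun hcom => hne (hcom v hv u hu)) hd

/-- if `V` does not commute with `V ^ t`, then `V ^ t` covers `B / Q` -/
theorem noncomm_B [Finite G] {t v u : G} (ht : t ∈ A) (hv : v ∈ V) (hu : u ∈ V)
    (hne : v * (t * u * t⁻¹) ≠ (t * u * t⁻¹) * v) {b : G} (hb : b ∈ B) :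
    ∃ v ∈ V, ∃ q ∈ Q, b = t * v * t⁻¹ * q := by
  have hc : ∀ m < 0, ∀ w ∈ W A L m, Com V w := fun m hm => absurd hm (Nat.not_lt_zero m)
  exact h.crit_B hc (show t ∈ W A L 0 from ht) (fun hcom => hne (hcom v hv u hu)) hb

/-- if `V` does not commute with `V ^ t`, then the centraliser of `V ^ t` in `V` is `Z` -/
theorem noncomm_Z {t v u : G} (ht : t ∈ A) (hv : v ∈ V) (hu : u ∈ V)
    (hne : v * (t * u * t⁻¹) ≠ (t * u * t⁻¹) * v) {x : G} (hx : x ∈ V)
    (hxc : ∀ u ∈ V, x * (t * u * t⁻¹) = (t * u * t⁻¹) * x) : x ∈ Z := by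
  have hc : ∀ m < 0, ∀ w ∈ W A L m, Com V w := fun m hm => absurd hm (Nat.not_lt_zero m)
  exact h.crit_Z hc (show t ∈ W A L 0 from ht) (fun hcom => hne (hcom v hv u hu)) hx hxc

/-- **The two cases**: the distance is one or two. -/
theorem one_or_two [Finite G] :
    (∃ t ∈ A, ∃ v ∈ V, ∃ u ∈ V, v * (t * u * t⁻¹) ≠ (t * u * t⁻¹) * v) ∨
    ((∀ m < 1, ∀ w ∈ W A L m, Com V w) ∧ ∃ w ∈ W A L 1, ¬ Com V w) := by
  classical
  by_contra hcon0
  rw [not_or] at hcon0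
  obtain ⟨hcon, hcon1⟩ := hcon0
  push Not at hcon
  -- some word is critical
  have hex : ∃ n, ∃ w ∈ W A L n, ¬ Com V w := by
    by_contra hall
    push Not at hall
    -- the normal closure
    let R : Subgroup G := Subgroup.closure {x | ∃ n, ∃ w ∈ W A L n, ∃ v ∈ V, x = cj w v}
    have hRB : R ≤ B := by
      rw [Subgroup.closure_le]
      rintro x ⟨n, w, hw, v, hv, rfl⟩
      exact h.memB' (n := n) (fun m _ w hw => hall m w hw) le_rfl hw hv
    have h1 : R = ⊥ := by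
      apply h.core R hRB
      · intro l hl
        apply Data.closure_conj
        rintro x ⟨n, w, hw, v, hv, rfl⟩
        rw [← cj_mul]
        refine Subgroup.subset_closure ⟨n + 1, l * w, ?_, v, hv, rfl⟩
        have := W_cons hw hl A.one_mem
        rwa [one_mul] at this
      · intro a ha
        apply Data.closure_conj
        rintro x ⟨n, w, hw, v, hv, rfl⟩
        rw [← cj_mul]
        exact Subgroup.subset_closure ⟨n, a * w, W_mul_left hw ha, v, hv, rfl⟩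
    obtain ⟨d, hd, hd1⟩ := h.exists_ne
    have h2 : d ∈ R := by
      refine Subgroup.subset_closure ⟨0, 1, A.one_mem, d, h.DV hd, ?_⟩
      rw [cj_one]
    rw [h1] at h2
    exact hd1 (by simpa using h2)
  obtain ⟨w, hw, hnc⟩ := Nat.find_spec hex
  have hmin : ∀ m < Nat.find hex, ∀ w ∈ W A L m, Com V w := by
    intro m hm w hw
    by_contra hcw
    exact Nat.find_min hex hm ⟨w, hw, hcw⟩
  have h0 : Nat.find hex ≠ 0 := by
    intro h0
    rw [h0] at hw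
    exact hnc (fun v hv u hu => hcon w hw v hv u hu)
  rcases Nat.lt_or_ge 1 (Nat.find hex) with h1 | h1
  · exact h.not_two_le hmin h1 hw hnc
  · have h2 : Nat.find hex = 1 := by omega
    rw [h2] at hmin hw
    exact hcon1 ⟨hmin, w, hw, hnc⟩

end Dt

end Cfsg.Agent.H213.Amal
end

-- part: H213/AmalTwo
section
/-!
# The amalgam argument of rank one pushing up: distance two, the section `W / C~`
-/

set_option autoImplicit false
set_option linter.unusedSectionVars false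

namespace Cfsg.Agent.H213.Amal

open Cfsg.Agent.MinSimple.PushUp
open Cfsg.Agent.Omega.PushUp (Mv Dm mem_Dm cj_mem_Dm mem_Dm' closure_left closure_cent
  closure_comm closure_sq)

variable {G : Type*} [Group G]

variable {A L B Q V Z D : Subgroup G}

/-- `C~` as a subgroup -/
def CTs (h : Dt A L B Q V Z D) (hc : ∀ m < 1, ∀ w ∈ W A L m, Com V w) : Subgroup G where
  carrier := {x | CT A L V Z D x}
  one_mem' := h.CT_V V.one_mem
  mul_mem' := fun ha hb => h.CT_mul hc ha hb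
  inv_mem' := fun ha => h.CT_inv hc ha

theorem mem_CTs {h : Dt A L B Q V Z D} {hc : ∀ m < 1, ∀ w ∈ W A L m, Com V w} {x : G} :
    x ∈ CTs h hc ↔ CT A L V Z D x := Iff.rfl

namespace Dt

variable (h : Dt A L B Q V Z D)

include h

section

variable [Finite G] (hc : ∀ m < 1, ∀ w ∈ W A L m, Com V w)
variable {τ : G} (hτ : Cr A L V Z D τ)

include hτ hc

/-- decomposition of `y'⁻¹ * cj b y'` -/
theorem hdec {m : G} (hm : m ∈ L) (hmv : Mv D Z m) {y : G} (hy : y ∈ V) {b : G} (hb : b ∈ B) :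
    ∃ x ∈ V, CT A L V Z D ((cj m (cj τ y) * cj τ x)⁻¹ * cj b (cj m (cj τ y))) := by
  have hbL := h.BL hb
  have hyW : cj m (cj τ y) ∈ Wg A L V Z D := mem_Wg hτ hm hy
  obtain ⟨x, hx, u, hu, h1, h2⟩ := h.dec' hc hτ hm hmv
    ((Wg A L V Z D).mul_mem ((Wg A L V Z D).inv_mem hyW) (h.Wg_L hbL hyW))
  refine ⟨x, hx, ?_⟩
  have h3 : (cj m (cj τ y) * cj τ x)⁻¹ * cj b (cj m (cj τ y)) = u := by
    rw [mul_inv_rev, mul_assoc, h1]; simp
  rw [h3]
  apply h.CT_of_cent hc hτ hm hmv hu _ h2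
  intro v hv
  -- `y⁻¹ * cj b y` commutes with `cj τ v`
  set y' := cj m (cj τ y) with hy'
  have h4 : cj (y'⁻¹ * cj b y') (cj τ v) = cj τ v := by
    obtain ⟨f₁, hf₁, k1⟩ := h.Wg_comm hc hτ y' hyW (cj τ v) (mem_Wg' hτ hv)
    obtain ⟨f₂, hf₂, k2⟩ := h.B_comm hτ (B.inv_mem hb) hv
    have k3 : cj y' f₂ = f₂ :=
      cj_eq_self.2 (h.VcQ _ (h.Wg_le_Q hc hyW) _ (h.ZV (h.F_le hτ hf₂)))
    have k4 : cj b f₁ = f₁ := cj_eq_self.2 (h.BcZ b hb _ (h.F_le hτ hf₁))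
    have k5 : f₂ * f₁ = f₁ * f₂ :=
      h.VcQ _ (h.VQ (h.ZV (h.F_le hτ hf₂))) _ (h.ZV (h.F_le hτ hf₁))
    have e : cj (y'⁻¹ * cj b y') (cj τ v) = cj y'⁻¹ (cj b (cj y' (cj b⁻¹ (cj τ v)))) := by
      simp [cj, mul_assoc]
    rw [e, k2, cj_prod, k3, k1, ← mul_assoc, k5, mul_assoc, cj_prod, k4, ← k2, cj_cj_inv, ← k1,
      cj_inv_cj]
  have h5 : u = (cj τ x)⁻¹ * (y'⁻¹ * cj b y') := by rw [h1]; simp
  have k1 : Commute (y'⁻¹ * cj b y') (cj τ v) := cj_eq_self.1 h4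
  have k2 : Commute (cj τ x) (cj τ v) := cj_comm.2 (h.VcQ x (h.VQ hx) v hv)
  rw [h5]
  exact k2.inv_left.mul_left k1

/-- an element of `V^{τ}` fixed modulo `C~` by an element of `B ∖ Q` lies in `Z` -/
theorem fix_key {m : G} (hm : m ∈ L) (hmv : Mv D Z m) {y : G} (hy : y ∈ V) {b : G} (hb : b ∈ B)
    (hbQ : b ∉ Q) (h1 : CT A L V Z D ((cj m (cj τ y))⁻¹ * cj b (cj m (cj τ y)))) : y ∈ Z := by
  have hmv' := h.ti m hm hmv _ hb hbQ
  have hmL : m⁻¹ * b * m ∈ L := L.mul_mem (L.mul_mem (L.inv_mem hm) (h.BL hb)) hm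
  apply h.crit_Z hc (h.word_mem (A.inv_mem hτ.1) hmL hτ.1) (h.crit_tau hc hτ hmL hmv') hy
  intro u hu
  set c := (cj m (cj τ y))⁻¹ * cj b (cj m (cj τ y)) with hcdef
  have e2 : cj m (cj τ y) = cj b (cj m (cj τ y)) * c⁻¹ := by rw [hcdef]; simp
  have k1 : Commute (cj b (cj m (cj τ y))) (cj b (cj m (cj τ u))) :=
    cj_comm.2 (cj_comm.2 (cj_comm.2 (h.VcQ y (h.VQ hy) u hu)))
  have k2 : Commute c (cj b (cj m (cj τ u))) :=
    h.CT_central hc hτ h1 (h.Wg_L (h.BL hb) (mem_Wg hτ hm hu))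
  have k3 : Commute (cj m (cj τ y)) (cj b (cj m (cj τ u))) := by
    rw [e2]; exact k1.mul_left k2.inv_left
  have k4 := (cj_comm (g := τ⁻¹)).2 ((cj_comm (g := m⁻¹)).2 k3.eq)
  rw [cj_inv_cj, cj_inv_cj] at k4
  have e3 : cj τ⁻¹ (cj m⁻¹ (cj b (cj m (cj τ u)))) = cj (τ⁻¹ * (m⁻¹ * b * m) * τ) u := by
    simp [cj, mul_assoc]
  rw [e3] at k4
  exact k4

end

end Dt

/-- `V^τ C~` as a subgroup -/
def U1 (h : Dt A L B Q V Z D) (hc : ∀ m < 1, ∀ w ∈ W A L m, Com V w) (τ : G) : Subgroup G :=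
  (V.map (MulAut.conj τ).toMonoidHom) ⊔ CTs h hc

namespace Dt

variable (h : Dt A L B Q V Z D)

include h

section

variable [Finite G] (hc : ∀ m < 1, ∀ w ∈ W A L m, Com V w)
variable {τ : G} (hτ : Cr A L V Z D τ)

include hτ hc

theorem mem_U1 {x : G} : x ∈ U1 h hc τ ↔ ∃ v ∈ V, ∃ c, CT A L V Z D c ∧ x = cj τ v * c := by
  have hle : CTs h hc ≤ Subgroup.normalizer ((V.map (MulAut.conj τ).toMonoidHom : Subgroup G) : Set G) := by
    intro c hcc
    have hcc' : CT A L V Z D c := hcc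
    rw [Subgroup.mem_normalizer_iff]
    have hcom : ∀ x ∈ V.map (MulAut.conj τ).toMonoidHom, c * x = x * c := by
      rintro _ ⟨v, hv, rfl⟩
      exact h.CT_comm hc hτ hcc' hv
    intro x
    constructor
    · intro hx
      rw [hcom x hx, mul_assoc, mul_inv_cancel, mul_one]
      exact hx
    · intro hx
      have h1 := hcom _ hx
      have h2 : c * x * c⁻¹ = x := by
        have h3 : c * (c * x * c⁻¹) = c * x * c⁻¹ * c := h1
        rw [inv_mul_cancel_right] at h3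
        exact mul_left_cancel h3
      rwa [h2] at hx
  constructor
  · intro hx
    have h1 : x ∈ ((V.map (MulAut.conj τ).toMonoidHom ⊔ CTs h hc : Subgroup G) : Set G) := hx
    rw [Subgroup.coe_mul_of_right_le_normalizer_left _ _ hle] at h1
    obtain ⟨_, ⟨v, hv, rfl⟩, c, hcc, rfl⟩ := h1
    exact ⟨v, hv, c, hcc, rfl⟩
  · rintro ⟨v, hv, c, hcc, rfl⟩
    exact Subgroup.mul_mem_sup ⟨v, hv, rfl⟩ hcc

omit hτ in
omit [Finite G] in
theorem CTs_le : CTs h hc ≤ Wg A L V Z D := fun _ hx => hx.1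

theorem U1_le : U1 h hc τ ≤ Wg A L V Z D := by
  intro x hx
  obtain ⟨v, hv, c, hcc, rfl⟩ := (h.mem_U1 hc hτ).mp hx
  exact mul_mem (mem_Wg' hτ hv) hcc.1

omit hτ in
omit [Finite G] in
theorem CTs_le_U1 (σ : G) : CTs h hc ≤ U1 h hc σ := le_sup_right

omit [Finite G] hτ in
theorem V_le_CTs : V ≤ CTs h hc := fun _ hv => h.CT_V hv

omit [Finite G] in
theorem Dm_le_CTs : Dm D τ ≤ CTs h hc := fun _ hf => h.CT_V (h.ZV (h.F_le hτ hf))

/-- `[B, V^τ C~] ≤ C~` -/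
theorem q1 {b x : G} (hb : b ∈ B) (hx : x ∈ U1 h hc τ) : b * x * b⁻¹ * x⁻¹ ∈ CTs h hc := by
  obtain ⟨v, hv, c, hcc, rfl⟩ := (h.mem_U1 hc hτ).mp hx
  obtain ⟨f, hf, h1⟩ := h.B_comm hτ hb hv
  obtain ⟨v', hv', h2⟩ := hcc.2 b (h.BL hb)
  have e : b * (cj τ v * c) * b⁻¹ * (cj τ v * c)⁻¹ = f * (cj τ v * v' * (cj τ v)⁻¹) := by
    have e1 : b * (cj τ v * c) * b⁻¹ = cj b (cj τ v) * cj b c := by simp [cj, mul_assoc]
    rw [e1, h1, h2]
    group
  rw [e]
  apply mul_mem (h.Dm_le_CTs hc hτ hf)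
  apply h.V_le_CTs hc
  have h3 : cj τ v ∈ Q := h.Wg_le_Q hc (mem_Wg' hτ hv)
  rw [h.VcQ _ h3 v' hv', mul_inv_cancel_right]
  exact hv'

/-- `[Q, W] ≤ F` -/
theorem Q_Wg {q x : G} (hq : q ∈ Q) (hx : x ∈ Wg A L V Z D) : q * x * q⁻¹ * x⁻¹ ∈ Dm D τ := by
  obtain ⟨f, hf, h1⟩ := h.Q_comm hc hτ hq x hx
  have : q * x * q⁻¹ * x⁻¹ = f := by
    change cj q x * x⁻¹ = f
    rw [h1]; group
  rw [this]; exact hf

/-- `[B, W] ≤ V^τ C~` -/
theorem q2 {b x : G} (hb : b ∈ B) (hx : x ∈ Wg A L V Z D) : b * x * b⁻¹ * x⁻¹ ∈ U1 h hc τ := by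
  obtain ⟨m, hm, hmv⟩ := h.moves
  obtain ⟨y, hy, z, hz, u, hu, rfl, h2, h3⟩ := h.dec2 hc hτ hm hmv hx
  have huc : CT A L V Z D u := h.CT_of_cent hc hτ hm hmv hu h2 h3
  have hw : cj τ z * u ∈ U1 h hc τ := (h.mem_U1 hc hτ).mpr ⟨z, hz, u, huc, rfl⟩
  obtain ⟨v, hv, h4⟩ := h.hdec hc hτ hm hmv hy hb
  set y' := cj m (cj τ y) with hy'
  set w := cj τ z * u with hw'
  have h5 := h.CTs_le_U1 hc τ (h.q1 hc hτ hb hw)
  -- `[b, y' w] = [b, y'] * y' [b, w] y'⁻¹`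
  have e : b * (y' * cj τ z * u) * b⁻¹ * (y' * cj τ z * u)⁻¹ =
      (cj b y' * y'⁻¹) * (y' * (b * w * b⁻¹ * w⁻¹) * y'⁻¹) := by
    rw [hw']; simp [cj, mul_assoc]
  rw [e]
  have hyW : y' ∈ Wg A L V Z D := mem_Wg hτ hm hy
  -- conjugation by an element of `W` preserves `V^τ C~`
  have hnorm : ∀ a ∈ Wg A L V Z D, ∀ w ∈ U1 h hc τ, a * w * a⁻¹ ∈ U1 h hc τ := by
    intro a ha w hw
    obtain ⟨f, hf, h1⟩ := h.Wg_comm hc hτ a ha w (h.U1_le hc hτ hw)
    change cj a w ∈ _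
    rw [h1]
    exact mul_mem (h.CTs_le_U1 hc τ (h.Dm_le_CTs hc hτ hf)) hw
  apply mul_mem _ (hnorm y' hyW _ h5)
  have e2 : cj b y' * y'⁻¹ = y' * (cj τ v * ((y' * cj τ v)⁻¹ * cj b y')) * y'⁻¹ := by group
  rw [e2]
  apply hnorm y' hyW
  exact (h.mem_U1 hc hτ).mpr ⟨v, hv, _, h4, rfl⟩

/-- fixed points of elements of `B ∖ Q` -/
theorem fix {b x : G} (hb : b ∈ B) (hbQ : b ∉ Q) (hx : x ∈ Wg A L V Z D)
    (h1 : b * x * b⁻¹ * x⁻¹ ∈ CTs h hc) : x ∈ U1 h hc τ := by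
  obtain ⟨m, hm, hmv⟩ := h.moves
  obtain ⟨y, hy, z, hz, u, hu, rfl, h2, h3⟩ := h.dec2 hc hτ hm hmv hx
  have huc : CT A L V Z D u := h.CT_of_cent hc hτ hm hmv hu h2 h3
  have hw : cj τ z * u ∈ U1 h hc τ := (h.mem_U1 hc hτ).mpr ⟨z, hz, u, huc, rfl⟩
  set y' := cj m (cj τ y) with hy'
  have hyW : y' ∈ Wg A L V Z D := mem_Wg hτ hm hy
  set w := cj τ z * u with hw'
  have h5 := h.q1 hc hτ hb hw
  have hcent : ∀ a ∈ Wg A L V Z D, ∀ c ∈ CTs h hc, a * c * a⁻¹ = c := by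
    intro a ha c hcc
    have := h.CT_central hc hτ hcc ha
    rw [← this, mul_inv_cancel_right]
  have h6 : y'⁻¹ * cj b y' ∈ CTs h hc := by
    have h7 : b * (y' * cj τ z * u) * b⁻¹ * (y' * cj τ z * u)⁻¹ =
        (cj b y' * y'⁻¹) * (y' * (b * w * b⁻¹ * w⁻¹) * y'⁻¹) := by
      rw [hw']; simp [cj, mul_assoc]
    rw [h7, hcent y' hyW _ h5] at h1
    have h8 : cj b y' * y'⁻¹ ∈ CTs h hc := by
      have := mul_mem h1 (inv_mem h5)
      rwa [mul_inv_cancel_right] at this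
    have h9 := hcent y'⁻¹ (inv_mem hyW) _ h8
    have e : y'⁻¹ * (cj b y' * y'⁻¹) * y'⁻¹⁻¹ = y'⁻¹ * cj b y' := by group
    rw [e] at h9
    rw [h9]
    exact h8
  have hyZ := h.fix_key hc hτ hm hmv hy hb hbQ h6
  have h10 : y' ∈ CTs h hc := by
    apply h.V_le_CTs hc
    exact h.cjV hm (h.ZV (h.cjZ hτ.1 hyZ))
  rw [mul_assoc]
  exact mul_mem (h.CTs_le_U1 hc τ h10) hw

/-- `W = V^τ C~ * (V^τ C~)^m` -/
theorem sup {m x : G} (hm : m ∈ L) (hmv : Mv D Z m) (hx : x ∈ Wg A L V Z D) :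
    ∃ a ∈ U1 h hc τ, ∃ b ∈ U1 h hc τ, x = cj m a * b := by
  obtain ⟨y, hy, z, hz, u, hu, rfl, h2, h3⟩ := h.dec2 hc hτ hm hmv hx
  have huc : CT A L V Z D u := h.CT_of_cent hc hτ hm hmv hu h2 h3
  refine ⟨cj τ y, (h.mem_U1 hc hτ).mpr ⟨y, hy, 1, h.CT_V V.one_mem, by rw [mul_one]⟩, cj τ z * u,
    (h.mem_U1 hc hτ).mpr ⟨z, hz, u, huc, rfl⟩, by rw [mul_assoc]⟩

/-- `V^τ C~ ∩ (V^τ C~)^m = C~` -/
theorem inf {m x : G} (hm : m ∈ L) (hmv : Mv D Z m) (hx : x ∈ U1 h hc τ) (hx' : cj m⁻¹ x ∈ U1 h hc τ) :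
    x ∈ CTs h hc := by
  have hxW := h.U1_le hc hτ hx
  have hcomm : ∀ w ∈ U1 h hc τ, ∀ v ∈ V, w * cj τ v = cj τ v * w := by
    intro w hw v hv
    obtain ⟨y, hy, c, hcc, rfl⟩ := (h.mem_U1 hc hτ).mp hw
    have k1 : Commute (cj τ y) (cj τ v) := cj_comm.2 (h.VcQ y (h.VQ hy) v hv)
    have k2 : Commute c (cj τ v) := h.CT_comm hc hτ hcc hv
    exact (k1.mul_left k2).eq
  apply h.CT_of_cent hc hτ hm hmv hxW (hcomm x hx)
  intro v hv
  have := (cj_comm (g := m)).2 (hcomm _ hx' v hv)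
  rwa [cj_cj_inv] at this

/-- an element of `V^τ ∩ C~` lies in `Z` -/
theorem cap {v : G} (hv : v ∈ V) (h1 : CT A L V Z D (cj τ v)) : v ∈ Z := by
  obtain ⟨m, hm, hmv⟩ := h.moves
  apply h.crit_Z hc (h.word_mem (A.inv_mem hτ.1) hm hτ.1) (h.crit_tau hc hτ hm hmv) hv
  intro u hu
  have k := h.CT_central hc hτ h1 (mem_Wg hτ hm hu)
  have k4 := (cj_comm (g := τ⁻¹)).2 k
  rw [cj_inv_cj] at k4
  have e3 : cj τ⁻¹ (cj m (cj τ u)) = cj (τ⁻¹ * m * τ) u := by simp [cj, mul_assoc]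
  rw [e3] at k4
  exact k4

/-- orders -/
theorem card_U1 : Nat.card (U1 h hc τ) * Nat.card Z = Nat.card V * Nat.card (CTs h hc) := by
  have h1 : Nat.card (V.map (MulAut.conj τ).toMonoidHom) = Nat.card V :=
    Nat.card_congr (V.equivMapOfInjective _ (MulAut.conj τ).injective).symm.toEquiv
  have h2 : (V.map (MulAut.conj τ).toMonoidHom) ⊓ CTs h hc = Z.map (MulAut.conj τ).toMonoidHom := by
    apply le_antisymm
    · rintro _ ⟨⟨v, hv, rfl⟩, hcc⟩
      exact ⟨v, h.cap hc hτ hv hcc, rfl⟩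
    · rintro _ ⟨z, hz, rfl⟩
      refine ⟨⟨z, h.ZV hz, rfl⟩, ?_⟩
      exact h.CT_V (h.ZV (h.cjZ hτ.1 hz))
  have h3 : Nat.card (Z.map (MulAut.conj τ).toMonoidHom) = Nat.card Z :=
    Nat.card_congr (Z.equivMapOfInjective _ (MulAut.conj τ).injective).symm.toEquiv
  have hle : V.map (MulAut.conj τ).toMonoidHom ≤ Subgroup.normalizer ((CTs h hc : Subgroup G) : Set G) := by
    rintro _ ⟨v, hv, rfl⟩
    rw [Subgroup.mem_normalizer_iff]
    have hcom : ∀ x ∈ CTs h hc, (MulAut.conj τ).toMonoidHom v * x = x * (MulAut.conj τ).toMonoidHom v := by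
      intro x hx
      exact (h.CT_comm hc hτ hx hv).symm
    intro x
    constructor
    · intro hx
      rw [hcom x hx, mul_assoc, mul_inv_cancel, mul_one]
      exact hx
    · intro hx
      have h1 := hcom _ hx
      set c := (MulAut.conj τ).toMonoidHom v
      have h2 : c * x * c⁻¹ = x := by
        have h3 : c * (c * x * c⁻¹) = c * x * c⁻¹ * c := h1
        rw [inv_mul_cancel_right] at h3
        exact mul_left_cancel h3
      rwa [h2] at hx
  have h4 := Cfsg.Agent.H260.Push.card_mul_eq hle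
  rw [h2, h3, h1] at h4
  exact h4

end

end Dt

end Cfsg.Agent.H213.Amal
end

-- part: H213/NatAbs
section
/-!
# Recognition of the natural `SL₂(F)`-module from two opposite families of transvections

`G` acts on the finite abelian group `N = N₁ ⊕ N₂`; `x a`, `y b` (`a, b ∈ F`) act as additive families of
operators with `[N, x a] ≤ N₁ ≤ C(x a)`, `[N, y b] ≤ N₂ ≤ C(y b)` and `x a * y (-a⁻¹) * x a` moves `N₁` into
`N₂`.  Then `N` is the natural `SL₂(F)`-module.  (Hua's identity.)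
-/

set_option autoImplicit false
set_option linter.unusedVariables false

namespace Cfsg.Agent.H213.NatAbs

open Cfsg.Agent.LieClassical.SLTwoUnipotent Matrix

variable {G : Type*} [Group G] {N : Type*} [AddCommGroup N] {F : Type*} [Field F]

/-- The hypotheses. -/
structure Dat (α : G →* AddMonoid.End N) (x y : F → G) (N₁ N₂ : AddSubgroup N) : Prop where
  inf : N₁ ⊓ N₂ = ⊥
  sup : N₁ ⊔ N₂ = ⊤
  x1 : ∀ a, ∀ n ∈ N₁, α (x a) n = n
  x2 : ∀ a, ∀ n, α (x a) n - n ∈ N₁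
  xadd : ∀ a b n, α (x (a + b)) n = α (x a) (α (x b) n)
  xf : ∀ a, a ≠ 0 → ∀ n, α (x a) n = n → n ∈ N₁
  y1 : ∀ a, ∀ n ∈ N₂, α (y a) n = n
  y2 : ∀ a, ∀ n, α (y a) n - n ∈ N₂
  yadd : ∀ a b n, α (y (a + b)) n = α (y a) (α (y b) n)
  w : ∀ a, a ≠ 0 → ∀ n ∈ N₁, α (x a) (α (y (-a⁻¹)) (α (x a) n)) ∈ N₂

variable {α : G →* AddMonoid.End N} {x y : F → G} {N₁ N₂ : AddSubgroup N}

/-- the operator `g - 1` -/
def op (α : G →* AddMonoid.End N) (g : G) : AddMonoid.End N := α g - 1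

theorem op_apply (g : G) (n : N) : op α g n = α g n - n := rfl

theorem add_ap (f g : AddMonoid.End N) (n : N) : (f + g) n = f n + g n := rfl
theorem sub_ap (f g : AddMonoid.End N) (n : N) : (f - g) n = f n - g n := rfl
theorem neg_ap (f : AddMonoid.End N) (n : N) : (-f) n = - f n := rfl
theorem mul_ap (f g : AddMonoid.End N) (n : N) : (f * g) n = f (g n) := rfl

theorem apply_eq (g : G) (n : N) : α g n = n + op α g n := by rw [op_apply]; abel

namespace Dat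

variable (h : Dat α x y N₁ N₂)

include h

theorem inf0 {n : N} (h1 : n ∈ N₁) (h2 : n ∈ N₂) : n = 0 := by
  have : n ∈ N₁ ⊓ N₂ := ⟨h1, h2⟩
  rw [h.inf] at this
  exact this

theorem X_mem (a : F) (n : N) : op α (x a) n ∈ N₁ := h.x2 a n
theorem Y_mem (a : F) (n : N) : op α (y a) n ∈ N₂ := h.y2 a n
theorem X_zero (a : F) {n : N} (hn : n ∈ N₁) : op α (x a) n = 0 := by
  rw [op_apply, h.x1 a n hn, sub_self]
theorem Y_zero (a : F) {n : N} (hn : n ∈ N₂) : op α (y a) n = 0 := by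
  rw [op_apply, h.y1 a n hn, sub_self]

theorem X_add (a b : F) : op α (x (a + b)) = op α (x a) + op α (x b) := by
  ext n
  rw [add_ap, op_apply, h.xadd, apply_eq (x b) n, map_add, apply_eq (x a) n,
    apply_eq (x a) (op α (x b) n), h.X_zero a (h.X_mem b n)]
  abel

theorem Y_add (a b : F) : op α (y (a + b)) = op α (y a) + op α (y b) := by
  ext n
  rw [add_ap, op_apply, h.yadd, apply_eq (y b) n, map_add, apply_eq (y a) n,
    apply_eq (y a) (op α (y b) n), h.Y_zero a (h.Y_mem b n)]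
  abel

theorem X_0 : op α (x 0) = 0 := by
  have := h.X_add 0 0
  rw [add_zero] at this
  exact left_eq_add.mp this

theorem Y_0 : op α (y 0) = 0 := by
  have := h.Y_add 0 0
  rw [add_zero] at this
  exact left_eq_add.mp this

theorem X_neg (a : F) : op α (x (-a)) = - op α (x a) := by
  have := h.X_add a (-a)
  rw [add_neg_cancel, h.X_0] at this
  exact (neg_eq_of_add_eq_zero_right this.symm).symm

theorem Y_neg (a : F) : op α (y (-a)) = - op α (y a) := by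
  have := h.Y_add a (-a)
  rw [add_neg_cancel, h.Y_0] at this
  exact (neg_eq_of_add_eq_zero_right this.symm).symm

theorem X_sub (a b : F) : op α (x (a - b)) = op α (x a) - op α (x b) := by
  rw [sub_eq_add_neg, h.X_add, h.X_neg, sub_eq_add_neg]

theorem dec (n : N) : ∃ n₁ ∈ N₁, ∃ n₂ ∈ N₂, n = n₁ + n₂ := by
  have : n ∈ N₁ ⊔ N₂ := by rw [h.sup]; trivial
  obtain ⟨a, ha, b, hb, hab⟩ := AddSubgroup.mem_sup.mp this
  exact ⟨a, ha, b, hb, hab.symm⟩

/-- `X(a) Y(a⁻¹) = 1` on `N₁` -/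
theorem XY1 {a : F} (ha : a ≠ 0) {n : N} (hn : n ∈ N₁) :
    op α (x a) (op α (y a⁻¹) n) = n := by
  have h1 := h.w a ha n hn
  rw [h.x1 a n hn, apply_eq (y (-a⁻¹)) n, map_add, h.x1 a n hn, apply_eq (x a) (op α (y (-a⁻¹)) n)] at h1
  have h2 : n + op α (x a) (op α (y (-a⁻¹)) n) ∈ N₂ := by
    have e : n + op α (x a) (op α (y (-a⁻¹)) n) =
        (n + (op α (y (-a⁻¹)) n + op α (x a) (op α (y (-a⁻¹)) n))) - op α (y (-a⁻¹)) n := by abel
    rw [e]
    exact N₂.sub_mem h1 (h.Y_mem _ _)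
  have h3 := h.inf0 (N₁.add_mem hn (h.X_mem a _)) h2
  rw [h.Y_neg] at h3
  have e : op α (x a) ((-op α (y a⁻¹)) n) = - op α (x a) (op α (y a⁻¹) n) := by
    rw [neg_ap, map_neg]
  rw [e] at h3
  have := add_eq_zero_iff_eq_neg.mp h3
  rw [neg_neg] at this
  exact this.symm

/-- `X(a)` is injective on `N₂` -/
theorem X_inj {a : F} (ha : a ≠ 0) {n : N} (hn : n ∈ N₂) (h0 : op α (x a) n = 0) : n = 0 := by
  apply h.inf0 _ hn
  apply h.xf a ha
  rw [op_apply] at h0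
  exact sub_eq_zero.mp h0

/-- `Y(a⁻¹) X(a) = 1` on `N₂` -/
theorem YX2 {a : F} (ha : a ≠ 0) {n : N} (hn : n ∈ N₂) :
    op α (y a⁻¹) (op α (x a) n) = n := by
  have h1 : op α (x a) (op α (y a⁻¹) (op α (x a) n)) = op α (x a) n := h.XY1 ha (h.X_mem a n)
  have h2 : op α (x a) (op α (y a⁻¹) (op α (x a) n) - n) = 0 := by rw [map_sub, h1, sub_self]
  have h3 := h.X_inj ha (N₂.sub_mem (h.Y_mem _ _) hn) h2
  exact sub_eq_zero.mp h3

theorem Y_inj {a : F} (ha : a ≠ 0) {n : N} (hn : n ∈ N₁) (h0 : op α (y a) n = 0) : n = 0 := by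
  have h1 := h.XY1 (inv_ne_zero ha) hn
  rw [inv_inv, h0, map_zero] at h1
  exact h1.symm

/-- Hua: `X(a² b) = X(a) Y(b) X(a)` -/
theorem hua (a b : F) : op α (x (a * a * b)) = op α (x a) * op α (y b) * op α (x a) := by
  ext n
  obtain ⟨n₁, h1, n₂, h2, rfl⟩ := h.dec n
  have e1 : op α (x (a * a * b)) (n₁ + n₂) = op α (x (a * a * b)) n₂ := by
    rw [map_add, h.X_zero _ h1, zero_add]
  have e2 : (op α (x a) * op α (y b) * op α (x a)) (n₁ + n₂) =
      op α (x a) (op α (y b) (op α (x a) n₂)) := by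
    change op α (x a) (op α (y b) (op α (x a) (n₁ + n₂))) = _
    rw [map_add (op α (x a)), h.X_zero _ h1, zero_add]
  rw [e1, e2]
  by_cases ha : a = 0
  · subst ha
    rw [mul_zero, zero_mul, h.X_0]
    simp
  by_cases hb : b = 0
  · subst hb
    rw [mul_zero, h.X_0, h.Y_0]
    simp
  by_cases hab : b⁻¹ - a = 0
  · -- `a b = 1`
    have hb' : b = a⁻¹ := by
      have : b⁻¹ = a := sub_eq_zero.mp hab
      rw [← this, inv_inv]
    subst hb'
    rw [h.YX2 ha h2]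
    congr 2
    field_simp
  · set c := b⁻¹ - a with hc
    set d := a⁻¹ + c⁻¹ with hd
    have hbc : b⁻¹ = c + a := by rw [hc]; ring
    have hb2 : b * (c + a) = 1 := by rw [← hbc]; exact mul_inv_cancel₀ hb
    have hca : c + a ≠ 0 := by rw [← hbc]; exact inv_ne_zero hb
    have hdd : d = (c + a) / (a * c) := by rw [hd]; field_simp
    have hd0 : d ≠ 0 := by
      rw [hdd]
      exact div_ne_zero hca (mul_ne_zero ha hab)
    have hdi : d⁻¹ = a - a * a * b := by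
      rw [hdd, inv_div, div_eq_iff hca]
      have : (a - a * a * b) * (c + a) = a * (c + a) - a * a * (b * (c + a)) := by ring
      rw [this, hb2]; ring
    -- both `X(d⁻¹)` and `X(a) - X(a) Y(b) X(a)` are inverse to `Y(d)`
    have hX : ∀ m ∈ N₂, op α (y d) (op α (x (a - a * a * b)) m) = m := by
      intro m hm
      have := h.YX2 (a := d⁻¹) (inv_ne_zero hd0) hm
      rw [inv_inv, hdi] at this
      exact this
    have hY : op α (y d) (op α (x a) n₂ - op α (x a) (op α (y b) (op α (x a) n₂))) = n₂ := by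
      rw [hd, h.Y_add, add_ap, map_sub, map_sub, h.YX2 ha h2, h.YX2 ha (h.Y_mem _ _)]
      -- `n₂ - Y b X a n₂ + (Y c⁻¹ X a n₂ - Y c⁻¹ X a Y b X a n₂) = n₂`
      set m := n₂ - op α (y b) (op α (x a) n₂) with hm
      have hmN : m ∈ N₂ := N₂.sub_mem h2 (h.Y_mem _ _)
      have e3 : op α (y c⁻¹) (op α (x a) n₂) - op α (y c⁻¹) (op α (x a) (op α (y b) (op α (x a) n₂))) =
          op α (y c⁻¹) (op α (x a) m) := by rw [hm, map_sub, map_sub]
      rw [e3]
      -- `m = Y b X c n₂`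
      have e4 : m = op α (y b) (op α (x c) n₂) := by
        have h5 : op α (y b) (op α (x b⁻¹) n₂) = n₂ := by
          have := h.YX2 (a := b⁻¹) (inv_ne_zero hb) h2
          rwa [inv_inv] at this
        rw [hbc, h.X_add, add_ap, map_add] at h5
        rw [hm]
        nth_rewrite 1 [← h5]
        abel
      -- `m + Y c⁻¹ X a m = Y c⁻¹ (X c + X a) m = Y c⁻¹ X b⁻¹ m`
      have e5 : m + op α (y c⁻¹) (op α (x a) m) = op α (y c⁻¹) (op α (x b⁻¹) m) := by
        rw [hbc, h.X_add, add_ap, map_add, h.YX2 hab hmN]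
      rw [e5]
      have e6 : op α (x b⁻¹) m = op α (x c) n₂ := by
        have := h.XY1 (a := b⁻¹) (inv_ne_zero hb) (h.X_mem c n₂)
        rw [inv_inv, ← e4] at this
        exact this
      rw [e6, h.YX2 hab h2]
    have h6 := hX n₂ h2
    have h7 : op α (y d) (op α (x (a - a * a * b)) n₂ -
        (op α (x a) n₂ - op α (x a) (op α (y b) (op α (x a) n₂)))) = 0 := by
      rw [map_sub, h6, hY, sub_self]
    have h8 := sub_eq_zero.mp (h.Y_inj hd0 (N₁.sub_mem (h.X_mem _ _)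
      (N₁.sub_mem (h.X_mem _ _) (h.X_mem _ _))) h7)
    rw [h.X_sub, sub_ap] at h8
    exact sub_right_injective h8

/-- the scalars on `N₁` -/
theorem YY (b : F) {n : N} (hn : n ∈ N₁) : op α (y b) n = op α (y 1) (op α (x b) (op α (y 1) n)) := by
  have h1 := h.hua 1 b
  rw [one_mul, one_mul] at h1
  rw [h1]
  change _ = op α (y 1) (op α (x 1) (op α (y b) (op α (x 1) (op α (y 1) n))))
  have h2 := h.XY1 (a := (1 : F)) one_ne_zero hn
  rw [inv_one] at h2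
  rw [h2]
  have h3 := h.YX2 (a := (1 : F)) one_ne_zero (h.Y_mem b n)
  rw [inv_one] at h3
  rw [h3]

/-- the scalars -/
def sc (α : G →* AddMonoid.End N) (x y : F → G) (a : F) : AddMonoid.End N := op α (x a) * op α (y 1)

theorem sc_mem (a : F) (n : N) : sc α x y a n ∈ N₁ := h.X_mem _ _

theorem sc_one {n : N} (hn : n ∈ N₁) : sc α x y 1 n = n := by
  have h2 := h.XY1 (a := (1 : F)) one_ne_zero hn
  rw [inv_one] at h2
  exact h2

theorem sc_add (a b : F) (n : N) : sc α x y (a + b) n = sc α x y a n + sc α x y b n := by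
  change op α (x (a + b)) _ = op α (x a) _ + op α (x b) _
  rw [h.X_add]; rfl

theorem sc_hua (a b : F) {n : N} (hn : n ∈ N₁) :
    sc α x y (a * a * b) n = sc α x y a (sc α x y b (sc α x y a n)) := by
  change op α (x (a * a * b)) (op α (y 1) n) =
    op α (x a) (op α (y 1) (op α (x b) (op α (y 1) (op α (x a) (op α (y 1) n)))))
  rw [h.hua, ← h.YY b (h.X_mem _ _)]
  rfl

theorem sc_pow (a : F) (k : ℕ) : ∀ {n : N}, n ∈ N₁ → sc α x y (a ^ k) n = (sc α x y a ^ k) n := by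
  induction k using Nat.strong_induction_on with
  | _ k ih =>
    intro n hn
    rcases k with _ | _ | k
    · rw [pow_zero, pow_zero, h.sc_one hn]; rfl
    · rw [zero_add, pow_one, pow_one]
    · have e : a ^ (k + 1 + 1) = a * a * a ^ k := by ring
      rw [e, h.sc_hua a _ hn, ih k (by omega) (h.sc_mem a n)]
      have e2 : sc α x y a ^ (k + 1 + 1) = sc α x y a * (sc α x y a ^ k * sc α x y a) := by
        rw [← pow_succ, ← pow_succ']
      rw [e2]; rfl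

theorem sc_zero (n : N) : sc α x y 0 n = 0 := by
  change op α (x 0) _ = 0
  rw [h.X_0]; rfl

theorem sc_mul [Finite F] (a b : F) {n : N} (hn : n ∈ N₁) :
    sc α x y (a * b) n = sc α x y a (sc α x y b n) := by
  by_cases ha : a = 0
  · subst ha
    rw [zero_mul, h.sc_zero, h.sc_zero]
  by_cases hb : b = 0
  · subst hb
    rw [mul_zero, h.sc_zero, map_zero]
  obtain ⟨ζ, hζ⟩ := IsCyclic.exists_generator (α := Fˣ)
  obtain ⟨i, hi⟩ := (mem_powers_iff_mem_zpowers).mpr (hζ (Units.mk0 a ha))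
  obtain ⟨j, hj⟩ := (mem_powers_iff_mem_zpowers).mpr (hζ (Units.mk0 b hb))
  have hi' : (ζ : F) ^ i = a := by
    have := congrArg Units.val hi
    simpa using this
  have hj' : (ζ : F) ^ j = b := by
    have := congrArg Units.val hj
    simpa using this
  rw [← hi', ← hj', ← pow_add, h.sc_pow _ _ hn, h.sc_pow _ j hn, h.sc_pow _ i, pow_add]
  · rfl
  · rw [← h.sc_pow _ _ hn]
    exact h.sc_mem _ _

theorem XY (a b : F) [Finite F] {n : N} (hn : n ∈ N₁) :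
    op α (x a) (op α (y b) n) = sc α x y (a * b) n := by
  rw [h.YY b hn, h.sc_mul a b hn]
  rfl

theorem Y_sc (a b : F) [Finite F] {n : N} (hn : n ∈ N₁) :
    op α (y b) (sc α x y a n) = op α (y (b * a)) n := by
  rw [h.YY b (h.sc_mem _ _), h.YY (b * a) hn]
  have := h.sc_mul b a hn
  change op α (x (b * a)) (op α (y 1) n) = op α (x b) (op α (y 1) (sc α x y a n)) at this
  rw [this]

theorem sc_inj [Finite F] {a : F} {n : N} (hn : n ∈ N₁) (hn0 : n ≠ 0) (h0 : sc α x y a n = 0) : a = 0 := by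
  by_contra ha
  apply hn0
  have h1 := h.sc_mul a⁻¹ a hn
  rw [inv_mul_cancel₀ ha, h.sc_one hn, h0, map_zero] at h1
  exact h1

/-- the coordinate map -/
def co (h : Dat α x y N₁ N₂) (n₀ : N) : (Fin 2 → F) →+ N where
  toFun v := sc α x y (v 0) n₀ + op α (y (v 1)) n₀
  map_zero' := by
    rw [Pi.zero_apply, Pi.zero_apply, h.sc_zero, h.Y_0]
    simp
  map_add' v w := by
    rw [Pi.add_apply, Pi.add_apply, h.sc_add, h.Y_add, add_ap]
    abel

theorem co_apply (n₀ : N) (v : Fin 2 → F) : h.co n₀ v = sc α x y (v 0) n₀ + op α (y (v 1)) n₀ := rfl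

theorem co_bij [Fintype F] [Finite N] {n₀ : N} (hn : n₀ ∈ N₁) (hn0 : n₀ ≠ 0)
    (hc : Nat.card N₁ ≤ Fintype.card F) : Function.Bijective (h.co n₀) := by
  -- surjectivity on `N₁`
  have hs1 : ∀ n ∈ N₁, ∃ a : F, sc α x y a n₀ = n := by
    let f : F → N₁ := fun a => ⟨sc α x y a n₀, h.sc_mem a n₀⟩
    have hf : Function.Injective f := by
      intro a b hab
      have h1 : sc α x y a n₀ = sc α x y b n₀ := congrArg Subtype.val hab
      have h2 : sc α x y (a - b) n₀ = 0 := by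
        have := h.sc_add (a - b) b n₀
        rw [sub_add_cancel, h1] at this
        exact (left_eq_add.mp (this.trans (add_comm _ _)))
      exact sub_eq_zero.mp (h.sc_inj hn hn0 h2)
    have hbij := Function.Injective.bijective_of_nat_card_le hf (by rwa [Nat.card_eq_fintype_card (α := F)])
    intro n hn'
    obtain ⟨a, ha⟩ := hbij.2 ⟨n, hn'⟩
    exact ⟨a, congrArg Subtype.val ha⟩
  constructor
  · rw [injective_iff_map_eq_zero]
    intro v hv
    rw [h.co_apply] at hv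
    have h1 : sc α x y (v 0) n₀ = 0 := by
      apply h.inf0 (h.sc_mem _ _)
      rw [add_eq_zero_iff_eq_neg.mp hv]
      exact N₂.neg_mem (h.Y_mem _ _)
    rw [h1, zero_add] at hv
    have h2 : v 1 = 0 := by
      by_contra hne
      exact hn0 (h.Y_inj hne hn hv)
    have h3 := h.sc_inj hn hn0 h1
    ext i
    fin_cases i
    · exact h3
    · exact h2
  · intro n
    obtain ⟨n₁, h1, n₂, h2, rfl⟩ := h.dec n
    obtain ⟨a, ha⟩ := hs1 n₁ h1
    obtain ⟨b, hb⟩ := hs1 _ (h.X_mem 1 n₂)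
    refine ⟨![a, b], ?_⟩
    rw [h.co_apply]
    have h3 : op α (y b) n₀ = n₂ := by
      rw [h.YY b hn]
      have h4 := h.YX2 (a := (1 : F)) one_ne_zero h2
      rw [inv_one] at h4
      rw [← h4, ← hb]
      rfl
    simp only [Matrix.cons_val_zero, Matrix.cons_val_one]
    rw [ha, h3]

theorem co_x [Finite F] {n₀ : N} (hn : n₀ ∈ N₁) (a : F) (v : Fin 2 → F) :
    α (x a) (h.co n₀ v) = h.co n₀ ((u a : SpecialLinearGroup (Fin 2) F).1.mulVec v) := by
  rw [apply_eq, h.co_apply, h.co_apply, map_add, h.X_zero a (h.sc_mem _ _), zero_add, h.XY a _ hn]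
  have e0 : (u a : SpecialLinearGroup (Fin 2) F).1.mulVec v 0 = v 0 + a * v 1 := by
    simp [u, Matrix.mulVec, dotProduct, Fin.sum_univ_two]
  have e1 : (u a : SpecialLinearGroup (Fin 2) F).1.mulVec v 1 = v 1 := by
    simp [u, Matrix.mulVec, dotProduct, Fin.sum_univ_two]
  rw [e0, e1, h.sc_add]
  abel

theorem co_y [Finite F] {n₀ : N} (hn : n₀ ∈ N₁) (b : F) (v : Fin 2 → F) :
    α (y b) (h.co n₀ v) = h.co n₀ ((l b : SpecialLinearGroup (Fin 2) F).1.mulVec v) := by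
  rw [apply_eq, h.co_apply, h.co_apply, map_add, h.Y_zero b (h.Y_mem _ _), add_zero, h.Y_sc _ b hn]
  have e0 : (l b : SpecialLinearGroup (Fin 2) F).1.mulVec v 0 = v 0 := by
    simp [l, Matrix.mulVec, dotProduct, Fin.sum_univ_two]
  have e1 : (l b : SpecialLinearGroup (Fin 2) F).1.mulVec v 1 = b * v 0 + v 1 := by
    simp [l, Matrix.mulVec, dotProduct, Fin.sum_univ_two]
  rw [e0, e1, h.Y_add, add_ap]
  abel

end Dat

theorem sl_eq {A B : SpecialLinearGroup (Fin 2) F} (h : ∀ v : Fin 2 → F, A.1.mulVec v = B.1.mulVec v) :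
    A = B := by
  apply Subtype.ext
  exact Matrix.ext_of_mulVec_single (fun i => h _)

theorem one_mv (v : Fin 2 → F) : (1 : SpecialLinearGroup (Fin 2) F).1.mulVec v = v :=
  Matrix.one_mulVec v

theorem mul_mv (A B : SpecialLinearGroup (Fin 2) F) (v : Fin 2 → F) :
    (A * B).1.mulVec v = A.1.mulVec (B.1.mulVec v) := (Matrix.mulVec_mulVec v A.1 B.1).symm

/-- **Recognition of the natural module.** -/
theorem natural [Fintype F] [Finite N] (h : Dat α x y N₁ N₂) (hc : Nat.card N₁ = Fintype.card F)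
    (hgen : ∀ H : Subgroup G, (∀ a, x a ∈ H) → (∀ b, y b ∈ H) → (∀ g, α g = 1 → g ∈ H) → H = ⊤) :
    ∃ (ρ : G →* SpecialLinearGroup (Fin 2) F) (ψ : N ≃+ (Fin 2 → F)), Function.Surjective ρ ∧
      (∀ g n, ψ (α g n) = (ρ g).1.mulVec (ψ n)) ∧ (∀ a, ρ (x a) = u a) ∧ (∀ b, ρ (y b) = l b) ∧
      (∀ n, n ∈ N₁ ↔ ψ n 1 = 0) := by
  classical
  obtain ⟨n₀, hn0⟩ : ∃ n : N₁, n ≠ 0 := by
    have : Nontrivial N₁ := by
      rw [← Finite.one_lt_card_iff_nontrivial, hc]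
      exact Fintype.one_lt_card
    exact exists_ne 0
  have hne : (n₀ : N) ≠ 0 := fun h0 => hn0 (Subtype.ext h0)
  have hbij := h.co_bij n₀.2 hne hc.le
  set Φ : (Fin 2 → F) ≃+ N := AddEquiv.ofBijective (h.co (n₀ : N)) hbij with hΦ
  have hΦa : ∀ v, Φ v = h.co (n₀ : N) v := fun v => rfl
  -- the matrices
  have hex : ∀ g : G, ∃ M : SpecialLinearGroup (Fin 2) F, ∀ v, α g (Φ v) = Φ (M.1.mulVec v) := by
    let H : Subgroup G :=
      { carrier := {g | ∃ M : SpecialLinearGroup (Fin 2) F, ∀ v, α g (Φ v) = Φ (M.1.mulVec v)}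
        one_mem' := ⟨1, fun v => by
          rw [map_one, one_mv]; rfl⟩
        mul_mem' := by
          rintro a b ⟨M, hM⟩ ⟨M', hM'⟩
          refine ⟨M * M', fun v => ?_⟩
          rw [map_mul, mul_ap, hM', hM, mul_mv]
        inv_mem' := by
          rintro a ⟨M, hM⟩
          refine ⟨M⁻¹, fun v => ?_⟩
          have h1 := hM (M⁻¹.1.mulVec v)
          rw [← mul_mv, mul_inv_cancel, one_mv] at h1
          rw [← h1, ← mul_ap, ← map_mul, inv_mul_cancel, map_one]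
          rfl }
    have hH : H = ⊤ := by
      apply hgen
      · intro a
        exact ⟨u a, fun v => h.co_x n₀.2 a v⟩
      · intro b
        exact ⟨l b, fun v => h.co_y n₀.2 b v⟩
      · intro g hg
        exact ⟨1, fun v => by rw [hg, one_mv]; rfl⟩
    intro g
    have : g ∈ H := by rw [hH]; trivial
    exact this
  choose R hR using hex
  have huniq : ∀ g (M : SpecialLinearGroup (Fin 2) F), (∀ v, α g (Φ v) = Φ (M.1.mulVec v)) → R g = M := by
    intro g M hM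
    apply sl_eq
    intro v
    apply Φ.injective
    rw [← hR, ← hM]
  let ρ : G →* SpecialLinearGroup (Fin 2) F :=
    { toFun := R
      map_one' := huniq _ _ (fun v => by rw [map_one, one_mv]; rfl)
      map_mul' := fun a b => huniq _ _ (fun v => by
        rw [map_mul, mul_ap, hR, hR, mul_mv]) }
  have hρx : ∀ a, ρ (x a) = u a := fun a => huniq _ _ (fun v => h.co_x n₀.2 a v)
  have hρy : ∀ b, ρ (y b) = l b := fun b => huniq _ _ (fun v => h.co_y n₀.2 b v)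
  refine ⟨ρ, Φ.symm, ?_, ?_, hρx, hρy, ?_⟩
  · rw [← MonoidHom.range_eq_top]
    apply eq_top_of_u_mem_of_l_mem
    · intro a
      exact ⟨x a, hρx a⟩
    · intro b
      exact ⟨y b, hρy b⟩
  · intro g n
    apply Φ.injective
    rw [AddEquiv.apply_symm_apply]
    have := hR g (Φ.symm n)
    rw [AddEquiv.apply_symm_apply] at this
    exact this
  · intro n
    obtain ⟨v, rfl⟩ := Φ.surjective n
    rw [AddEquiv.symm_apply_apply, hΦa, h.co_apply]
    constructor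
    · intro hn
      by_contra hv
      apply hne
      apply h.Y_inj hv n₀.2
      apply h.inf0 _ (h.Y_mem _ _)
      have e : op α (y (v 1)) (n₀ : N) = (Dat.sc α x y (v 0) (n₀ : N) + op α (y (v 1)) (n₀ : N)) -
          Dat.sc α x y (v 0) (n₀ : N) := by abel
      rw [e]
      exact N₁.sub_mem hn (h.sc_mem _ _)
    · intro hv
      rw [hv, h.Y_0]
      change Dat.sc α x y (v 0) (n₀ : N) + 0 ∈ N₁
      rw [add_zero]
      exact h.sc_mem _ _

end Cfsg.Agent.H213.NatAbs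
end

-- part: H213/Frame
section
/-!
# Coordinates for the rank one pushing up configuration

`Frame F S T M x y g`: representatives `x a` of `S / T` and `y b` of `S^g / T` for `a, b ∈ F`, with
`x a * y (-a⁻¹) * x a ∈ g M`.
-/

set_option autoImplicit false

namespace Cfsg.Agent.H213.Rk

open Matrix Subgroup Cfsg.Agent.H260.Push Cfsg.Agent.H260.Psl
open Cfsg.Agent.LieClassical.SLTwoUnipotent Cfsg.Agent.ClassicalGeometry.PSL2Basic

variable {G : Type*} [Group G]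

/-- Coordinates. -/
structure Frame (F : Type*) [Field F] (S T M : Subgroup G) (x y : F → G) (g : G) : Prop where
  xS : ∀ a, x a ∈ S
  yS : ∀ b, y b ∈ cj g S
  gM : g ∉ M
  xadd : ∀ a b, (x (a + b))⁻¹ * (x a * x b) ∈ T
  yadd : ∀ a b, (y (a + b))⁻¹ * (y a * y b) ∈ T
  xT : ∀ a, a ≠ 0 → x a ∉ T
  yT : ∀ b, b ≠ 0 → y b ∉ T
  xsur : ∀ s ∈ S, ∃ a, (x a)⁻¹ * s ∈ T
  ysur : ∀ s ∈ cj g S, ∃ b, (y b)⁻¹ * s ∈ T
  w : ∀ a, a ≠ 0 → g⁻¹ * (x a * y (-a⁻¹) * x a) ∈ M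

/-- the Weyl element -/
def w₀ (F : Type*) [Field F] : SpecialLinearGroup (Fin 2) F := ⟨!![0, 1; -1, 0], by simp⟩

section

variable {F : Type*} [Field F]

theorem w₀_conj (a : F) : w₀ F * u a * (w₀ F)⁻¹ = l (-a) := by
  rw [mul_inv_eq_iff_eq_mul]
  apply ext_coe
  rw [LieClassical.SLTwoUnipotent.coe_mul, LieClassical.SLTwoUnipotent.coe_mul, coe_u, coe_l]
  ext i j
  fin_cases i <;> fin_cases j <;> simp [w₀, Matrix.mul_apply, Fin.sum_univ_two]

theorem w₀_word (a : F) (ha : a ≠ 0) : (w₀ F)⁻¹ * (u a * l (-a⁻¹) * u a) = dg a⁻¹ (inv_ne_zero ha) := by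
  rw [inv_mul_eq_iff_eq_mul]
  apply ext_coe
  rw [LieClassical.SLTwoUnipotent.coe_mul, LieClassical.SLTwoUnipotent.coe_mul, LieClassical.SLTwoUnipotent.coe_mul, coe_u, coe_l]
  ext i j
  fin_cases i <;> fin_cases j <;> simp [w₀, dg, Matrix.mul_apply, Fin.sum_univ_two, ha]

theorem u_l_center {a b : F} (h : (u a)⁻¹ * l b ∈ Subgroup.center (SpecialLinearGroup (Fin 2) F)) : a = 0 := by
  have h4 : (((u a)⁻¹ * l b : SpecialLinearGroup (Fin 2) F) : Matrix (Fin 2) (Fin 2) F) 0 1 = -a := by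
    rw [← u_neg, LieClassical.SLTwoUnipotent.coe_mul, coe_u, coe_l]
    simp
  rcases mem_center_SL2_iff.mp h with h3 | h3
  · rw [h3] at h4
    simpa using h4.symm
  · rw [h3] at h4
    simpa using h4.symm

end

variable {F : Type*} [Field F] [Fintype F] {p : ℕ} [hp : Fact p.Prime] [CharP F p]

set_option maxHeartbeats 1000000 in
theorem exists_frame [Finite G] {q : ℕ} (P : Sylow p G) {M : Subgroup G}
    (c : Core p q (P : Subgroup G) (Cfsg.pCore p G) M)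
    (π : G →* ProjectiveSpecialLinearGroup (Fin 2) F) (hπ : Function.Surjective π)
    (hP : (P : Subgroup G).map π = (P₀ F p : Subgroup (ProjectiveSpecialLinearGroup (Fin 2) F))) :
    ∃ (x y : F → G) (g : G), Frame F (P : Subgroup G) (Cfsg.pCore p G) M x y g := by
  set S : Subgroup G := (P : Subgroup G) with hS
  set T := Cfsg.pCore p G with hT
  have hTn : T.Normal := c.normT
  have hmem : ∀ s ∈ S, ∃ a : F, pr F (u a) = π s := by
    intro s hs
    rw [← mem_P₀ p]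
    have : π s ∈ S.map π := Subgroup.mem_map_of_mem π hs
    rw [hP] at this
    exact this
  have hex : ∀ a : F, ∃ s ∈ S, π s = pr F (u a) := by
    intro a
    have : pr F (u a) ∈ S.map π := by
      rw [hP]
      exact (mem_P₀ p _).mpr ⟨a, rfl⟩
    obtain ⟨s, hs, h⟩ := this
    exact ⟨s, hs, h⟩
  obtain ⟨g, hg⟩ := hπ (pr F (w₀ F))
  choose x hxS hx using hex
  -- P₀ is proper
  have hP0 : (P₀ F p : Subgroup (ProjectiveSpecialLinearGroup (Fin 2) F)) ≠ ⊤ := by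
    intro h
    obtain ⟨Q, hQ⟩ := (data_psl F p).two (P₀ F p)
    apply hQ
    apply Sylow.ext
    apply le_antisymm
    · rw [h]; exact le_top
    · rw [h]
      have h1 : Nat.card (Q : Subgroup (ProjectiveSpecialLinearGroup (Fin 2) F)) =
          Nat.card (ProjectiveSpecialLinearGroup (Fin 2) F) := by
        rw [Nat.card_congr (Sylow.equiv Q (P₀ F p)).toEquiv]
        have : Nat.card (P₀ F p : Subgroup (ProjectiveSpecialLinearGroup (Fin 2) F)) =
          Nat.card (⊤ : Subgroup (ProjectiveSpecialLinearGroup (Fin 2) F)) := by rw [h]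
        rw [Subgroup.card_top] at this
        exact this
      rw [(Subgroup.card_eq_iff_eq_top _).mp h1]
  -- elements normalising the image are in `M`
  have hnorm : ∀ k : G, (∀ a : F, ∃ b : F, π k * pr F (u a) * (π k)⁻¹ = pr F (u b)) → k ∈ M := by
    intro k hk
    by_contra hkM
    have h1 := c.gen k hkM
    apply hP0
    rw [eq_top_iff]
    intro z _
    obtain ⟨z', rfl⟩ := hπ z
    have h2 : S ⊔ cj k S ≤ (P₀ F p : Subgroup (ProjectiveSpecialLinearGroup (Fin 2) F)).comap π := by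
      apply sup_le
      · intro s hs
        obtain ⟨a, ha⟩ := hmem s hs
        exact (mem_P₀ p _).mpr ⟨a, ha⟩
      · intro s hs
        rw [mem_cj] at hs
        obtain ⟨a, ha⟩ := hmem _ hs
        obtain ⟨b, hb⟩ := hk a
        apply (mem_P₀ p _).mpr
        refine ⟨b, ?_⟩
        rw [← hb, ha, ← map_inv, ← map_mul, ← map_mul]
        congr 1
        group
    rw [h1] at h2
    exact h2 (Subgroup.mem_top z')
  have hK : π.ker ≤ M := by
    intro k hk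
    apply hnorm
    intro a
    refine ⟨a, ?_⟩
    rw [MonoidHom.mem_ker] at hk
    rw [hk]
    group
  have hgM : g ∉ M := by
    intro hgM
    apply c.neM
    rw [eq_top_iff]
    intro z _
    have h1 : M.map π = ⊤ := by
      have h2 : (M.map π).comap (pr F) = ⊤ := by
        apply eq_top_of_u_mem_of_l_mem
        · intro a
          exact ⟨x a, c.leM (hxS a), hx a⟩
        · intro a
          refine ⟨g * x (-a) * g⁻¹, M.mul_mem (M.mul_mem hgM (c.leM (hxS _))) (M.inv_mem hgM), ?_⟩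
          rw [map_mul, map_mul, map_inv, hg, hx, ← map_mul, ← map_inv, ← map_mul, w₀_conj, neg_neg]
      rw [eq_top_iff]
      intro z _
      obtain ⟨z', rfl⟩ := pr_surj (F := F) z
      have : z' ∈ (M.map π).comap (pr F) := by rw [h2]; trivial
      exact this
    obtain ⟨m, hm, hmz⟩ : π z ∈ M.map π := by rw [h1]; trivial
    have h3 : m⁻¹ * z ∈ M := by
      apply hK
      rw [MonoidHom.mem_ker, map_mul, map_inv, hmz, inv_mul_cancel]
    have := M.mul_mem hm h3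
    rwa [mul_inv_cancel_left] at this
  have hKS : ∀ s ∈ S, π s = 1 → s ∈ T := by
    intro s hs h1
    have hne : π.ker ⊔ S ≠ ⊤ := by
      intro h
      apply c.neM
      rw [eq_top_iff, ← h]
      exact sup_le hK c.leM
    exact (c.dich π.ker inferInstance).resolve_left hne ⟨h1, hs⟩
  have hTK : ∀ t ∈ T, π t = 1 := by
    intro t ht
    obtain ⟨a, ha⟩ := hmem t (c.le ht)
    have h1 : g⁻¹ * t * g ∈ T := by
      have := hTn.conj_mem t ht g⁻¹
      rwa [inv_inv] at this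
    obtain ⟨b, hb⟩ := hmem _ (c.le h1)
    have h2 : pr F (l (-b)) = π t := by
      rw [← w₀_conj, map_mul, map_mul, map_inv, hb, ← hg, ← map_inv, ← map_mul, ← map_mul]
      congr 1
      group
    have h3 : (u a)⁻¹ * l (-b) ∈ Subgroup.center (SpecialLinearGroup (Fin 2) F) :=
      QuotientGroup.eq.mp (ha.trans h2.symm)
    rw [← ha, u_l_center h3, u_zero, map_one]
  have hxadd : ∀ a b, (x (a + b))⁻¹ * (x a * x b) ∈ T := by
    intro a b
    apply hKS _ (S.mul_mem (S.inv_mem (hxS _)) (S.mul_mem (hxS _) (hxS _)))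
    rw [map_mul, map_mul, map_inv, hx, hx, hx, u_add, map_mul, inv_mul_cancel]
  have hxT : ∀ a, a ≠ 0 → x a ∉ T := by
    intro a ha h
    apply ha
    have h1 := hTK _ h
    rw [hx, ← map_one (pr F), ← u_zero] at h1
    exact u_pr_inj h1
  have hconj : ∀ t ∈ T, g * t * g⁻¹ ∈ T := fun t ht => hTn.conj_mem t ht g
  have hconj' : ∀ t, g * t * g⁻¹ ∈ T → t ∈ T := by
    intro t ht
    have := hTn.conj_mem _ ht g⁻¹
    have e : g⁻¹ * (g * t * g⁻¹) * g⁻¹⁻¹ = t := by group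
    rwa [e] at this
  refine ⟨x, fun b => g * x (-b) * g⁻¹, g, ?_⟩
  refine ⟨hxS, fun b => conj_mem_cj (hxS _), hgM, hxadd, ?_, hxT, ?_, ?_, ?_, ?_⟩
  · intro a b
    have e : (g * x (-(a + b)) * g⁻¹)⁻¹ * (g * x (-a) * g⁻¹ * (g * x (-b) * g⁻¹)) =
        g * ((x (-a + -b))⁻¹ * (x (-a) * x (-b))) * g⁻¹ := by
      rw [neg_add]; group
    rw [e]
    exact hconj _ (hxadd _ _)
  · intro b hb h
    exact hxT (-b) (neg_ne_zero.mpr hb) (hconj' _ h)
  · intro s hs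
    obtain ⟨a, ha⟩ := hmem s hs
    refine ⟨a, hKS _ (S.mul_mem (S.inv_mem (hxS _)) hs) ?_⟩
    rw [map_mul, map_inv, hx, ha, inv_mul_cancel]
  · intro s hs
    rw [mem_cj] at hs
    obtain ⟨a, ha⟩ := hmem _ hs
    refine ⟨-a, ?_⟩
    have e : (g * x (- -a) * g⁻¹)⁻¹ * s = g * ((x a)⁻¹ * (g⁻¹ * s * g)) * g⁻¹ := by
      rw [neg_neg]; group
    rw [e]
    apply hconj
    apply hKS _ (S.mul_mem (S.inv_mem (hxS _)) hs)
    rw [map_mul, map_inv, hx, ha, inv_mul_cancel]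
  · intro a ha
    apply hnorm
    intro b
    have e : π (g⁻¹ * (x a * (g * x (- -a⁻¹) * g⁻¹) * x a)) = pr F (dg a⁻¹ (inv_ne_zero ha)) := by
      rw [← w₀_word a ha]
      have h1 : pr F (l (-a⁻¹)) = π (g * x (- -a⁻¹) * g⁻¹) := by
        rw [map_mul, map_mul, map_inv, hg, hx, ← map_mul, ← map_inv, ← map_mul, w₀_conj, neg_neg]
      rw [map_mul, map_mul, map_mul, map_inv, hg, hx, ← h1, map_mul, map_mul, map_mul, map_inv]
    rw [e, ← map_inv, ← map_mul, ← map_mul, dg_conj]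
    exact ⟨_, rfl⟩

end Cfsg.Agent.H213.Rk
end

-- part: H213/Sec
section
/-!
# Natural sections

`Sec q S T M U U₁ W`: the section `U / W` with `U₁ / W = C_{U/W}(S)` looks like a natural module.
`Sec.natural`: it is one.
-/

set_option autoImplicit false
set_option linter.unusedSectionVars false

namespace Cfsg.Agent.H213.Rk

open Matrix Subgroup Cfsg.Agent.H260.Push
open Cfsg.Agent.LieClassical.SLTwoUnipotent (u l)
open scoped IsMulCommutative

variable {G : Type*} [Group G]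

/-- The section `U / W` looks like a natural module. -/
structure Sec (q : ℕ) (S T M U U₁ W : Subgroup G) : Prop where
  Un : U.Normal
  Wn : W.Normal
  WU₁ : W ≤ U₁
  U₁U : U₁ ≤ U
  ab : ∀ x ∈ U, ∀ y ∈ U, x * y * x⁻¹ * y⁻¹ ∈ W
  triv : ∀ t ∈ T, ∀ x ∈ U, t * x * t⁻¹ * x⁻¹ ∈ W
  q1 : ∀ s ∈ S, ∀ x ∈ U₁, s * x * s⁻¹ * x⁻¹ ∈ W
  q2 : ∀ s ∈ S, ∀ x ∈ U, s * x * s⁻¹ * x⁻¹ ∈ U₁
  fix : ∀ s ∈ S, s ∉ T → ∀ x ∈ U, s * x * s⁻¹ * x⁻¹ ∈ W → x ∈ U₁
  sup : ∀ g : G, g ∉ M → U₁ ⊔ cj g U₁ = U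
  inf : ∀ g : G, g ∉ M → ∀ x ∈ U₁, x ∈ cj g U₁ → x ∈ W
  card : Nat.card U₁ = q * Nat.card W

namespace Sec

variable {q : ℕ} {S T M U U₁ W : Subgroup G} (h : Sec q S T M U U₁ W)

include h

theorem WU : W ≤ U := h.WU₁.trans h.U₁U

/-- `U₁` is normal in `U`. -/
theorem norm1 {x y : G} (hx : x ∈ U) (hy : y ∈ U₁) : x * y * x⁻¹ ∈ U₁ := by
  have h1 := h.WU₁ (h.ab x hx y (h.U₁U hy))
  have := U₁.mul_mem h1 hy
  have e : x * y * x⁻¹ * y⁻¹ * y = x * y * x⁻¹ := by group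
  rwa [e] at this

theorem cjU (g : G) {x : G} (hx : x ∈ U) : g * x * g⁻¹ ∈ U := h.Un.conj_mem x hx g

theorem cjU' (g : G) {x : G} (hx : x ∈ U) : g⁻¹ * x * g ∈ U := by
  have := h.Un.conj_mem x hx g⁻¹
  rwa [inv_inv] at this

theorem cjU₁_le (g : G) : cj g U₁ ≤ U := by
  intro x hx
  rw [mem_cj] at hx
  have := h.cjU g (h.U₁U hx)
  have e : g * (g⁻¹ * x * g) * g⁻¹ = x := by group
  rwa [e] at this

theorem W_le_cj (g : G) : W ≤ cj g U₁ := by
  intro x hx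
  rw [mem_cj]
  have := h.Wn.conj_mem x hx g⁻¹
  rw [inv_inv] at this
  exact h.WU₁ this

/-- decomposition -/
theorem dec {g : G} (hg : g ∉ M) {x : G} (hx : x ∈ U) : ∃ a ∈ U₁, ∃ b ∈ cj g U₁, x = a * b := by
  rw [← h.sup g hg] at hx
  have hle : cj g U₁ ≤ normalizer (U₁ : Set G) := by
    intro b hb
    have hbU := h.cjU₁_le g hb
    rw [mem_normalizer_iff]
    intro y
    constructor
    · intro hy
      exact h.norm1 hbU hy
    · intro hy
      have := h.norm1 (U.inv_mem hbU) hy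
      have e : b⁻¹ * (b * y * b⁻¹) * b⁻¹⁻¹ = y := by group
      rwa [e] at this
  have h1 : x ∈ ((U₁ ⊔ cj g U₁ : Subgroup G) : Set G) := hx
  rw [Subgroup.coe_mul_of_right_le_normalizer_left _ _ hle] at h1
  obtain ⟨a, ha, b, hb, rfl⟩ := h1
  exact ⟨a, ha, b, hb, rfl⟩

/-- the commutator map of `y` covers `U₁ / W` -/
theorem cover [Finite G] (hT : T ≤ S) (hc : Nat.card S = q * Nat.card T)
    {y : G} (hy : y ∈ U) (hy1 : y ∉ U₁)
    {x : G} (hx : x ∈ U₁) : ∃ s ∈ S, (s * y * s⁻¹ * y⁻¹)⁻¹ * x ∈ W := by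
  have hTpos : 0 < Nat.card T := Nat.card_pos
  have hWpos : 0 < Nat.card W := Nat.card_pos
  have hc1 : Nat.card (S ⧸ T.subgroupOf S) = q := by
    have h1 := Subgroup.card_eq_card_quotient_mul_card_subgroup (T.subgroupOf S)
    rw [hc, Nat.card_congr (Subgroup.subgroupOfEquivOfLe hT).toEquiv] at h1
    exact (Nat.eq_of_mul_eq_mul_right hTpos h1).symm
  have hc2 : Nat.card (U₁ ⧸ W.subgroupOf U₁) = q := by
    have h1 := Subgroup.card_eq_card_quotient_mul_card_subgroup (W.subgroupOf U₁)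
    rw [h.card, Nat.card_congr (Subgroup.subgroupOfEquivOfLe h.WU₁).toEquiv] at h1
    exact (Nat.eq_of_mul_eq_mul_right hWpos h1).symm
  let f : S ⧸ T.subgroupOf S → U₁ ⧸ W.subgroupOf U₁ := fun c =>
    Quotient.mk'' ⟨(Quotient.out c : S) * y * (Quotient.out c : S)⁻¹ * y⁻¹,
      h.q2 _ (Quotient.out c).2 y hy⟩
  have hf : Function.Injective f := by
    intro c₁ c₂ hcc
    have h1 := hcc
    simp only [f] at h1
    rw [Quotient.eq'', QuotientGroup.leftRel_apply, Subgroup.mem_subgroupOf] at h1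
    rw [← Quotient.out_eq' c₁, ← Quotient.out_eq' c₂, Quotient.eq'', QuotientGroup.leftRel_apply,
      Subgroup.mem_subgroupOf]
    set s₁ := (Quotient.out c₁ : S) with hs₁
    set s₂ := (Quotient.out c₂ : S) with hs₂
    by_contra hne
    apply hy1
    have hne' : ((s₁ : G)⁻¹ * s₂) ∉ T := hne
    apply h.fix _ (S.mul_mem (S.inv_mem s₁.2) s₂.2) hne' y hy
    -- `[s₁⁻¹ s₂, y] ∈ W`
    have h2 : ((s₁ : G) * y * (s₁ : G)⁻¹ * y⁻¹)⁻¹ * ((s₂ : G) * y * (s₂ : G)⁻¹ * y⁻¹) ∈ W := h1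
    have h3 := h.Wn.conj_mem _ h2 (y * (s₁ : G)⁻¹ * y⁻¹)
    have e : y * (s₁ : G)⁻¹ * y⁻¹ * (((s₁ : G) * y * (s₁ : G)⁻¹ * y⁻¹)⁻¹ *
        ((s₂ : G) * y * (s₂ : G)⁻¹ * y⁻¹)) * (y * (s₁ : G)⁻¹ * y⁻¹)⁻¹ =
        ((s₁ : G)⁻¹ * s₂) * y * ((s₁ : G)⁻¹ * s₂)⁻¹ * y⁻¹ := by
      group
    rwa [e] at h3
  have hbij := Function.Injective.bijective_of_nat_card_le hf (by rw [hc1, hc2])
  obtain ⟨c, hcx⟩ := hbij.2 (Quotient.mk'' ⟨x, hx⟩)
  simp only [f] at hcx
  rw [Quotient.eq'', QuotientGroup.leftRel_apply, Subgroup.mem_subgroupOf] at hcx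
  exact ⟨(Quotient.out c : S), (Quotient.out c).2, hcx⟩

/-- `M` normalises `U₁`. -/
theorem M_norm [Finite G] (hT : T ≤ S) (hc : Nat.card S = q * Nat.card T) (hSM : S ≤ M) (hMne : M ≠ ⊤)
    {m : G} (hm : m ∈ M) : cj m U₁ = U₁ := by
  obtain ⟨g, hg⟩ : ∃ g : G, g ∉ M := by
    by_contra hcon
    push Not at hcon
    exact hMne (eq_top_iff.mpr fun x _ => hcon x)
  have key : ∀ m ∈ M, cj m U₁ ≤ U₁ := by
    intro m hm x hx
    by_contra hx1
    have hxU := h.cjU₁_le m hx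
    obtain ⟨a, ha, y, hy, hxy⟩ := h.dec hg hxU
    have hyU := h.cjU₁_le g hy
    have hy1 : y ∉ U₁ := fun hy1 => hx1 (by rw [hxy]; exact U₁.mul_mem ha hy1)
    obtain ⟨s, hs, hsa⟩ := h.cover hT hc hyU hy1 ha
    -- `x` lies in the conjugate by `s g`
    have h1 : x ∈ cj (s * g) U₁ := by
      have h2 : s * y * s⁻¹ ∈ cj (s * g) U₁ := by
        rw [← cj_mul]
        exact conj_mem_cj hy
      have h3 := h.Wn.conj_mem _ hsa (s * y * s⁻¹ * y⁻¹)
      have e : (s * y * s⁻¹ * y⁻¹) * ((s * y * s⁻¹ * y⁻¹)⁻¹ * a) * (s * y * s⁻¹ * y⁻¹)⁻¹ * (s * y * s⁻¹) = x := by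
        rw [hxy]; group
      rw [← e]
      exact (cj (s * g) U₁).mul_mem (h.W_le_cj _ h3) h2
    have h4 : m⁻¹ * x * m ∈ U₁ := mem_cj.mp hx
    have h5 : m⁻¹ * x * m ∈ cj (m⁻¹ * (s * g)) U₁ := by
      rw [mem_cj] at h1 ⊢
      have e : (m⁻¹ * (s * g))⁻¹ * (m⁻¹ * x * m) * (m⁻¹ * (s * g)) = (s * g)⁻¹ * x * (s * g) := by group
      rwa [e]
    have hnM : m⁻¹ * (s * g) ∉ M := by
      intro hmem
      apply hg
      have h6 := M.mul_mem (M.mul_mem (M.inv_mem (hSM hs)) hm) hmem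
      have e : s⁻¹ * m * (m⁻¹ * (s * g)) = g := by group
      rwa [e] at h6
    have h6 := h.inf _ hnM _ h4 h5
    have h7 := h.Wn.conj_mem _ h6 m
    have e : m * (m⁻¹ * x * m) * m⁻¹ = x := by group
    rw [e] at h7
    exact hx1 (h.WU₁ h7)
  apply le_antisymm (key m hm)
  have h1 := cj_mono (g := m) (key m⁻¹ (M.inv_mem hm))
  rwa [cj_cj_inv] at h1

end Sec

/-- A natural section. -/
structure NatSec (F : Type*) [Field F] (U W : Subgroup G) (ρ : G →* SpecialLinearGroup (Fin 2) F)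
    (ψ : G → (Fin 2 → F)) : Prop where
  Un : U.Normal
  Wn : W.Normal
  WU : W ≤ U
  add : ∀ x ∈ U, ∀ y ∈ U, ψ (x * y) = ψ x + ψ y
  sur : ∀ v, ∃ x ∈ U, ψ x = v
  ker : ∀ x ∈ U, ψ x = 0 ↔ x ∈ W
  act : ∀ g : G, ∀ x ∈ U, ψ (g * x * g⁻¹) = (ρ g).1.mulVec (ψ x)
  rsur : Function.Surjective ρ

/-- conjugation action on an abelian normal subgroup of a quotient -/
def act {Γ : Type*} [Group Γ] (f : G →* Γ) (H : Subgroup Γ) [hH : H.Normal] [IsMulCommutative H] :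
    G →* AddMonoid.End (Additive H) where
  toFun g :=
    { toFun := fun n => Additive.ofMul ⟨f g * (n.toMul : H) * (f g)⁻¹, hH.conj_mem _ n.toMul.2 _⟩
      map_zero' := by
        apply congrArg Additive.ofMul
        apply Subtype.ext
        simp
      map_add' := fun a b => by
        apply congrArg Additive.ofMul
        apply Subtype.ext
        simp }
  map_one' := by
    ext n
    change f 1 * ((n.toMul : H) : Γ) * (f 1)⁻¹ = ((n.toMul : H) : Γ)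
    simp
  map_mul' a b := by
    ext n
    change f (a * b) * ((n.toMul : H) : Γ) * (f (a * b))⁻¹ =
      f a * (f b * ((n.toMul : H) : Γ) * (f b)⁻¹) * (f a)⁻¹
    simp [mul_assoc]

theorem act_apply {Γ : Type*} [Group Γ] (f : G →* Γ) (H : Subgroup Γ) [hH : H.Normal] [IsMulCommutative H]
    (g : G) (n : Additive H) :
    ((act f H g n).toMul : H) = (⟨f g * (n.toMul : H) * (f g)⁻¹, hH.conj_mem _ n.toMul.2 _⟩ : H) := rfl

set_option maxHeartbeats 1000000 in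
/-- **Natural sections.** -/
theorem Sec.natural [Finite G] {F : Type*} [Field F] [Fintype F] {S T M U U₁ W : Subgroup G}
    (h : Sec (Fintype.card F) S T M U U₁ W) {p : ℕ} [Fact p.Prime]
    (c : Core p (Fintype.card F) S T M) {x y : F → G} {g₀ : G} (fr : Frame F S T M x y g₀) :
    ∃ (ρ : G →* SpecialLinearGroup (Fin 2) F) (ψ : G → (Fin 2 → F)), NatSec F U W ρ ψ ∧
      (∀ a, ρ (x a) = u a) ∧ (∀ b, ρ (y b) = l b) ∧ (∀ t ∈ T, ρ t = 1) ∧
      (∀ z ∈ U, z ∈ U₁ ↔ ψ z 1 = 0) := by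
  classical
  have hWn := h.Wn
  have hUn := h.Un
  have hTn := c.normT
  set π := QuotientGroup.mk' W with hπ
  have hπk : ∀ z, π z = 1 ↔ z ∈ W := fun z => QuotientGroup.eq_one_iff z
  set H := U.map π with hH
  have hHn : H.Normal := Subgroup.Normal.map hUn π (QuotientGroup.mk'_surjective W)
  have hHc : IsMulCommutative H := by
    constructor
    constructor
    rintro ⟨_, a, ha, rfl⟩ ⟨_, b, hb, rfl⟩
    apply Subtype.ext
    change π a * π b = π b * π a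
    rw [← map_mul, ← map_mul, ← mul_inv_eq_one, ← map_inv, ← map_mul, hπk]
    have := h.ab a ha b hb
    have e : a * b * (b * a)⁻¹ = a * b * a⁻¹ * b⁻¹ := by group
    rwa [e]
  let α := act π H
  -- the class of an element of `U`
  let cl : U → Additive H := fun z => Additive.ofMul ⟨π z, Subgroup.mem_map_of_mem π z.2⟩
  have hcl_surj : ∀ n : Additive H, ∃ z : U, cl z = n := by
    intro n
    obtain ⟨z, hz, hzn⟩ := (n.toMul : H).2
    refine ⟨⟨z, hz⟩, ?_⟩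
    apply congrArg Additive.ofMul
    exact Subtype.ext hzn
  have hcl_mul : ∀ a b : U, cl (a * b) = cl a + cl b := by
    intro a b
    apply congrArg Additive.ofMul
    apply Subtype.ext
    exact map_mul π (a : G) (b : G)
  have hcl_inv : ∀ a : U, cl a⁻¹ = - cl a := by
    intro a
    apply congrArg Additive.ofMul
    apply Subtype.ext
    exact map_inv π (a : G)
  have hcl_act : ∀ (k : G) (a : U), α k (cl a) = cl ⟨k * a * k⁻¹, hUn.conj_mem _ a.2 k⟩ := by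
    intro k a
    apply congrArg Additive.ofMul
    apply Subtype.ext
    change π k * π a * (π k)⁻¹ = π (k * a * k⁻¹)
    rw [map_mul, map_mul, map_inv]
  have hcl_eq : ∀ a b : U, cl a = cl b ↔ (a : G) * (b : G)⁻¹ ∈ W := by
    intro a b
    rw [← hπk, map_mul, map_inv, mul_inv_eq_one]
    constructor
    · intro hab
      exact congrArg (fun z : Additive H => ((z.toMul : H) : G ⧸ W)) hab
    · intro hab
      apply congrArg Additive.ofMul
      exact Subtype.ext hab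
  -- the subgroups
  let N : Subgroup G → AddSubgroup (Additive H) := fun V => ((V.map π).subgroupOf H).toAddSubgroup
  have hN : ∀ (V : Subgroup G), W ≤ V → ∀ a : U, cl a ∈ N V ↔ (a : G) ∈ V := by
    intro V hV a
    have h1 : cl a ∈ N V ↔ π a ∈ V.map π := Iff.rfl
    rw [h1]
    constructor
    · rintro ⟨v, hv, hva⟩
      have h2 : v⁻¹ * a ∈ W := by rw [← hπk, map_mul, map_inv, hva, inv_mul_cancel]
      have := V.mul_mem hv (hV h2)
      rwa [mul_inv_cancel_left] at this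
    · intro ha
      exact Subgroup.mem_map_of_mem π ha
  have hWc := h.W_le_cj g₀
  have hsub : ∀ (k : G) (a : U), α k (cl a) - cl a =
      cl ⟨k * a * k⁻¹ * (a : G)⁻¹, U.mul_mem (hUn.conj_mem _ a.2 k) (U.inv_mem a.2)⟩ := by
    intro k a
    rw [hcl_act, sub_eq_add_neg, ← hcl_inv, ← hcl_mul]
    rfl
  have hfixa : ∀ (k : G) (a : U), k * a * k⁻¹ * (a : G)⁻¹ ∈ W → α k (cl a) = cl a := by
    intro k a hk
    rw [hcl_act, hcl_eq]
    exact hk
  have hfixa' : ∀ (k : G) (a : U), α k (cl a) = cl a → k * a * k⁻¹ * (a : G)⁻¹ ∈ W := by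
    intro k a hk
    rwa [hcl_act, hcl_eq] at hk
  have hT1 : ∀ t ∈ T, α t = 1 := by
    intro t ht
    ext n
    obtain ⟨a, rfl⟩ := hcl_surj n
    have := hfixa t a (h.triv t ht a a.2)
    rw [this]
    rfl
  have hcjT : ∀ t, t ∈ T → g₀⁻¹ * t * g₀ ∈ T := by
    intro t ht
    have := hTn.conj_mem t ht g₀⁻¹
    rwa [inv_inv] at this
  -- conjugation by `g₀`
  have hcjW : ∀ z, z ∈ W → g₀ * z * g₀⁻¹ ∈ W := fun z hz => hWn.conj_mem z hz g₀
  have hcjW' : ∀ z, z ∈ W → g₀⁻¹ * z * g₀ ∈ W := by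
    intro z hz
    have := hWn.conj_mem z hz g₀⁻¹
    rwa [inv_inv] at this
  have hdat : NatAbs.Dat (N := Additive H) α x y (N U₁) (N (cj g₀ U₁)) := by
    refine ⟨?_, ?_, ?_, ?_, ?_, ?_, ?_, ?_, ?_, ?_⟩
    · rw [eq_bot_iff]
      rintro n ⟨hn1, hn2⟩
      obtain ⟨a, rfl⟩ := hcl_surj n
      have h1 := (hN U₁ h.WU₁ a).mp hn1
      have h2 := (hN (cj g₀ U₁) hWc a).mp hn2
      have h3 := h.inf g₀ fr.gM a h1 h2
      have h4 : cl a = cl 1 := by
        rw [hcl_eq]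
        simpa using h3
      have h5 : cl 1 = 0 := by
        have := hcl_mul 1 1
        rw [mul_one] at this
        exact left_eq_add.mp this
      rw [h4, h5]
      exact zero_mem _
    · rw [eq_top_iff]
      intro n _
      obtain ⟨a, rfl⟩ := hcl_surj n
      obtain ⟨b, hb, d, hd, hbd⟩ := h.dec fr.gM a.2
      have hbU := h.U₁U hb
      have hdU := h.cjU₁_le g₀ hd
      have e : cl a = cl ⟨b, hbU⟩ + cl ⟨d, hdU⟩ := by
        rw [← hcl_mul]
        congr 1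
        exact Subtype.ext hbd
      rw [e]
      exact AddSubgroup.add_mem_sup ((hN U₁ h.WU₁ ⟨b, hbU⟩).mpr hb) ((hN _ hWc ⟨d, hdU⟩).mpr hd)
    · intro a n hn
      obtain ⟨z, rfl⟩ := hcl_surj n
      exact hfixa _ _ (h.q1 _ (fr.xS a) z ((hN U₁ h.WU₁ z).mp hn))
    · intro a n
      obtain ⟨z, rfl⟩ := hcl_surj n
      rw [hsub]
      exact (hN U₁ h.WU₁ _).mpr (h.q2 _ (fr.xS a) z z.2)
    · intro a b n
      have h1 := hT1 _ (fr.xadd a b)
      have h2 : x a * x b = x (a + b) * ((x (a + b))⁻¹ * (x a * x b)) := by group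
      rw [← NatAbs.mul_ap, ← map_mul, h2, map_mul, h1, mul_one]
    · intro a ha n hn
      obtain ⟨z, rfl⟩ := hcl_surj n
      exact (hN U₁ h.WU₁ z).mpr (h.fix _ (fr.xS a) (fr.xT a ha) z z.2 (hfixa' _ _ hn))
    · intro b n hn
      obtain ⟨z, rfl⟩ := hcl_surj n
      apply hfixa
      have h1 := (hN (cj g₀ U₁) hWc z).mp hn
      rw [mem_cj] at h1
      have h2 := fr.yS b
      rw [mem_cj] at h2
      have h3 := hcjW _ (h.q1 _ h2 _ h1)
      have e : g₀ * (g₀⁻¹ * y b * g₀ * (g₀⁻¹ * z * g₀) * (g₀⁻¹ * y b * g₀)⁻¹ * (g₀⁻¹ * z * g₀)⁻¹) * g₀⁻¹ =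
        y b * z * (y b)⁻¹ * (z : G)⁻¹ := by group
      rwa [e] at h3
    · intro b n
      obtain ⟨z, rfl⟩ := hcl_surj n
      rw [hsub]
      apply (hN (cj g₀ U₁) hWc _).mpr
      rw [mem_cj]
      have h2 := fr.yS b
      rw [mem_cj] at h2
      have h3 := h.q2 _ h2 _ (h.cjU' g₀ z.2)
      have e : g₀⁻¹ * (y b * z * (y b)⁻¹ * (z : G)⁻¹) * g₀ =
        g₀⁻¹ * y b * g₀ * (g₀⁻¹ * z * g₀) * (g₀⁻¹ * y b * g₀)⁻¹ * (g₀⁻¹ * z * g₀)⁻¹ := by group
      change g₀⁻¹ * (y b * z * (y b)⁻¹ * (z : G)⁻¹) * g₀ ∈ U₁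
      rw [e]
      exact h3
    · intro a b n
      have h1 := hT1 _ (fr.yadd a b)
      have h2 : y a * y b = y (a + b) * ((y (a + b))⁻¹ * (y a * y b)) := by group
      rw [← NatAbs.mul_ap, ← map_mul, h2, map_mul, h1, mul_one]
    · intro a ha n hn
      obtain ⟨z, rfl⟩ := hcl_surj n
      rw [← NatAbs.mul_ap, ← NatAbs.mul_ap, ← map_mul, ← map_mul, hcl_act]
      apply (hN (cj g₀ U₁) hWc _).mpr
      have h1 := (hN U₁ h.WU₁ z).mp hn
      have h2 := h.M_norm c.le c.card c.leM c.neM (fr.w a ha)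
      have h3 : cj g₀ (cj (g₀⁻¹ * (x a * y (-a⁻¹) * x a)) U₁) = cj g₀ U₁ := by rw [h2]
      rw [← h3, cj_mul]
      have e : g₀ * (g₀⁻¹ * (x a * y (-a⁻¹) * x a)) = x a * y (-a⁻¹) * x a := by group
      rw [e]
      exact conj_mem_cj h1
  have hcard : Nat.card (N U₁) = Fintype.card F := by
    have h1 : Nat.card (N U₁) = Nat.card (U₁.map π) :=
      Nat.card_congr (Subgroup.subgroupOfEquivOfLe (Subgroup.map_mono h.U₁U)).toEquiv
    have h2 : π.ker.relIndex U₁ = Nat.card (U₁.map π) := Subgroup.relIndex_ker U₁ π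
    have h3 : π.ker = W := QuotientGroup.ker_mk' W
    have h4 := card_mul_relIndex h.WU₁
    rw [h1, ← h2, h3]
    rw [h.card, mul_comm] at h4
    exact Nat.eq_of_mul_eq_mul_right Nat.card_pos h4
  have hgen : ∀ X : Subgroup G, (∀ a, x a ∈ X) → (∀ b, y b ∈ X) → (∀ g, α g = 1 → g ∈ X) → X = ⊤ := by
    intro X hx hy hk
    rw [eq_top_iff, ← c.gen g₀ fr.gM]
    apply sup_le
    · intro s hs
      obtain ⟨a, ha⟩ := fr.xsur s hs
      have := X.mul_mem (hx a) (hk _ (hT1 _ ha))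
      rwa [mul_inv_cancel_left] at this
    · intro s hs
      obtain ⟨a, ha⟩ := fr.ysur s hs
      have := X.mul_mem (hy a) (hk _ (hT1 _ ha))
      rwa [mul_inv_cancel_left] at this
  obtain ⟨ρ, ψ, hρs, hρψ, hρx, hρy, hψ1⟩ := NatAbs.natural hdat hcard hgen
  let ψ' : G → (Fin 2 → F) := fun z => if hz : z ∈ U then ψ (cl ⟨z, hz⟩) else 0
  have hψ' : ∀ z : U, ψ' z = ψ (cl z) := by
    intro z
    simp only [ψ']
    rw [dif_pos z.2]
  refine ⟨ρ, ψ', ⟨hUn, hWn, h.WU, ?_, ?_, ?_, ?_, hρs⟩, hρx, hρy, ?_, ?_⟩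
  · intro a ha b hb
    have e1 := hψ' ⟨a, ha⟩
    have e2 := hψ' ⟨b, hb⟩
    have e3 := hψ' (⟨a, ha⟩ * ⟨b, hb⟩)
    rw [hcl_mul, map_add] at e3
    change ψ' (a * b) = _ at e3
    rw [e3, ← e1, ← e2]
  · intro v
    obtain ⟨z, hz⟩ := hcl_surj (ψ.symm v)
    refine ⟨z, z.2, ?_⟩
    rw [hψ', hz, AddEquiv.apply_symm_apply]
  · intro z hz
    have e1 := hψ' ⟨z, hz⟩
    change ψ' z = _ at e1
    rw [e1]
    have h5 : cl 1 = 0 := by
      have := hcl_mul 1 1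
      rw [mul_one] at this
      exact left_eq_add.mp this
    constructor
    · intro h0
      have h6 : cl ⟨z, hz⟩ = cl 1 := by
        rw [h5]
        exact (AddEquiv.map_eq_zero_iff ψ).mp h0
      rw [hcl_eq] at h6
      simpa using h6
    · intro hzW
      have h6 : cl ⟨z, hz⟩ = cl 1 := by
        rw [hcl_eq]
        simpa using hzW
      rw [h6, h5, map_zero]
  · intro g z hz
    have e1 := hψ' ⟨z, hz⟩
    have e2 := hψ' ⟨g * z * g⁻¹, hUn.conj_mem _ hz g⟩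
    change ψ' z = _ at e1
    change ψ' (g * z * g⁻¹) = _ at e2
    rw [e2, e1, ← hρψ, hcl_act]
  · intro t ht
    apply NatAbs.sl_eq
    intro v
    obtain ⟨n, rfl⟩ := ψ.surjective v
    rw [← hρψ, hT1 t ht, NatAbs.one_mv]
    rfl
  · intro z hz
    have e1 := hψ' ⟨z, hz⟩
    change ψ' z = _ at e1
    rw [e1, ← hψ1, hN U₁ h.WU₁ ⟨z, hz⟩]

end Cfsg.Agent.H213.Rk
end

-- part: H213/NatSec
section
/-!
# Natural sections and chief factors
-/

set_option autoImplicit false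
set_option linter.unusedSectionVars false

namespace Cfsg.Agent.H213.Rk

open Matrix Subgroup Cfsg.Agent.H260.Push
open Cfsg.Agent.LieClassical.SLTwoUnipotent (u l)
open scoped commutatorElement

variable {G : Type*} [Group G]

theorem exists_col {F : Type*} [Field F] {v : Fin 2 → F} (hv : v ≠ 0) :
    ∃ M : SpecialLinearGroup (Fin 2) F, M.1.mulVec ![1, 0] = v := by
  by_cases ha : v 0 = 0
  · have hb : v 1 ≠ 0 := by
      intro hb
      apply hv
      ext i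
      fin_cases i
      · exact ha
      · exact hb
    refine ⟨⟨!![0, -(v 1)⁻¹; v 1, 0], by simp [hb]⟩, ?_⟩
    ext i
    fin_cases i
    · simp [Matrix.mulVec, dotProduct, Fin.sum_univ_two, ha]
    · simp [Matrix.mulVec, dotProduct, Fin.sum_univ_two]
  · refine ⟨⟨!![v 0, 0; v 1, (v 0)⁻¹], by simp [ha]⟩, ?_⟩
    ext i
    fin_cases i
    · simp [Matrix.mulVec, dotProduct, Fin.sum_univ_two]
    · simp [Matrix.mulVec, dotProduct, Fin.sum_univ_two]

theorem exists_trans {F : Type*} [Field F] {v w : Fin 2 → F} (hv : v ≠ 0) (hw : w ≠ 0) :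
    ∃ M : SpecialLinearGroup (Fin 2) F, M.1.mulVec v = w := by
  obtain ⟨A, hA⟩ := exists_col hv
  obtain ⟨B, hB⟩ := exists_col hw
  refine ⟨B * A⁻¹, ?_⟩
  rw [NatAbs.mul_mv, ← hA, ← NatAbs.mul_mv A⁻¹ A, inv_mul_cancel, NatAbs.one_mv, hB]

namespace NatSec

variable {F : Type*} [Field F] {U W : Subgroup G} {ρ : G →* SpecialLinearGroup (Fin 2) F}
  {ψ : G → (Fin 2 → F)} (h : NatSec F U W ρ ψ)

include h

theorem one : ψ 1 = 0 := (h.ker 1 U.one_mem).mpr W.one_mem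

theorem inv {x : G} (hx : x ∈ U) : ψ x⁻¹ = - ψ x := by
  have h1 := h.add x hx x⁻¹ (U.inv_mem hx)
  rw [mul_inv_cancel, h.one] at h1
  exact (neg_eq_of_add_eq_zero_right h1.symm).symm

theorem eq_iff {x y : G} (hx : x ∈ U) (hy : y ∈ U) : ψ x = ψ y ↔ x * y⁻¹ ∈ W := by
  rw [← h.ker _ (U.mul_mem hx (U.inv_mem hy)), h.add x hx _ (U.inv_mem hy), h.inv hy,
    ← sub_eq_add_neg, sub_eq_zero]

theorem cjU (g : G) {x : G} (hx : x ∈ U) : g * x * g⁻¹ ∈ U := h.Un.conj_mem x hx g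

theorem ρ_eq_one {g : G} (hg : ∀ x ∈ U, g * x * g⁻¹ * x⁻¹ ∈ W) : ρ g = 1 := by
  apply NatAbs.sl_eq
  intro v
  obtain ⟨x, hx, rfl⟩ := h.sur v
  rw [← h.act g x hx, NatAbs.one_mv, h.eq_iff (h.cjU g hx) hx]
  exact hg x hx

theorem of_ρ {g : G} (hg : ρ g = 1) {x : G} (hx : x ∈ U) : g * x * g⁻¹ * x⁻¹ ∈ W := by
  rw [← h.eq_iff (h.cjU g hx) hx, h.act g x hx, hg, NatAbs.one_mv]

theorem ρW {w : G} (hw : w ∈ W) : ρ w = 1 := by
  apply h.ρ_eq_one
  intro x hx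
  have := W.mul_mem hw (h.Wn.conj_mem _ (W.inv_mem hw) x)
  have e : w * (x * w⁻¹ * x⁻¹) = w * x * w⁻¹ * x⁻¹ := by group
  rwa [e] at this

/-- normal subgroups of `G` inside `U` -/
theorem irr {Y : Subgroup G} (hY : Y.Normal) (hYU : Y ≤ U) (hYW : ¬ Y ≤ W) (v : Fin 2 → F) :
    ∃ y ∈ Y, ψ y = v := by
  obtain ⟨y, hy, hyW⟩ := Set.not_subset.mp hYW
  have hy0 : ψ y ≠ 0 := fun h0 => hyW ((h.ker y (hYU hy)).mp h0)
  by_cases hv : v = 0
  · exact ⟨1, Y.one_mem, by rw [hv, h.one]⟩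
  · obtain ⟨M, hM⟩ := exists_trans hy0 hv
    obtain ⟨g, rfl⟩ := h.rsur M
    exact ⟨g * y * g⁻¹, hY.conj_mem y hy g, by rw [h.act g y (hYU hy), hM]⟩

theorem noncentral : ¬ ⁅U, (⊤ : Subgroup G)⁆ ≤ W := by
  intro hle
  obtain ⟨g, hg⟩ := h.rsur (u 1)
  obtain ⟨x, hx, hxv⟩ := h.sur ![0, 1]
  have h1 : g * x * g⁻¹ * x⁻¹ ∈ W := by
    have h2 : ⁅g, x⁆ ∈ ⁅(⊤ : Subgroup G), U⁆ := Subgroup.commutator_mem_commutator (mem_top g) hx
    rw [Subgroup.commutator_comm] at h2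
    exact hle h2
  rw [← h.eq_iff (h.cjU g hx) hx, h.act g x hx, hg, hxv] at h1
  have h2 := congrFun h1 0
  simp [u, Matrix.mulVec, dotProduct, Fin.sum_univ_two] at h2

theorem chief : Cfsg.IsChiefFactor U W := by
  refine ⟨lt_of_le_of_ne h.WU ?_, h.Un, h.Wn, ?_⟩
  · intro hUW
    apply h.noncentral
    rw [Subgroup.commutator_le]
    intro x hx y _
    rw [hUW, commutatorElement_def]
    have := U.mul_mem hx (h.cjU y (U.inv_mem hx))
    have e : x * (y * x⁻¹ * y⁻¹) = x * y * x⁻¹ * y⁻¹ := by group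
    rwa [e] at this
  · intro N hN hWN hNU
    by_cases hNW : N ≤ W
    · exact Or.inl (le_antisymm hNW hWN)
    · right
      apply le_antisymm hNU
      intro x hx
      obtain ⟨y, hy, hyx⟩ := h.irr hN hNU hNW (ψ x)
      have h1 := (h.eq_iff hx (hNU hy)).mp hyx.symm
      have := N.mul_mem (hWN h1) hy
      rwa [inv_mul_cancel_right] at this

set_option maxHeartbeats 1000000 in
/-- the statement's notion of a natural module -/
theorem isNatural [hW : W.Normal] :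
    Cfsg.IsNaturalSL2Module F (U.map (QuotientGroup.mk' W)) (⊤ : Subgroup (G ⧸ W)) := by
  classical
  set π := QuotientGroup.mk' W with hπ
  have hπs : Function.Surjective π := QuotientGroup.mk'_surjective W
  have hπk : ∀ z, π z = 1 ↔ z ∈ W := fun z => QuotientGroup.eq_one_iff z
  have hVn : (U.map π).Normal := Subgroup.Normal.map h.Un π hπs
  refine ⟨?_, ?_⟩
  · rw [normalizer_eq_top_iff.mpr hVn]
  have hk : W ≤ ρ.ker := fun w hw => (MonoidHom.mem_ker).mpr (h.ρW hw)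
  let ρ₀ : G ⧸ W →* SpecialLinearGroup (Fin 2) F := QuotientGroup.lift W ρ hk
  have hρ₀ : ∀ g, ρ₀ (π g) = ρ g := fun g => rfl
  let ρ' : (⊤ : Subgroup (G ⧸ W)) →* SpecialLinearGroup (Fin 2) F := ρ₀.comp (Subgroup.subtype _)
  have hch : ∀ v : U.map π, ∃ x ∈ U, π x = v := fun v => v.2
  choose f hfU hf using hch
  let Ψ : Additive (U.map π) →+ (Fin 2 → F) :=
    { toFun := fun v => ψ (f v.toMul)
      map_zero' := by
        change ψ (f 1) = 0
        rw [h.ker _ (hfU 1), ← hπk, hf]; rfl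
      map_add' := fun a b => by
        change ψ (f (a.toMul * b.toMul)) = ψ (f a.toMul) + ψ (f b.toMul)
        rw [← h.add _ (hfU _) _ (hfU _), h.eq_iff (hfU _) (U.mul_mem (hfU _) (hfU _)), ← hπk,
          map_mul, map_inv, map_mul, hf, hf, hf]
        rw [mul_inv_eq_one]; rfl }
  have hΨ : ∀ x (hx : x ∈ U), Ψ (Additive.ofMul ⟨π x, Subgroup.mem_map_of_mem π hx⟩) = ψ x := by
    intro x hx
    change ψ (f ⟨π x, Subgroup.mem_map_of_mem π hx⟩) = ψ x
    rw [h.eq_iff (hfU _) hx, ← hπk, map_mul, map_inv, hf, mul_inv_cancel]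
  have hbij : Function.Bijective Ψ := by
    constructor
    · rw [injective_iff_map_eq_zero]
      intro n hn
      have h1 : ψ (f n.toMul) = 0 := hn
      rw [h.ker _ (hfU _), ← hπk, hf] at h1
      have h2 : (n.toMul : U.map π) = 1 := Subtype.ext h1
      exact congrArg Additive.ofMul h2
    · intro v
      obtain ⟨x, hx, rfl⟩ := h.sur v
      exact ⟨_, hΨ x hx⟩
  refine ⟨ρ', AddEquiv.ofBijective Ψ hbij, ?_, ?_, ?_⟩
  · intro M
    obtain ⟨g, hg⟩ := h.rsur M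
    exact ⟨⟨π g, mem_top _⟩, hg⟩
  · ext ⟨z, hz⟩
    obtain ⟨g, rfl⟩ := hπs z
    rw [MonoidHom.mem_ker, Subgroup.mem_subgroupOf]
    change ρ g = 1 ↔ π g ∈ centralizer ((U.map π : Subgroup (G ⧸ W)) : Set (G ⧸ W))
    rw [mem_centralizer_iff]
    constructor
    · rintro hg _ ⟨x, hx, rfl⟩
      have h1 := h.of_ρ hg hx
      rw [← hπk, map_mul, map_mul, map_mul, map_inv, map_inv] at h1
      rw [mul_inv_eq_one, mul_inv_eq_iff_eq_mul] at h1
      exact h1.symm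
    · intro hg
      apply h.ρ_eq_one
      intro x hx
      rw [← hπk, map_mul, map_mul, map_mul, map_inv, map_inv, mul_inv_eq_one, mul_inv_eq_iff_eq_mul]
      exact (hg _ (Subgroup.mem_map_of_mem π hx)).symm
  · rintro ⟨z, hz⟩ ⟨v, x, hx, rfl⟩
    obtain ⟨g, rfl⟩ := hπs z
    refine ⟨⟨π (g * x * g⁻¹), Subgroup.mem_map_of_mem π (h.cjU g hx)⟩, ?_, ?_⟩
    · change π (g * x * g⁻¹) = π g * π x * (π g)⁻¹
      rw [map_mul, map_mul, map_inv]
    · have e1 := hΨ (g * x * g⁻¹) (h.cjU g hx)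
      have e2 := hΨ x hx
      change Ψ (Additive.ofMul ⟨π (g * x * g⁻¹), _⟩) = (ρ g).1.mulVec (Ψ (Additive.ofMul ⟨π x, _⟩))
      exact e1.trans ((h.act g x hx).trans (congrArg _ e2.symm))

/-- transfer of a natural section to a chief factor -/
theorem transfer {A C : Subgroup G} (hch : Cfsg.IsChiefFactor A C) (h1 : A ⊓ W ≤ C) (h2 : ¬ A ⊓ U ≤ C) :
    ∃ ψ' : G → (Fin 2 → F), NatSec F A C ρ ψ' := by
  classical
  obtain ⟨hlt, hAn, hCn, hmin⟩ := hch
  have hUn := h.Un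
  have hAU : (A ⊓ U).Normal := inferInstance
  have hCU : (C ⊓ U).Normal := inferInstance
  have hsup : (A ⊓ U) ⊔ C = A := by
    rcases hmin ((A ⊓ U) ⊔ C) inferInstance le_sup_right (sup_le inf_le_left hlt.le) with h3 | h3
    · exact absurd (h3 ▸ le_sup_left : A ⊓ U ≤ C) h2
    · exact h3
  have hCW : C ⊓ U ≤ W := by
    by_contra hne
    apply h2
    intro x hx
    obtain ⟨y, hy, hyx⟩ := h.irr hCU inf_le_right hne (ψ x)
    have h3 := (h.eq_iff hx.2 hy.2).mp hyx.symm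
    have h4 : x * y⁻¹ ∈ A := A.mul_mem hx.1 (A.inv_mem (hlt.le hy.1))
    have := C.mul_mem (h1 ⟨h4, h3⟩) hy.1
    rwa [inv_mul_cancel_right] at this
  have hAW : ¬ A ⊓ U ≤ W := fun h3 => h2 (fun x hx => h1 ⟨hx.1, h3 hx⟩)
  have hdec : ∀ x ∈ A, ∃ a ∈ A ⊓ U, ∃ c ∈ C, x = a * c := by
    intro x hx
    rw [← hsup] at hx
    have h3 : x ∈ ((A ⊓ U ⊔ C : Subgroup G) : Set G) := hx
    rw [Subgroup.mul_normal] at h3
    obtain ⟨a, ha, c, hc, rfl⟩ := h3
    exact ⟨a, ha, c, hc, rfl⟩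
  let ψ' : G → (Fin 2 → F) := fun x => if hx : x ∈ A then ψ (Classical.choose (hdec x hx)) else 0
  have hψ' : ∀ a ∈ A ⊓ U, ∀ c ∈ C, ψ' (a * c) = ψ a := by
    intro a ha c hc
    have hx : a * c ∈ A := A.mul_mem ha.1 (hlt.le hc)
    simp only [ψ']
    rw [dif_pos hx]
    obtain ⟨hb, c', hc', he⟩ := Classical.choose_spec (hdec _ hx)
    set b := Classical.choose (hdec _ hx)
    rw [h.eq_iff hb.2 ha.2]
    have e1 : b⁻¹ * a = c' * c⁻¹ := by
      rw [inv_mul_eq_iff_eq_mul, ← mul_assoc, ← he]; group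
    have h3 : b⁻¹ * a ∈ W := by
      apply hCW
      refine ⟨?_, U.mul_mem (U.inv_mem hb.2) ha.2⟩
      rw [e1]
      exact C.mul_mem hc' (C.inv_mem hc)
    have h4 := h.Wn.conj_mem _ (W.inv_mem h3) a
    have e2 : a * (b⁻¹ * a)⁻¹ * a⁻¹ = b * a⁻¹ := by
      rw [_root_.mul_inv_rev, inv_inv]; group
    rwa [e2] at h4
  refine ⟨ψ', hAn, hCn, hlt.le, ?_, ?_, ?_, ?_, h.rsur⟩
  · intro x hx y hy
    obtain ⟨a, ha, c, hc, rfl⟩ := hdec x hx
    obtain ⟨b, hb, d, hd, rfl⟩ := hdec y hy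
    have e : a * c * (b * d) = (a * b) * ((b⁻¹ * c * b) * d) := by group
    have hc' : b⁻¹ * c * b ∈ C := by
      have := hCn.conj_mem c hc b⁻¹
      rwa [inv_inv] at this
    rw [e, hψ' _ (Subgroup.mul_mem _ ha hb) _ (C.mul_mem hc' hd), hψ' a ha c hc, hψ' b hb d hd,
      h.add a ha.2 b hb.2]
  · intro v
    obtain ⟨y, hy, hyv⟩ := h.irr hAU inf_le_right hAW v
    refine ⟨y, hy.1, ?_⟩
    have := hψ' y hy 1 C.one_mem
    rw [mul_one] at this
    rw [this, hyv]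
  · intro x hx
    obtain ⟨a, ha, c, hc, rfl⟩ := hdec x hx
    rw [hψ' a ha c hc, h.ker a ha.2]
    constructor
    · intro haW
      exact C.mul_mem (h1 ⟨ha.1, haW⟩) hc
    · intro hac
      apply hCW
      refine ⟨?_, ha.2⟩
      have := C.mul_mem hac (C.inv_mem hc)
      rwa [mul_inv_cancel_right] at this
  · intro g x hx
    obtain ⟨a, ha, c, hc, rfl⟩ := hdec x hx
    have e : g * (a * c) * g⁻¹ = (g * a * g⁻¹) * (g * c * g⁻¹) := by group
    rw [e, hψ' _ (hAU.conj_mem a ha g) _ (hCn.conj_mem c hc g), hψ' a ha c hc, h.act g a ha.2]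

end NatSec

end Cfsg.Agent.H213.Rk
end

-- part: H213/Setup
section
/-!
# Rank one pushing up: the setup
-/

set_option autoImplicit false
set_option linter.unusedSectionVars false

namespace Cfsg.Agent.H213.Rk

open Subgroup Cfsg.Agent.H260.Push
open scoped commutatorElement

variable {G : Type*} [Group G]

section

variable [Finite G] {p q : ℕ} [Fact p.Prime] {S T M : Subgroup G}

/-- `(Z(T), Z(S), Z(G))` is a natural section. -/
theorem sec_of_nat (c : Core p q S T M) (n : Core.Nat' p q S T M) : Sec q S T M (cen T) (cen S) (center G) where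
  Un := c.normX
  Wn := inferInstance
  WU₁ := c.center_le
  U₁U := c.Zs_le
  ab := by
    intro x hx y hy
    rw [c.cenT_comm hx hy]
    have : y * x * x⁻¹ * y⁻¹ = 1 := by group
    rw [this]; exact one_mem _
  triv := by
    intro t ht x hx
    rw [cen_comm hx ht]
    have : x * t * t⁻¹ * x⁻¹ = 1 := by group
    rw [this]; exact one_mem _
  q1 := by
    intro s hs x hx
    rw [cen_comm hx hs]
    have : x * s * s⁻¹ * x⁻¹ = 1 := by group
    rw [this]; exact one_mem _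
  q2 := fun s hs x hx => n.quad x hx s hs
  fix := fun s hs hsT x hx h => n.cmc s hs hsT x hx h
  sup := n.sup
  inf := by
    intro g hg x hx hx'
    apply c.central_of_two (a := 1) (b := g) (by simpa using hg) _ hx'
    rwa [cj_one]
  card := n.cardZ

theorem aut_cen {S : Subgroup G} (α : S ≃* S) {z : G} (hz : z ∈ cen S) :
    ((α ⟨z, cen_le _ hz⟩ : S) : G) ∈ cen S := by
  refine ⟨(α ⟨z, cen_le _ hz⟩).2, mem_centralizer_iff.mpr ?_⟩
  intro t ht
  obtain ⟨t', ht'⟩ := α.surjective ⟨t, ht⟩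
  have h1 : t' * ⟨z, cen_le _ hz⟩ = ⟨z, cen_le _ hz⟩ * t' := by
    apply Subtype.ext
    exact cen_comm hz t'.2
  have h2 := congrArg α h1
  rw [map_mul, map_mul, ht'] at h2
  exact congrArg Subtype.val h2

/--  `Z(T)` has exponent `p` if `℧¹(Z(S))` is not a nontrivial
normal subgroup. -/
theorem expo_X (c : Core p q S T M) (n : Core.Nat' p q S T M)
    (hchar : ∀ H : Subgroup G, H ≤ S → (∀ α : S ≃* S, ∀ s : S, (s : G) ∈ H → ((α s : S) : G) ∈ H) →
      H.Normal → H = ⊥) : ∀ x ∈ cen T, x ^ p = 1 := by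
  -- `Ω₁(X)`
  have hXn := c.normX
  have hcomm : ∀ x ∈ cen T, ∀ y ∈ cen T, x * y = y * x := fun x hx y hy => c.cenT_comm hx hy
  let Om : Subgroup G :=
    { carrier := {x | x ∈ cen T ∧ x ^ p = 1}
      one_mem' := ⟨one_mem _, one_pow _⟩
      mul_mem' := by
        rintro a b ⟨ha, ha'⟩ ⟨hb, hb'⟩
        refine ⟨mul_mem ha hb, ?_⟩
        have : Commute a b := hcomm a ha b hb
        rw [this.mul_pow, ha', hb', one_mul]
      inv_mem' := by
        rintro a ⟨ha, ha'⟩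
        refine ⟨inv_mem ha, ?_⟩
        rw [inv_pow, ha', inv_one] }
  have hOmn : Om.Normal := by
    constructor
    rintro x ⟨hx, hx'⟩ g
    refine ⟨hXn.conj_mem x hx g, ?_⟩
    rw [conj_pow, hx']
    group
  -- the p-th powers of elements of `Z(S)`
  let Mh : Subgroup G :=
    { carrier := {x | ∃ z ∈ cen S, x = z ^ p}
      one_mem' := ⟨1, one_mem _, (one_pow _).symm⟩
      mul_mem' := by
        rintro _ _ ⟨a, ha, rfl⟩ ⟨b, hb, rfl⟩
        refine ⟨a * b, mul_mem ha hb, ?_⟩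
        have : Commute a b := hcomm a (c.Zs_le ha) b (c.Zs_le hb)
        rw [this.mul_pow]
      inv_mem' := by
        rintro _ ⟨a, ha, rfl⟩
        exact ⟨a⁻¹, inv_mem ha, (inv_pow _ _).symm⟩ }
  -- `Om` is not central
  have hOmc : ¬ Om ≤ center G := by
    intro hle
    -- `[y, s] ∈ Om`
    obtain ⟨g, hg⟩ := c.exists_notMem_M
    have hST : ∃ s ∈ S, s ∉ T := by
      by_contra hcon
      push Not at hcon
      exact c.ne (le_antisymm hcon c.le)
    obtain ⟨s, hs, hsT⟩ := hST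
    have h1 : cen T ≤ cen S := by
      intro y hy
      apply n.cmc s hs hsT y hy
      apply hle
      exact ⟨c.cm_mem hy, n.comm_p s hs y hy⟩
    have h2 := n.cardX
    have h3 := n.cardZ
    have h4 : cen T = cen S := le_antisymm h1 c.Zs_le
    rw [h4] at h2
    have hpos : 0 < Nat.card (cen S) := Nat.card_pos
    have hq1 : q = 1 := by
      have : 1 * Nat.card (cen S) = q * Nat.card (cen S) := by rw [one_mul]; exact h2
      exact (Nat.eq_of_mul_eq_mul_right hpos this).symm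
    have h5 := c.card
    rw [hq1, one_mul] at h5
    exact hsT (by
      have := Cfsg.Agent.H260.Push.eq_of_le_of_card_le c.le h5.le
      rw [this]; exact hs)
  have hsup := n.irr Om hOmn (fun x hx => hx.1) hOmc
  -- every p-th power of an element of `X` is a p-th power of a central element
  have hpow : ∀ x ∈ cen T, ∃ z ∈ center G, x ^ p = z ^ p := by
    intro x hx
    rw [← hsup] at hx
    have h1 : x ∈ ((Om ⊔ center G : Subgroup G) : Set G) := hx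
    rw [Subgroup.mul_normal] at h1
    obtain ⟨a, ha, z, hz, rfl⟩ := h1
    refine ⟨z, hz, ?_⟩
    have : Commute a z := (Subgroup.mem_center_iff.mp hz a)
    change (a * z) ^ p = z ^ p
    rw [this.mul_pow, ha.2, one_mul]
  have hMhc : Mh ≤ center G := by
    rintro _ ⟨z, hz, rfl⟩
    obtain ⟨z', hz', h1⟩ := hpow z (c.Zs_le hz)
    rw [h1]
    exact pow_mem hz' _
  have hMh : Mh = ⊥ := by
    apply hchar
    · rintro _ ⟨z, hz, rfl⟩
      exact S.pow_mem (cen_le _ hz) _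
    · rintro α s ⟨z, hz, hsz⟩
      refine ⟨(α ⟨z, cen_le _ hz⟩ : S), aut_cen α hz, ?_⟩
      · have h1 : s = (⟨z, cen_le _ hz⟩ : S) ^ p := Subtype.ext hsz
        rw [h1, map_pow]
        rfl
    · exact c.normal_of_le_center hMhc
  intro x hx
  obtain ⟨z, hz, h1⟩ := hpow x hx
  have h2 : z ^ p ∈ Mh := ⟨z, c.center_le hz, rfl⟩
  rw [hMh, Subgroup.mem_bot] at h2
  rw [h1, h2]

end

end Cfsg.Agent.H213.Rk
end

-- part: H213/Fin
section
/-!
# Rank one pushing up: from the module structure to the conclusions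
-/

set_option autoImplicit false
set_option linter.unusedSectionVars false

namespace Cfsg.Agent.H213.Rk

open Subgroup Cfsg.Agent.H260.Push
open scoped commutatorElement

variable {G : Type*} [Group G]

theorem commutator_mem_iff_aux {x y : G} {W : Subgroup G} : x * y * x⁻¹ * y⁻¹ ∈ W ↔ y * x * y⁻¹ * x⁻¹ ∈ W := by
  have e : (x * y * x⁻¹ * y⁻¹)⁻¹ = y * x * y⁻¹ * x⁻¹ := by group
  rw [← e, W.inv_mem_iff]

/-- the elements acting trivially on `T / W` -/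
def actTriv (T W : Subgroup G) (hT : T.Normal) (hW : W.Normal) : Subgroup G where
  carrier := {g | ∀ t ∈ T, g * t * g⁻¹ * t⁻¹ ∈ W}
  one_mem' := by
    intro t _
    have : (1 : G) * t * 1⁻¹ * t⁻¹ = 1 := by group
    rw [this]; exact W.one_mem
  mul_mem' := by
    intro a b ha hb t ht
    have h1 := hW.conj_mem _ (hb t ht) a
    have h2 := ha t ht
    have e : a * b * t * (a * b)⁻¹ * t⁻¹ = a * (b * t * b⁻¹ * t⁻¹) * a⁻¹ * (a * t * a⁻¹ * t⁻¹) := by group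
    rw [e]
    exact W.mul_mem h1 h2
  inv_mem' := by
    intro a ha t ht
    have h1 := ha (a⁻¹ * t * a) (by
      have := hT.conj_mem t ht a⁻¹
      rwa [inv_inv] at this)
    have e : (a * (a⁻¹ * t * a) * a⁻¹ * (a⁻¹ * t * a)⁻¹)⁻¹ = a⁻¹ * t * a⁻¹⁻¹ * t⁻¹ := by group
    rw [← e]
    exact W.inv_mem h1

theorem actTriv_normal (T W : Subgroup G) (hT : T.Normal) (hW : W.Normal) : (actTriv T W hT hW).Normal := by
  constructor
  intro a ha g t ht
  have h1 := ha (g⁻¹ * t * g) (by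
      have := hT.conj_mem t ht g⁻¹
      rwa [inv_inv] at this)
  have h2 := hW.conj_mem _ h1 g
  have e : g * (a * (g⁻¹ * t * g) * a⁻¹ * (g⁻¹ * t * g)⁻¹) * g⁻¹ =
    g * a * g⁻¹ * t * (g * a * g⁻¹)⁻¹ * t⁻¹ := by group
  rwa [e] at h2

theorem mem_actTriv {T W : Subgroup G} {hT : T.Normal} {hW : W.Normal} {g : G} :
    g ∈ actTriv T W hT hW ↔ ∀ t ∈ T, g * t * g⁻¹ * t⁻¹ ∈ W := Iff.rfl

/-- a `p'`-element which centralises `K` and `H` modulo `K` centralises `H` -/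
theorem stab [Finite G] {p : ℕ} [Fact p.Prime] {x : G} (hx : (orderOf x).Coprime p) {H K : Subgroup G}
    (hKp : IsPGroup p K) (hK : ∀ k ∈ K, x * k = k * x) (hH : ∀ h ∈ H, x * h * x⁻¹ * h⁻¹ ∈ K) :
    ∀ h ∈ H, x * h = h * x := by
  intro h hh
  set z := x * h * x⁻¹ * h⁻¹ with hz
  have hzK := hH h hh
  have hxz : Commute x z := hK z hzK
  have hpow : ∀ n : ℕ, x ^ n * h * (x ^ n)⁻¹ = z ^ n * h := by
    intro n
    induction n with
    | zero => simp
    | succ n ih =>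
      have e1 : x ^ (n + 1) * h * (x ^ (n + 1))⁻¹ = x * (x ^ n * h * (x ^ n)⁻¹) * x⁻¹ := by
        rw [pow_succ']; group
      have e2 : x * (z ^ n * h) * x⁻¹ = z ^ n * (x * h * x⁻¹) := by
        have := (hxz.pow_right n).eq
        calc x * (z ^ n * h) * x⁻¹ = x * z ^ n * h * x⁻¹ := by group
          _ = z ^ n * x * h * x⁻¹ := by rw [this]
          _ = _ := by group
      have e3 : x * h * x⁻¹ = z * h := by rw [hz]; group
      rw [e1, ih, e2, e3, pow_succ]; group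
  have h1 := hpow (orderOf x)
  rw [pow_orderOf_eq_one, one_mul, inv_one, mul_one] at h1
  have h2 : z ^ orderOf x = 1 := (mul_eq_right.mp h1.symm)
  obtain ⟨k, hk⟩ := (IsPGroup.iff_orderOf.mp hKp) ⟨z, hzK⟩
  rw [Subgroup.orderOf_mk] at hk
  have h3 : orderOf z ∣ orderOf x := orderOf_dvd_of_pow_eq_one h2
  have h4 : orderOf z = 1 := by
    apply Nat.Coprime.eq_one_of_dvd _ h3
    rw [hk]
    exact Nat.Coprime.pow_left _ hx.symm
  rw [orderOf_eq_one_iff] at h4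
  have h5 : x * h * x⁻¹ * h⁻¹ = 1 := h4
  rw [mul_inv_eq_one, mul_inv_eq_iff_eq_mul] at h5
  exact h5

section

variable [Finite G] {p q : ℕ} [hp : Fact p.Prime] {S T M : Subgroup G}

theorem pgT (c : Core p q S T M) : IsPGroup p T := c.pgS.to_le c.le

/-- the normal closure of `Y` together with `T` is everything if `S = Y T` -/
theorem closure_sup (c : Core p q S T M) {Y : Subgroup G} (hY : S ≤ Y ⊔ T) :
    normalClosure (Y : Set G) ⊔ T = ⊤ := by
  have hTn := c.normT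
  obtain ⟨g, hg⟩ := c.exists_notMem_M
  rw [eq_top_iff, ← c.gen g hg]
  have h1 : S ≤ normalClosure (Y : Set G) ⊔ T := hY.trans (sup_le_sup_right le_normalClosure T)
  apply sup_le h1
  have h2 := cj_mono (g := g) h1
  rwa [cj_normal g (normalClosure (Y : Set G) ⊔ T)] at h2

theorem triv_R (c : Core p q S T M) {Y W : Subgroup G} (hW : W.Normal)
    (h : ∀ y ∈ Y, ∀ t ∈ T, y * t * y⁻¹ * t⁻¹ ∈ W) :
    ∀ r ∈ normalClosure (Y : Set G), ∀ t ∈ T, r * t * r⁻¹ * t⁻¹ ∈ W := by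
  have hTn := c.normT
  have hn := actTriv_normal T W hTn hW
  have : normalClosure (Y : Set G) ≤ actTriv T W hTn hW := normalClosure_le_normal h
  exact this

/-- `p'`-elements lie in `R` if `R T = G` -/
theorem pprime_mem (c : Core p q S T M) {R : Subgroup G} (hR : R.Normal) (h : R ⊔ T = ⊤) {x : G}
    (hx : (orderOf x).Coprime p) : x ∈ R := by
  have hTn := c.normT
  set π := QuotientGroup.mk' R
  have h1 : (T.map π) = ⊤ := by
    have h2 := congrArg (fun H => H.map π) h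
    simp only [Subgroup.map_sup] at h2
    rw [Subgroup.map_top_of_surjective _ (QuotientGroup.mk'_surjective R)] at h2
    have h3 : R.map π = ⊥ := by
      rw [Subgroup.map_eq_bot_iff, QuotientGroup.ker_mk']
    rwa [h3, bot_sup_eq] at h2
  have h2 : IsPGroup p (T.map π) := (pgT c).map π
  have h3 : π x ∈ T.map π := by rw [h1]; trivial
  obtain ⟨k, hk⟩ := (IsPGroup.iff_orderOf.mp h2) ⟨π x, h3⟩
  rw [Subgroup.orderOf_mk] at hk
  have h4 : orderOf (π x) ∣ orderOf x := orderOf_map_dvd π x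
  have h5 : orderOf (π x) = 1 := by
    apply Nat.Coprime.eq_one_of_dvd _ h4
    rw [hk]
    exact Nat.Coprime.pow_left _ hx.symm
  rw [orderOf_eq_one_iff] at h5
  exact (QuotientGroup.eq_one_iff x).mp h5

/-- a normal subgroup all of whose `p'`-elements centralise `T` lies in `T` -/
theorem le_T (c : Core p q S T M) {N : Subgroup G} (hN : N.Normal)
    (h : ∀ x ∈ N, (orderOf x).Coprime p → ∀ t ∈ T, x * t = t * x) : N ≤ T := by
  rw [c.hT]
  apply Cfsg.Agent.Lib.Cores.le_pCore hN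
  rw [IsPGroup.iff_card]
  -- no other prime divides the order
  have h1 : ∀ r : ℕ, r.Prime → r ∣ Nat.card N → r = p := by
    intro r hr hdvd
    by_contra hne
    have : Fact r.Prime := ⟨hr⟩
    obtain ⟨x, hx⟩ := exists_prime_orderOf_dvd_card' r hdvd
    have hx' : orderOf (x : G) = r := by rw [← hx]; exact Subgroup.orderOf_coe x
    have hcop : (orderOf (x : G)).Coprime p := by
      rw [hx']
      exact (Nat.coprime_primes hr hp.out).mpr hne
    have h2 := h x x.2 hcop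
    have h3 : (x : G) ∈ T := by
      apply c.cent
      rw [mem_centralizer_iff]
      intro t ht
      exact (h2 t ht).symm
    obtain ⟨k, hk⟩ := (IsPGroup.iff_orderOf.mp (pgT c)) ⟨x, h3⟩
    rw [Subgroup.orderOf_mk, hx'] at hk
    have h4 : r = p := (Nat.prime_dvd_prime_iff_eq hr hp.out).mp (hr.dvd_of_dvd_pow (by rw [← hk]))
    exact hne h4
  exact ⟨_, Nat.eq_prime_pow_of_unique_prime_dvd Nat.card_pos.ne' (fun {d} hd hdv => h1 d hd hdv)⟩

theorem lcs_bot (c : Core p q S T M) : ∃ k, T.lowerCentralSeries k = ⊥ := by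
  rw [← isNilpotent_iff_lowerCentralSeries]
  exact (pgT c).isNilpotent

/-- `[A, G, …, G] ≤ W` if `A ≤ T`, `G = R T`, `[A, R] ≤ W`. -/
theorem iter_aux (c : Core p q S T M) {R W A : Subgroup G} (hA : A.Normal) (hAT : A ≤ T)
    (h : R ⊔ T = ⊤) (hW : W.Normal)
    (hRT : ∀ r ∈ R, ∀ t ∈ A, r * t * r⁻¹ * t⁻¹ ∈ W) (k : ℕ) :
    Cfsg.iterCommutator A ⊤ k ≤ (A ⊓ T.lowerCentralSeries k) ⊔ W := by
  have hTn := c.normT
  induction k with
  | zero =>
    change A ≤ _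
    exact le_sup_of_le_left (le_inf le_rfl hAT)
  | succ k ih =>
    change ⁅Cfsg.iterCommutator A ⊤ k, ⊤⁆ ≤ _
    have hn1 : (T.lowerCentralSeries (k + 1)).Normal := inferInstance
    have hn0 : (T.lowerCentralSeries k).Normal := inferInstance
    have hA0 : (A ⊓ T.lowerCentralSeries k).Normal := inferInstance
    have hA1 : (A ⊓ T.lowerCentralSeries (k + 1)).Normal := inferInstance
    set N := (A ⊓ T.lowerCentralSeries (k + 1)) ⊔ W with hN
    have hNn : N.Normal := inferInstance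
    have hWN : W ≤ N := le_sup_right
    have key : (⊤ : Subgroup G) ≤ actTriv (A ⊓ T.lowerCentralSeries k) N hA0 hNn := by
      rw [← h]
      apply sup_le
      · intro r hr t ht
        exact hWN (hRT r hr t ht.1)
      · intro r hr t ht
        apply (le_sup_left : A ⊓ T.lowerCentralSeries (k + 1) ≤ N)
        refine ⟨?_, ?_⟩
        · exact A.mul_mem (hA.conj_mem t ht.1 r) (A.inv_mem ht.1)
        · have h2 : ⁅t, r⁆ ∈ ⁅T.lowerCentralSeries k, T⁆ := commutator_mem_commutator ht.2 hr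
          rw [← commutatorElement_inv, inv_mem_iff] at h2
          exact h2
    refine (commutator_mono ih le_rfl).trans ?_
    rw [commutator_le]
    intro x hx y _
    have h1 : x ∈ ((A ⊓ T.lowerCentralSeries k ⊔ W : Subgroup G) : Set G) := hx
    rw [Subgroup.mul_normal] at h1
    obtain ⟨a, ha, w, hw, rfl⟩ := h1
    have h2 := key (mem_top y) a ha
    have h3 : y * w * y⁻¹ * w⁻¹ ∈ N := N.mul_mem (hNn.conj_mem _ (hWN hw) y) (N.inv_mem (hWN hw))
    have h4 := N.mul_mem h2 (hNn.conj_mem _ h3 a)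
    have e : y * a * y⁻¹ * a⁻¹ * (a * (y * w * y⁻¹ * w⁻¹) * a⁻¹) = ⁅a * w, y⁆⁻¹ := by
      rw [commutatorElement_def]; group
    change y * a * y⁻¹ * a⁻¹ * (a * (y * w * y⁻¹ * w⁻¹) * a⁻¹) ∈ N at h4
    rw [e, N.inv_mem_iff] at h4
    exact h4

theorem iter_le (c : Core p q S T M) {R W A : Subgroup G} (hA : A.Normal) (hAT : A ≤ T)
    (h : R ⊔ T = ⊤) (hW : W.Normal)
    (hRT : ∀ r ∈ R, ∀ t ∈ A, r * t * r⁻¹ * t⁻¹ ∈ W) :
    ∃ k, Cfsg.iterCommutator A ⊤ k ≤ W := by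
  obtain ⟨k, hk⟩ := lcs_bot c
  refine ⟨k, (iter_aux c hA hAT h hW hRT k).trans ?_⟩
  rw [hk, inf_bot_eq, bot_sup_eq]

/-- a chief factor on which `R` acts trivially is central -/
theorem chief_central (c : Core p q S T M) {R A C : Subgroup G} (h : R ⊔ T = ⊤)
    (hch : Cfsg.IsChiefFactor A C) (hAT : A ≤ T) (hR : ∀ r ∈ R, ∀ t ∈ A, r * t * r⁻¹ * t⁻¹ ∈ C) :
    ⁅A, (⊤ : Subgroup G)⁆ ≤ C := by
  obtain ⟨hlt, hAn, hCn, hmin⟩ := hch
  have hle : ⁅A, (⊤ : Subgroup G)⁆ ≤ A := commutator_le_left A ⊤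
  rcases hmin (⁅A, (⊤ : Subgroup G)⁆ ⊔ C) inferInstance le_sup_right (sup_le hle hlt.le) with h1 | h1
  · rw [← h1]; exact le_sup_left
  · exfalso
    obtain ⟨k, hk⟩ := iter_le c hAn hAT h hCn hR
    -- `A ≤ iterCommutator A ⊤ j ⊔ C`
    have h2 : ∀ j, A ≤ Cfsg.iterCommutator A ⊤ j ⊔ C := by
      intro j
      induction j with
      | zero => exact le_sup_left
      | succ j ih =>
        have hjn : (Cfsg.iterCommutator A ⊤ j).Normal := by
          clear ih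
          induction j with
          | zero => exact hAn
          | succ j ih => exact (Subgroup.commutator_normal _ _)
        nth_rewrite 1 [← h1]
        apply sup_le _ le_sup_right
        rw [commutator_le]
        intro x hx y _
        have h3 : x ∈ ((Cfsg.iterCommutator A ⊤ j ⊔ C : Subgroup G) : Set G) := ih hx
        rw [Subgroup.mul_normal] at h3
        obtain ⟨a, ha, w, hw, rfl⟩ := h3
        have h4 : ⁅a, y⁆ ∈ ⁅Cfsg.iterCommutator A ⊤ j, ⊤⁆ := commutator_mem_commutator ha (mem_top y)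
        have h5 : ⁅w, y⁆ ∈ C := by
          rw [commutatorElement_def]
          have := C.mul_mem hw (hCn.conj_mem _ (C.inv_mem hw) y)
          have e : w * (y * w⁻¹ * y⁻¹) = w * y * w⁻¹ * y⁻¹ := by group
          rwa [e] at this
        have e : ⁅a * w, y⁆ = a * ⁅w, y⁆ * a⁻¹ * ⁅a, y⁆ := by
          simp only [commutatorElement_def]; group
        change ⁅a * w, y⁆ ∈ _
        rw [e]
        exact mul_mem (mem_sup_right (hCn.conj_mem _ h5 a)) (mem_sup_left h4)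
    have h3 := (h2 k).trans (sup_le hk le_rfl)
    exact absurd (le_antisymm h3 hlt.le) hlt.ne'

end

end Cfsg.Agent.H213.Rk
end

-- part: H213/Amb
section
/-!
# A finite group realising the automorphisms of a subgroup

`G` acts on itself by left multiplication; every automorphism of a subgroup `S` is induced by a permutation of
`G` normalising the image of `S`.
-/

set_option autoImplicit false

namespace Cfsg.Agent.H213.Amb

variable {G : Type*} [Group G]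

/-- left multiplication -/
def φ (G : Type*) [Group G] : G →* Equiv.Perm G := MulAction.toPermHom G G

theorem φ_apply (g x : G) : φ G g x = g * x := rfl

theorem φ_inj : Function.Injective (φ G) := by
  intro a b h
  have := congrArg (fun σ : Equiv.Perm G => σ 1) h
  simpa [φ_apply] using this

theorem exists_perm (S : Subgroup G) (α : S ≃* S) :
    ∃ σ : Equiv.Perm G, ∀ s : S, σ * φ G s * σ⁻¹ = φ G (α s) := by
  obtain ⟨T, hT, -⟩ := S.exists_isComplement_right 1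
  let e : G ≃ S × T := hT.equiv
  let σ : Equiv.Perm G := e.trans ((Equiv.prodCongr α.toEquiv (Equiv.refl T)).trans e.symm)
  refine ⟨σ, fun s => ?_⟩
  rw [mul_inv_eq_iff_eq_mul]
  ext x
  have h1 : e ((s : G) * x) = (s * (e x).1, (e x).2) := hT.equiv_mul_left s x
  have h2 : ∀ (t : S) (z : S × T), e.symm (t * z.1, z.2) = (t : G) * e.symm z := by
    intro t z
    rw [Equiv.symm_apply_eq]
    have h3 : e ((t : G) * e.symm z) = (t * (e (e.symm z)).1, (e (e.symm z)).2) :=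
      hT.equiv_mul_left t _
    rw [h3, Equiv.apply_symm_apply]
  change σ ((s : G) * x) = (α s : G) * σ x
  change e.symm (α (e ((s : G) * x)).1, (e ((s : G) * x)).2) = (α s : G) * e.symm (α (e x).1, (e x).2)
  rw [h1, ← h2]
  simp

end Cfsg.Agent.H213.Amb
end

-- part: H213/DtG
section
/-!
# Rank one pushing up: the amalgam data
-/

set_option autoImplicit false
set_option linter.unusedSectionVars false

namespace Cfsg.Agent.H213.Rk

open Subgroup Cfsg.Agent.H260.Push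
open scoped commutatorElement

variable {G : Type*} [Group G]

/-- `[Z(T), S]` -/
def comD (S T : Subgroup G) : Subgroup G :=
  closure {x | ∃ v ∈ cen T, ∃ b ∈ S, x = v * b * v⁻¹ * b⁻¹}

section

variable [Finite G] {p q : ℕ} [Fact p.Prime] {S T M : Subgroup G}

theorem comD_le (n : Core.Nat' p q S T M) : comD S T ≤ cen S := by
  rw [comD, closure_le]
  rintro x ⟨v, hv, b, hb, rfl⟩
  have h1 := n.quad v hv b hb
  have h2 := inv_mem h1
  have e : (cm v b)⁻¹ = v * b * v⁻¹ * b⁻¹ := by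
    unfold cm; group
  rw [SetLike.mem_coe, ← e]
  exact h2

theorem M_norm_Z (c : Core p q S T M) (n : Core.Nat' p q S T M) {m : G} (hm : m ∈ M) :
    cj m (cen S) = cen S := (sec_of_nat c n).M_norm c.le c.card c.leM c.neM hm

theorem exists_not_T (c : Core p q S T M) : ∃ s ∈ S, s ∉ T := by
  by_contra hcon
  push Not at hcon
  exact c.ne (le_antisymm hcon c.le)

theorem qne (c : Core p q S T M) : q ≠ 1 := by
  intro hq1
  obtain ⟨s, hs, hsT⟩ := exists_not_T c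
  have h5 := c.card
  rw [hq1, one_mul] at h5
  exact hsT (by
    have := Cfsg.Agent.H260.Push.eq_of_le_of_card_le c.le h5.le
    rw [this]; exact hs)

theorem exists_not_Z (c : Core p q S T M) (n : Core.Nat' p q S T M) : ∃ y ∈ cen T, y ∉ cen S := by
  by_contra hcon
  push Not at hcon
  have h2 := n.cardX
  rw [le_antisymm hcon c.Zs_le] at h2
  apply qne c
  have : 1 * Nat.card (cen S) = q * Nat.card (cen S) := by rw [one_mul]; exact h2
  exact (Nat.eq_of_mul_eq_mul_right Nat.card_pos this).symm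

/-- `[Z(T), S]` is not central -/
theorem comD_not_center (c : Core p q S T M) (n : Core.Nat' p q S T M) : ¬ comD S T ≤ center G := by
  intro hle
  obtain ⟨s, hs, hsT⟩ := exists_not_T c
  obtain ⟨y, hy, hyZ⟩ := exists_not_Z c n
  apply hyZ
  apply n.cmc s hs hsT y hy
  have h1 : y * s * y⁻¹ * s⁻¹ ∈ comD S T := subset_closure ⟨y, hy, s, hs, rfl⟩
  have h2 := inv_mem (hle h1)
  have e : (y * s * y⁻¹ * s⁻¹)⁻¹ = cm y s := by
    unfold cm; group
  rwa [e] at h2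

theorem mv_iff (c : Core p q S T M) (n : Core.Nat' p q S T M) (l : G) :
    (∃ d ∈ comD S T, l * d * l⁻¹ ∉ cen S) ↔ l ∉ M := by
  constructor
  · rintro ⟨d, hd, hdZ⟩ hl
    apply hdZ
    rw [← M_norm_Z c n hl]
    exact conj_mem_cj (comD_le n hd)
  · intro hl
    by_contra hcon
    push Not at hcon
    apply comD_not_center c n
    intro d hd
    have h1 := hcon d hd
    have hl' : l⁻¹ ∉ M := fun h => hl (by simpa using M.inv_mem h)
    apply (sec_of_nat c n).inf l⁻¹ hl' d (comD_le n hd)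
    rw [mem_cj, inv_inv]
    exact h1

end

open Cfsg.Agent.MinSimple.PushUp (W Com)
open Cfsg.Agent.Omega.PushUp (Mv)

set_option maxHeartbeats 1000000 in
/-- **The amalgam data.** -/
theorem dt_of_core [Finite G] {p q : ℕ} [Fact p.Prime] {S T M : Subgroup G}
    (c : Core p q S T M) (n : Core.Nat' p q S T M)
    (hchar : ∀ H : Subgroup G, H ≤ S → (∀ α : S ≃* S, ∀ s : S, (s : G) ∈ H → ((α s : S) : G) ∈ H) →
      H.Normal → H = ⊥)
    {X : Type*} [Group X] (φ : G →* X) (hφ : Function.Injective φ) (A : Subgroup X)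
    (hAn : A = normalizer ((S.map φ : Subgroup X) : Set X))
    (hA : ∀ α : S ≃* S, ∃ a ∈ A, ∀ s : S, a * φ s * a⁻¹ = φ (α s)) :
    Amal.Dt A φ.range (S.map φ) (T.map φ) ((cen T).map φ) ((cen S).map φ) ((comD S T).map φ) := by
  have hTn := c.normT
  have hXn := c.normX
  have hmem : ∀ (H : Subgroup G) (g : G), φ g ∈ H.map φ ↔ g ∈ H := by
    intro H g
    exact Subgroup.mem_map_iff_mem hφ
  -- every element of `A` induces an automorphism of `S`
  have hAB : ∀ a ∈ A, ∀ b ∈ S.map φ, a * b * a⁻¹ ∈ S.map φ := by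
    intro a ha b hb
    rw [hAn, mem_normalizer_iff] at ha
    exact (ha b).mp hb
  have hmv : ∀ l : G, Mv ((comD S T).map φ) ((cen S).map φ) (φ l) ↔ l ∉ M := by
    intro l
    rw [← mv_iff c n l]
    constructor
    · rintro ⟨_, ⟨d, hd, rfl⟩, h1⟩
      refine ⟨d, hd, fun h2 => h1 ?_⟩
      have : Cfsg.Agent.MinSimple.PushUp.cj (φ l) (φ d) = φ (l * d * l⁻¹) := by
        simp [Cfsg.Agent.MinSimple.PushUp.cj]
      rw [this]
      exact Subgroup.mem_map_of_mem φ h2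
    · rintro ⟨d, hd, h1⟩
      refine ⟨φ d, Subgroup.mem_map_of_mem φ hd, fun h2 => h1 ?_⟩
      have : Cfsg.Agent.MinSimple.PushUp.cj (φ l) (φ d) = φ (l * d * l⁻¹) := by
        simp [Cfsg.Agent.MinSimple.PushUp.cj]
      rw [this] at h2
      exact (hmem _ _).mp h2
  have hcardrel : ∀ H K : Subgroup G, H ≤ K → (H.map φ).relIndex (K.map φ) = H.relIndex K := by
    intro H K _
    exact Subgroup.relIndex_map_map_of_injective H K hφ
  refine
    { BA := ?_, BL := ?_, QB := Subgroup.map_mono c.le, VQ := Subgroup.map_mono (cen_le T),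
      ZV := Subgroup.map_mono c.Zs_le, DZ := Subgroup.map_mono (comD_le n), AnB := hAB, AnZ := ?_, LnQ := ?_,
      LnV := ?_, BcZ := ?_, QcV := ?_, VcQ := ?_, comm := ?_, Dgen := ?_, ncomm := ?_, card := ?_, gen := ?_,
      moves := ?_, mvinv := ?_, ti := ?_, core := ?_ }
  · rw [hAn]; exact le_normalizer
  · rintro _ ⟨s, -, rfl⟩
    exact ⟨s, rfl⟩
  · rintro a ha _ ⟨z, hz, rfl⟩
    obtain ⟨z', hz', h1⟩ := hAB a ha (φ z) (Subgroup.mem_map_of_mem φ (cen_le S hz))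
    rw [← h1]
    apply Subgroup.mem_map_of_mem
    refine ⟨hz', mem_centralizer_iff.mpr ?_⟩
    intro t ht
    apply hφ
    have hainv : a⁻¹ ∈ A := A.inv_mem ha
    obtain ⟨t', ht', h2⟩ := hAB _ hainv (φ t) (Subgroup.mem_map_of_mem φ ht)
    rw [inv_inv] at h2
    have h3 : φ t = a * φ t' * a⁻¹ := by rw [h2]; group
    rw [map_mul, map_mul, h1, h3]
    have h4 : t' * z = z * t' := cen_comm hz ht'
    calc a * φ t' * a⁻¹ * (a * φ z * a⁻¹) = a * (φ (t' * z)) * a⁻¹ := by rw [map_mul]; group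
      _ = a * (φ (z * t')) * a⁻¹ := by rw [h4]
      _ = a * φ z * a⁻¹ * (a * φ t' * a⁻¹) := by rw [map_mul]; group
  · rintro _ ⟨l, rfl⟩ _ ⟨t, ht, rfl⟩
    rw [← map_inv, ← map_mul, ← map_mul]
    exact Subgroup.mem_map_of_mem φ (hTn.conj_mem t ht l)
  · rintro _ ⟨l, rfl⟩ _ ⟨t, ht, rfl⟩
    rw [← map_inv, ← map_mul, ← map_mul]
    exact Subgroup.mem_map_of_mem φ (hXn.conj_mem t ht l)
  · rintro _ ⟨s, hs, rfl⟩ _ ⟨z, hz, rfl⟩
    rw [← map_mul, ← map_mul, cen_comm hz hs]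
  · rintro _ ⟨s, hs, rfl⟩ h1
    apply Subgroup.mem_map_of_mem
    have h2 := n.centX
    have h3 : s ∈ S ⊓ centralizer (cen T : Set G) := by
      refine ⟨hs, mem_centralizer_iff.mpr ?_⟩
      intro v hv
      apply hφ
      rw [map_mul, map_mul]
      exact (h1 _ (Subgroup.mem_map_of_mem φ hv)).symm
    rwa [h2] at h3
  · rintro _ ⟨t, ht, rfl⟩ _ ⟨v, hv, rfl⟩
    rw [← map_mul, ← map_mul, cen_comm hv ht]
  · rintro _ ⟨v, hv, rfl⟩ _ ⟨b, hb, rfl⟩
    rw [← map_inv, ← map_inv, ← map_mul, ← map_mul, ← map_mul]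
    exact Subgroup.mem_map_of_mem φ (subset_closure ⟨v, hv, b, hb, rfl⟩)
  · rw [comD, MonoidHom.map_closure, closure_le]
    rintro _ ⟨x, ⟨v, hv, b, hb, rfl⟩, rfl⟩
    apply Subgroup.subset_closure
    refine ⟨φ v, Subgroup.mem_map_of_mem φ hv, φ b, Subgroup.mem_map_of_mem φ hb, ?_⟩
    rw [← map_inv, ← map_inv, ← map_mul, ← map_mul, ← map_mul]
  · rintro _ ⟨v, hv, rfl⟩ hvZ _ ⟨b, hb, rfl⟩ hbQ h1
    rw [hmem] at hvZ hbQ
    apply hvZ
    apply n.fix b hb hbQ v hv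
    apply hφ
    rw [map_mul, map_mul]
    exact h1.symm
  · rw [hcardrel _ _ c.le, hcardrel _ _ c.Zs_le]
    have h1 := card_mul_relIndex c.le
    have h2 := card_mul_relIndex c.Zs_le
    rw [c.card, mul_comm q] at h1
    rw [n.cardX, mul_comm q] at h2
    have h3 := Nat.eq_of_mul_eq_mul_left Nat.card_pos h1
    have h4 := Nat.eq_of_mul_eq_mul_left Nat.card_pos h2
    rw [h3, h4]
  · rintro _ ⟨l, rfl⟩ hl K hBK hK
    rw [hmv] at hl
    rintro _ ⟨x, rfl⟩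
    have h1 : S ⊔ cj l S ≤ K.comap φ := by
      apply sup_le
      · intro s hs
        exact hBK (Subgroup.mem_map_of_mem φ hs)
      · intro s hs
        rw [mem_cj] at hs
        have := hK _ (Subgroup.mem_map_of_mem φ hs)
        rw [← map_inv, ← map_mul, ← map_mul] at this
        have e : l * (l⁻¹ * s * l) * l⁻¹ = s := by group
        rw [e] at this
        exact this
    rw [c.gen l hl] at h1
    exact h1 (mem_top x)
  · obtain ⟨g, hg⟩ := c.exists_notMem_M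
    exact ⟨φ g, ⟨g, rfl⟩, (hmv g).mpr hg⟩
  · rintro _ ⟨l, rfl⟩ hl
    rw [hmv] at hl
    rw [← map_inv, hmv]
    intro h
    exact hl (by simpa using M.inv_mem h)
  · rintro _ ⟨l, rfl⟩ hl _ ⟨b, hb, rfl⟩ hbQ
    rw [hmv] at hl
    rw [hmem] at hbQ
    rw [← map_inv, ← map_mul, ← map_mul, hmv]
    exact c.ti l hl b hb hbQ
  · intro R hRB hRL hRA
    have h1 : R.comap φ = ⊥ := by
      apply hchar
      · intro x hx
        exact (hmem _ _).mp (hRB hx)
      · intro α s hs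
        obtain ⟨a, ha, h2⟩ := hA α
        have := hRA a ha (φ s) hs
        rw [h2] at this
        exact this
      · constructor
        intro x hx g
        have := hRL (φ g) ⟨g, rfl⟩ (φ x) hx
        rw [← map_inv, ← map_mul, ← map_mul] at this
        exact this
    rw [eq_bot_iff]
    intro x hx
    obtain ⟨s, hs, rfl⟩ := hRB hx
    have h2 : s ∈ R.comap φ := hx
    rw [h1, Subgroup.mem_bot] at h2
    rw [h2, map_one]
    exact one_mem _

end Cfsg.Agent.H213.Rk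
end

-- part: H213/Master
section
/-!
# Rank one pushing up: the master setup
-/

set_option autoImplicit false
set_option linter.unusedSectionVars false

namespace Cfsg.Agent.H213.Rk

open Subgroup Cfsg.Agent.H260.Push Cfsg.Agent.H260.Psl
open Matrix
open scoped commutatorElement

/-- The rank one pushing up situation, with coordinates. -/
structure Su {G : Type*} [Group G] (F : Type*) [Field F] [Fintype F] (p : ℕ) (S T M : Subgroup G)
    (x y : F → G) (g : G) : Prop where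
  c : Core p (Fintype.card F) S T M
  n : Core.Nat' p (Fintype.card F) S T M
  fr : Frame F S T M x y g
  hchar : ∀ H : Subgroup G, H ≤ S → (∀ α : S ≃* S, ∀ s : S, (s : G) ∈ H → ((α s : S) : G) ∈ H) →
      H.Normal → H = ⊥
  kF : ∃ n, Fintype.card F = p ^ n
  chF : CharP F p

/-- the hypothesis on characteristic subgroups, reformulated -/
theorem hchar_of {G : Type*} [Group G] {S : Subgroup G}
    (hd : ∀ T : Subgroup S, T ≠ ⊥ → T.Characteristic → ¬ (T.map S.subtype).Normal) :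
    ∀ H : Subgroup G, H ≤ S → (∀ α : S ≃* S, ∀ s : S, (s : G) ∈ H → ((α s : S) : G) ∈ H) →
      H.Normal → H = ⊥ := by
  intro H hH hinv hn
  by_contra hne
  have h1 : (H.subgroupOf S).map S.subtype = H := by
    rw [Subgroup.subgroupOf_map_subtype, inf_eq_left]
    exact hH
  apply hd (H.subgroupOf S)
  · intro h2
    apply hne
    rw [← h1, h2, Subgroup.map_bot]
  · rw [Subgroup.characteristic_iff_le_comap]
    intro α s hs
    exact hinv α s hs
  · rw [h1]; exact hn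

theorem exists_su {G : Type*} [Group G] [Finite G] {p : ℕ} [Fact p.Prime] (S : Sylow p G)
    (hE₁ : Subgroup.centralizer (Cfsg.pCore p G : Set G) ≤ Cfsg.pCore p G)
    (hE₂ : ∃! M : Subgroup G, IsCoatom M ∧ (S : Subgroup G) ≤ M) (K : Subgroup G) [K.Normal]
    (F : Type*) [Field F] [Fintype F] (n : ℕ) (hF : Fintype.card F = p ^ n)
    (hE₃ : Nonempty (G ⧸ K ≃* Matrix.ProjectiveSpecialLinearGroup (Fin 2) F))
    (hd : ∀ T : Subgroup ↥(S : Subgroup G), T ≠ ⊥ → T.Characteristic →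
      ¬ (T.map (S : Subgroup G).subtype).Normal) :
    ∃ M x y g, Su F p (S : Subgroup G) (Cfsg.pCore p G) M x y g := by
  have hch : CharP F p := charP_of_card hF
  obtain ⟨e⟩ := hE₃
  obtain ⟨M, c⟩ := core_of_data S hE₁ hE₂ K (data_congr e (data_psl F p))
  have hchar := hchar_of hd
  -- coordinates
  let π₀ : G →* ProjectiveSpecialLinearGroup (Fin 2) F := e.toMonoidHom.comp (QuotientGroup.mk' K)
  have hπ₀ : Function.Surjective π₀ := e.surjective.comp (QuotientGroup.mk'_surjective K)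
  obtain ⟨h, hh⟩ := MulAction.exists_smul_eq (ProjectiveSpecialLinearGroup (Fin 2) F)
    (S.mapSurjective hπ₀) (P₀ F p)
  let π : G →* ProjectiveSpecialLinearGroup (Fin 2) F := (MulAut.conj h).toMonoidHom.comp π₀
  have hπ : Function.Surjective π := (MulAut.conj h).surjective.comp hπ₀
  have hP : (S : Subgroup G).map π = (P₀ F p : Subgroup (ProjectiveSpecialLinearGroup (Fin 2) F)) := by
    ext z
    rw [← hh, mem_smul_sylow, mem_cj]
    constructor
    · rintro ⟨s, hs, rfl⟩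
      refine ⟨s, hs, ?_⟩
      simp [π, mul_assoc]
    · rintro ⟨s, hs, hz⟩
      refine ⟨s, hs, ?_⟩
      change h * π₀ s * h⁻¹ = z
      rw [hz]; group
  obtain ⟨x, y, g, fr⟩ := exists_frame S c π hπ hP
  -- `Z(S)` is not trivial
  have hne : (S : Subgroup G) ≠ ⊥ := by
    intro h0
    apply c.ne
    rw [h0]
    exact (le_bot_iff.mp (h0 ▸ c.le)).symm
  have hZne : cen (S : Subgroup G) ≠ ⊥ := by
    intro h0
    have hnt : Nontrivial ↥(S : Subgroup G) := (Subgroup.nontrivial_iff_ne_bot _).mpr hne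
    have h1 := (c.pgS).center_nontrivial
    obtain ⟨⟨z, hz⟩, hz1⟩ := exists_ne (1 : center ↥(S : Subgroup G))
    apply hz1
    apply Subtype.ext
    apply Subtype.ext
    have h2 : (z : G) ∈ cen (S : Subgroup G) := by
      refine ⟨z.2, mem_centralizer_iff.mpr ?_⟩
      intro s hs
      exact congrArg Subtype.val (mem_center_iff.mp hz ⟨s, hs⟩)
    rw [h0, Subgroup.mem_bot] at h2
    exact h2
  have hZ : ¬ (cen (S : Subgroup G)).Normal := by
    intro hn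
    apply hZne
    apply hchar _ (cen_le _) _ hn
    intro α s hs
    exact aut_cen α hs
  -- large abelian subgroups
  have hA : ∃ A, LargeAb (S : Subgroup G) A ∧ ¬ A ≤ Cfsg.pCore p G := by
    by_contra hcon
    push Not at hcon
    have hTn := c.normT
    have hconj : ∀ g : G, ∀ A, LargeAb (S : Subgroup G) A → LargeAb (S : Subgroup G) (cj g A) := by
      intro g A hA
      have h1 : cj g A ≤ Cfsg.pCore p G := by
        have := cj_mono (g := g) (hcon A hA)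
        rwa [cj_normal g (Cfsg.pCore p G)] at this
      refine ⟨h1.trans c.le, ?_, ?_⟩
      · intro x hx y hy
        rw [mem_cj] at hx hy
        have := hA.comm _ hx _ hy
        have e1 : g⁻¹ * x * g * (g⁻¹ * y * g) = g⁻¹ * (x * y) * g := by group
        have e2 : g⁻¹ * y * g * (g⁻¹ * x * g) = g⁻¹ * (y * x) * g := by group
        rw [e1, e2] at this
        exact mul_left_cancel (mul_right_cancel this)
      · intro B hB hBc
        rw [card_cj]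
        exact hA.max B hB hBc
    set J : Subgroup G := sSup {A : Subgroup G | LargeAb (S : Subgroup G) A} with hJ
    have hJn : J.Normal := by
      apply normal_of_cj_le
      intro g
      have : J ≤ cj g⁻¹ J := by
        apply sSup_le
        intro A hA
        have h1 : cj g A ≤ J := le_sSup (hconj g A hA)
        have h2 := cj_mono (g := g⁻¹) h1
        rwa [cj_inv_cj] at h2
      have h2 := cj_mono (g := g) this
      rwa [cj_cj_inv] at h2
    have hJS : J ≤ (S : Subgroup G) := sSup_le fun A hA => hA.le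
    have hJb : J = ⊥ := by
      apply hchar J hJS _ hJn
      intro α s hs
      have key : J ≤ (((J.subgroupOf (S : Subgroup G)).comap α.toMonoidHom).map
          (S : Subgroup G).subtype) := by
        apply sSup_le
        intro A hA
        have hA' : LargeAb (S : Subgroup G) (((A.subgroupOf (S : Subgroup G)).map α.toMonoidHom).map
            (S : Subgroup G).subtype) := by
          refine ⟨?_, ?_, ?_⟩
          · rintro _ ⟨a, -, rfl⟩
            exact a.2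
          · rintro _ ⟨_, ⟨a, ha, rfl⟩, rfl⟩ _ ⟨_, ⟨b, hb, rfl⟩, rfl⟩
            have h1 : a * b = b * a := Subtype.ext (hA.comm _ ha _ hb)
            have h2 := congrArg (fun z => ((α z : S) : G)) h1
            simp only [map_mul] at h2
            exact h2
          · intro B hB hBc
            rw [card_map_sub]
            have h2 : Nat.card ((A.subgroupOf (S : Subgroup G)).map α.toMonoidHom) =
                Nat.card (A.subgroupOf (S : Subgroup G)) :=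
              (Nat.card_congr ((A.subgroupOf (S : Subgroup G)).equivMapOfInjective α.toMonoidHom
                α.injective).toEquiv).symm
            rw [h2, Nat.card_congr (Subgroup.subgroupOfEquivOfLe hA.le).toEquiv]
            exact hA.max B hB hBc
        intro a ha
        refine ⟨⟨a, hA.le ha⟩, ?_, rfl⟩
        change α ⟨a, hA.le ha⟩ ∈ J.subgroupOf (S : Subgroup G)
        rw [mem_subgroupOf]
        apply (le_sSup hA' : _ ≤ J)
        exact ⟨_, ⟨⟨a, hA.le ha⟩, ha, rfl⟩, rfl⟩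
      obtain ⟨s', hs', hss⟩ := key hs
      have h1 : s' = s := Subtype.ext hss
      rw [h1] at hs'
      exact hs'
    obtain ⟨A, hA⟩ := exists_largeAb (S : Subgroup G)
    apply hZne
    rw [eq_bot_iff, ← hJb]
    exact hA.cenS_le.trans (le_sSup hA)
  obtain ⟨A, hA, hAT⟩ := hA
  exact ⟨M, x, y, g, c, c.nat hZ hA hAT, fr, hchar, ⟨n, hF⟩, hch⟩

end Cfsg.Agent.H213.Rk
end

-- part: H213/CP
section
/-!
# Rank one pushing up: central products and characteristic subgroups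
-/

set_option autoImplicit false
set_option linter.unusedSectionVars false

namespace Cfsg.Agent.H213.Rk

open Subgroup Cfsg.Agent.H260.Push
open scoped commutatorElement

variable {G : Type*} [Group G]

theorem lcs_aut {S : Subgroup G} (k : ℕ) (α : S ≃* S) (s : S) (hs : (s : G) ∈ S.lowerCentralSeries k) :
    ((α s : S) : G) ∈ S.lowerCentralSeries k := by
  rw [← Subgroup.top_subtype_lowerCentralSeries] at hs ⊢
  obtain ⟨s', hs', hss⟩ := hs
  have h1 : s' = s := Subtype.ext hss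
  rw [h1] at hs'
  have h2 : ((⊤ : Subgroup S).lowerCentralSeries k).Characteristic := inferInstance
  rw [Subgroup.characteristic_iff_le_comap] at h2
  exact ⟨α s, h2 α hs', rfl⟩

/-- central products -/
theorem lcs_mul {P C S : Subgroup G}
    (hcomm : ∀ x ∈ P, ∀ c ∈ C, x * c = c * x) (hdec : ∀ s ∈ S, ∃ x ∈ P, ∃ c ∈ C, s = x * c) (k : ℕ) :
    ∀ z ∈ S.lowerCentralSeries k, ∃ x ∈ P.lowerCentralSeries k, ∃ c ∈ C.lowerCentralSeries k, z = x * c := by
  have hPk : ∀ k, P.lowerCentralSeries k ≤ P := fun k => P.lowerCentralSeries_le_self k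
  have hCk : ∀ k, C.lowerCentralSeries k ≤ C := fun k => C.lowerCentralSeries_le_self k
  induction k with
  | zero => exact hdec
  | succ k ih =>
    let N : Subgroup G :=
      { carrier := {z | ∃ x ∈ P.lowerCentralSeries (k + 1), ∃ c ∈ C.lowerCentralSeries (k + 1), z = x * c}
        one_mem' := ⟨1, one_mem _, 1, one_mem _, by simp⟩
        mul_mem' := by
          rintro _ _ ⟨x, hx, c, hc, rfl⟩ ⟨x', hx', c', hc', rfl⟩
          refine ⟨x * x', mul_mem hx hx', c * c', mul_mem hc hc', ?_⟩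
          have := hcomm x' (hPk _ hx') c (hCk _ hc)
          calc x * c * (x' * c') = x * (c * x') * c' := by group
            _ = x * (x' * c) * c' := by rw [this]
            _ = _ := by group
        inv_mem' := by
          rintro _ ⟨x, hx, c, hc, rfl⟩
          refine ⟨x⁻¹, inv_mem hx, c⁻¹, inv_mem hc, ?_⟩
          have := hcomm x⁻¹ (inv_mem (hPk _ hx)) c⁻¹ (inv_mem (hCk _ hc))
          rw [mul_inv_rev, this] }
    have hle : S.lowerCentralSeries (k + 1) ≤ N := by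
      rw [Subgroup.lowerCentralSeries_succ, commutator_le]
      intro a ha b hb
      obtain ⟨x, hx, c, hc, rfl⟩ := ih a ha
      obtain ⟨x', hx', c', hc', rfl⟩ := hdec b hb
      refine ⟨⁅x, x'⁆, commutator_mem_commutator hx hx', ⁅c, c'⁆, commutator_mem_commutator hc hc', ?_⟩
      have k1 : Commute x c := hcomm x (hPk _ hx) c (hCk _ hc)
      have k2 : Commute x c' := hcomm x (hPk _ hx) c' hc'
      have k3 : Commute x' c := hcomm x' hx' c (hCk _ hc)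
      have k4 : Commute x' c' := hcomm x' hx' c' hc'
      simp only [commutatorElement_def, mul_inv_rev]
      have e1 : c * (x' * c') = x' * (c * c') := by
        rw [← mul_assoc, ← k3.eq, mul_assoc]
      have e2 : (c * c') * (c⁻¹ * x⁻¹) = x⁻¹ * (c * c' * c⁻¹) := by
        have : Commute x⁻¹ (c * c' * c⁻¹) := ((k1.mul_right k2).mul_right k1.inv_right).inv_left
        rw [this.eq]; group
      have e3 : (c * c' * c⁻¹) * (c'⁻¹ * x'⁻¹) = x'⁻¹ * (c * c' * c⁻¹ * c'⁻¹) := by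
        have : Commute x'⁻¹ (c * c' * c⁻¹ * c'⁻¹) :=
          (((k3.mul_right k4).mul_right k3.inv_right).mul_right k4.inv_right).inv_left
        rw [this.eq]; group
      calc x * c * (x' * c') * (c⁻¹ * x⁻¹) * (c'⁻¹ * x'⁻¹)
          = x * (c * (x' * c')) * (c⁻¹ * x⁻¹) * (c'⁻¹ * x'⁻¹) := by group
        _ = x * x' * ((c * c') * (c⁻¹ * x⁻¹)) * (c'⁻¹ * x'⁻¹) := by rw [e1]; group
        _ = x * x' * x⁻¹ * ((c * c' * c⁻¹) * (c'⁻¹ * x'⁻¹)) := by rw [e2]; group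
        _ = x * x' * x⁻¹ * x'⁻¹ * (c * c' * c⁻¹ * c'⁻¹) := by rw [e3]; group
    exact hle

/-- the subgroup generated by `n`-th powers -/
def mho (n : ℕ) (H : Subgroup G) : Subgroup G := closure {x | ∃ h ∈ H, x = h ^ n}

theorem mho_le (n : ℕ) (H : Subgroup G) : mho n H ≤ H := by
  rw [mho, closure_le]
  rintro _ ⟨h, hh, rfl⟩
  exact H.pow_mem hh n

theorem mho_mono {n : ℕ} {H K : Subgroup G} (h : H ≤ K) : mho n H ≤ mho n K := by
  apply Subgroup.closure_mono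
  rintro _ ⟨x, hx, rfl⟩
  exact ⟨x, h hx, rfl⟩

theorem mho_normal {n : ℕ} {H : Subgroup G} (hH : H.Normal) : (mho n H).Normal := by
  constructor
  intro x hx g
  have h1 : mho n H ≤ (mho n H).comap (MulAut.conj g).toMonoidHom := by
    conv_lhs => rw [mho]
    rw [closure_le]
    rintro _ ⟨h, hh, rfl⟩
    rw [SetLike.mem_coe, Subgroup.mem_comap]
    apply Subgroup.subset_closure
    exact ⟨g * h * g⁻¹, hH.conj_mem h hh g, by simp⟩
  exact h1 hx

theorem mho_aut {S : Subgroup G} (n : ℕ) (α : S ≃* S) (s : S) (hs : (s : G) ∈ mho n S) :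
    ((α s : S) : G) ∈ mho n S := by
  have h1 : mho n S ≤ (((mho n S).subgroupOf S).comap α.toMonoidHom).map S.subtype := by
    conv_lhs => rw [mho]
    rw [closure_le]
    rintro _ ⟨h, hh, rfl⟩
    refine ⟨⟨h, hh⟩ ^ n, ?_, rfl⟩
    change α (⟨h, hh⟩ ^ n) ∈ (mho n S).subgroupOf S
    rw [map_pow, mem_subgroupOf]
    exact Subgroup.subset_closure ⟨_, (α ⟨h, hh⟩).2, rfl⟩
  obtain ⟨s', hs', hss⟩ := h1 hs
  have h2 : s' = s := Subtype.ext hss
  rw [h2] at hs'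
  exact hs'

section

variable [Finite G] {p q : ℕ} [Fact p.Prime] {S T M : Subgroup G}

/-- if `γ_{k+1}(S) ≤ γ_{k+1}(T)` then it is trivial -/
theorem collapse_lcs (c : Core p q S T M)
    (hchar : ∀ H : Subgroup G, H ≤ S → (∀ α : S ≃* S, ∀ s : S, (s : G) ∈ H → ((α s : S) : G) ∈ H) →
      H.Normal → H = ⊥) {k : ℕ} (h : S.lowerCentralSeries k ≤ T.lowerCentralSeries k) :
    S.lowerCentralSeries k = ⊥ := by
  have hTn := c.normT
  apply hchar _ (S.lowerCentralSeries_le_self k) (lcs_aut k)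
  have h1 : S.lowerCentralSeries k = T.lowerCentralSeries k :=
    le_antisymm h (Subgroup.lowerCentralSeries_mono k c.le)
  rw [h1]
  infer_instance

/-- if the `n`-th powers of elements of `S` are `n`-th powers of elements of `T` then they are trivial -/
theorem collapse_pow (c : Core p q S T M)
    (hchar : ∀ H : Subgroup G, H ≤ S → (∀ α : S ≃* S, ∀ s : S, (s : G) ∈ H → ((α s : S) : G) ∈ H) →
      H.Normal → H = ⊥) {n : ℕ} (h : ∀ s ∈ S, ∃ t ∈ T, s ^ n = t ^ n) :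
    ∀ s ∈ S, s ^ n = 1 := by
  have h1 : mho n S = mho n T := by
    apply le_antisymm _ (mho_mono c.le)
    conv_lhs => rw [mho]
    rw [closure_le]
    rintro _ ⟨s, hs, rfl⟩
    obtain ⟨t, ht, h2⟩ := h s hs
    rw [h2]
    exact Subgroup.subset_closure ⟨t, ht, rfl⟩
  have h2 : mho n S = ⊥ := by
    apply hchar _ (mho_le n S) (mho_aut n)
    rw [h1]
    exact mho_normal c.normT
  intro s hs
  have h3 : s ^ n ∈ mho n S := Subgroup.subset_closure ⟨s, hs, rfl⟩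
  rw [h2, Subgroup.mem_bot] at h3
  exact h3

end

end Cfsg.Agent.H213.Rk
end

-- part: H213/AmalStr
section
/-!
# The amalgam argument of rank one pushing up: distance two, the structure of `B`
-/

set_option autoImplicit false
set_option linter.unusedSectionVars false

namespace Cfsg.Agent.H213.Amal

open Cfsg.Agent.MinSimple.PushUp
open Cfsg.Agent.Omega.PushUp (Mv Dm mem_Dm cj_mem_Dm mem_Dm' closure_left closure_cent
  closure_comm closure_sq)
open scoped commutatorElement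

variable {G : Type*} [Group G]

/-- commutators of generators -/
theorem comm_gen {K : Subgroup G} {s t : Set G} (hK : ∀ x ∈ s ∪ t, ∀ k ∈ K, x * k * x⁻¹ ∈ K ∧ x⁻¹ * k * x ∈ K)
    (h : ∀ a ∈ s, ∀ b ∈ t, a * b * a⁻¹ * b⁻¹ ∈ K) :
    ∀ a ∈ Subgroup.closure s, ∀ b ∈ Subgroup.closure t, a * b * a⁻¹ * b⁻¹ ∈ K := by
  have hKn : Subgroup.closure (s ∪ t) ≤ Subgroup.normalizer (K : Set G) := by
    rw [Subgroup.closure_le]
    intro x hx
    rw [SetLike.mem_coe, Subgroup.mem_normalizer_iff]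
    intro k
    refine ⟨fun hk => (hK x hx k hk).1, fun hk => ?_⟩
    have := (hK x hx _ hk).2
    have e : x⁻¹ * (x * k * x⁻¹) * x = k := by group
    rwa [e] at this
  have hs : Subgroup.closure s ≤ Subgroup.normalizer (K : Set G) :=
    (Subgroup.closure_mono Set.subset_union_left).trans hKn
  have ht : Subgroup.closure t ≤ Subgroup.normalizer (K : Set G) :=
    (Subgroup.closure_mono Set.subset_union_right).trans hKn
  have hn : ∀ x ∈ Subgroup.normalizer (K : Set G), ∀ k ∈ K, x * k * x⁻¹ ∈ K := fun x hx k hk =>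
    (Subgroup.mem_normalizer_iff.mp hx k).mp hk
  -- fix `a ∈ s`
  have h1 : ∀ a ∈ s, ∀ b ∈ Subgroup.closure t, a * b * a⁻¹ * b⁻¹ ∈ K := by
    intro a ha b hb
    induction hb using Subgroup.closure_induction with
    | mem b hb => exact h a ha b hb
    | one => simp
    | mul b b' hb hb' ih ih' =>
      have h2 := K.mul_mem ih (hn b (ht hb) _ ih')
      have e : a * b * a⁻¹ * b⁻¹ * (b * (a * b' * a⁻¹ * b'⁻¹) * b⁻¹) = a * (b * b') * a⁻¹ * (b * b')⁻¹ := by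
        group
      rwa [e] at h2
    | inv b hb ih =>
      have h2 := hn _ (inv_mem (ht hb)) _ (K.inv_mem ih)
      have e : b⁻¹ * (a * b * a⁻¹ * b⁻¹)⁻¹ * b⁻¹⁻¹ = a * b⁻¹ * a⁻¹ * b⁻¹⁻¹ := by group
      rwa [e] at h2
  intro a ha b hb
  induction ha using Subgroup.closure_induction with
  | mem a ha => exact h1 a ha b hb
  | one => simp
  | mul a a' ha ha' ih ih' =>
    have h2 := K.mul_mem (hn a (hs ha) _ ih') ih
    have e : a * (a' * b * a'⁻¹ * b⁻¹) * a⁻¹ * (a * b * a⁻¹ * b⁻¹) = a * a' * b * (a * a')⁻¹ * b⁻¹ := by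
      group
    rwa [e] at h2
  | inv a ha ih =>
    have h2 := hn _ (inv_mem (hs ha)) _ (K.inv_mem ih)
    have e : a⁻¹ * (a * b * a⁻¹ * b⁻¹)⁻¹ * a⁻¹⁻¹ = a⁻¹ * b * a⁻¹⁻¹ * b⁻¹ := by group
    rwa [e] at h2

/-- powers in class two -/
theorem pow_two_class {v v' z : G} (e1 : v * v' = z * (v' * v)) (hzv : Commute v z) (hzv' : Commute v' z)
    (n : ℕ) : (v' * v) ^ n = v' ^ n * v ^ n * z ^ (n * (n - 1) / 2) := by
  have e2 : ∀ n : ℕ, v ^ n * v' = z ^ n * (v' * v ^ n) := by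
    intro n
    induction n with
    | zero => simp
    | succ n ih =>
      calc v ^ (n + 1) * v' = v * (v ^ n * v') := by rw [pow_succ']; group
        _ = (v * z ^ n) * v' * v ^ n := by rw [ih]; group
        _ = z ^ n * (v * v') * v ^ n := by rw [(hzv.pow_right n).eq]; group
        _ = z ^ n * z * (v' * (v * v ^ n)) := by rw [e1]; group
        _ = z ^ (n + 1) * (v' * v ^ (n + 1)) := by rw [pow_succ z, pow_succ' v]
  induction n with
  | zero => simp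
  | succ n ih =>
    have hzz : Commute (z ^ (n * (n - 1) / 2)) (v' * v) := (hzv'.symm.mul_right hzv.symm).pow_left _
    have hn : n * (n - 1) / 2 + n = (n + 1) * (n + 1 - 1) / 2 := by
      rcases n with _ | n
      · simp
      · have h4 : (n + 1 + 1) * (n + 1 + 1 - 1) = (n + 1) * (n + 1 - 1) + (n + 1) * 2 := by
          simp only [Nat.add_sub_cancel]; ring
        rw [h4, Nat.add_mul_div_right _ _ (by norm_num)]
    calc (v' * v) ^ (n + 1) = (v' ^ n * v ^ n * z ^ (n * (n - 1) / 2)) * (v' * v) := by rw [pow_succ, ih]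
      _ = v' ^ n * v ^ n * (z ^ (n * (n - 1) / 2) * (v' * v)) := by group
      _ = v' ^ n * (v ^ n * v') * v * z ^ (n * (n - 1) / 2) := by rw [hzz.eq]; group
      _ = (v' ^ n * z ^ n) * (v' * v ^ n) * v * z ^ (n * (n - 1) / 2) := by rw [e2]; group
      _ = z ^ n * (v' ^ n * v' * (v ^ n * v)) * z ^ (n * (n - 1) / 2) := by
          rw [((hzv'.pow_left n).pow_right n).eq]; group
      _ = (z ^ n * (v' ^ (n + 1) * v ^ (n + 1))) * z ^ (n * (n - 1) / 2) := by rw [← pow_succ, ← pow_succ]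
      _ = (v' ^ (n + 1) * v ^ (n + 1)) * z ^ n * z ^ (n * (n - 1) / 2) := by
          have : Commute (z ^ n) (v' ^ (n + 1) * v ^ (n + 1)) :=
            ((hzv'.symm.pow_right _).mul_right (hzv.symm.pow_right _)).pow_left n
          rw [this.eq]
      _ = v' ^ (n + 1) * v ^ (n + 1) * z ^ (n * (n - 1) / 2 + n) := by rw [add_comm, pow_add]; group
      _ = _ := by rw [hn]

theorem pow_odd_prime {p : ℕ} (hp : p.Prime) (hp2 : p ≠ 2) {v v' z : G} (e1 : v * v' = z * (v' * v))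
    (hzv : Commute v z) (hzv' : Commute v' z) (hv : v ^ p = 1) (hv' : v' ^ p = 1) (hz : z ^ p = 1) :
    (v' * v) ^ p = 1 := by
  rw [pow_two_class e1 hzv hzv', hv, hv', one_mul, one_mul]
  obtain ⟨m, hm⟩ := hp.odd_of_ne_two hp2
  have h4 : p * (p - 1) / 2 = p * m := by
    rw [hm]
    have : (2 * m + 1) * (2 * m + 1 - 1) = ((2 * m + 1) * m) * 2 := by
      simp only [Nat.add_sub_cancel]; ring
    rw [this]
    exact Nat.mul_div_cancel _ (by norm_num)
  rw [h4, pow_mul, hz, one_pow]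

variable {A L B Q V Z D : Subgroup G}

namespace Dt

variable (h : Dt A L B Q V Z D)

include h

theorem exists_notZ : ∃ y ∈ V, y ∉ Z := by
  by_contra hcon
  push Not at hcon
  obtain ⟨d, hd, hd1⟩ := h.exists_ne
  apply hd1
  have h1 : Subgroup.closure {x | ∃ v ∈ V, ∃ b ∈ B, x = v * b * v⁻¹ * b⁻¹} ≤ ⊥ := by
    rw [Subgroup.closure_le]
    rintro x ⟨v, hv, b, hb, rfl⟩
    have h2 := h.BcZ b hb v (hcon v hv)
    rw [SetLike.mem_coe, Subgroup.mem_bot, ← h2]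
    group
  exact Subgroup.mem_bot.mp (h1 (h.Dgen hd))

section

variable [Finite G] (hc : ∀ m < 1, ∀ w ∈ W A L m, Com V w)
variable {τ : G} (hτ : Cr A L V Z D τ)

include hτ hc

/-- `W` has exponent `p` if `V` has and `p` is odd -/
theorem Wg_pow {p : ℕ} (hp : p.Prime) (hp2 : p ≠ 2) (hV : ∀ v ∈ V, v ^ p = 1) :
    ∀ x ∈ Wg A L V Z D, x ^ p = 1 := by
  let H : Subgroup G :=
    { carrier := {x | x ∈ Wg A L V Z D ∧ x ^ p = 1}
      one_mem' := ⟨one_mem _, one_pow _⟩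
      mul_mem' := by
        rintro a b ⟨ha, ha'⟩ ⟨hb, hb'⟩
        refine ⟨mul_mem ha hb, ?_⟩
        obtain ⟨f, hf, h1⟩ := h.Wg_comm hc hτ b hb a ha
        have hfZ := h.F_le hτ hf
        have e1 : b * a = f * (a * b) := by
          have : b * a = cj b a * b := by simp [cj]
          rw [this, h1, mul_assoc]
        have hfb : Commute b f := h.BcZ b (h.QB (h.Wg_le_Q hc hb)) f hfZ
        have hfa : Commute a f := h.BcZ a (h.QB (h.Wg_le_Q hc ha)) f hfZ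
        exact pow_odd_prime hp hp2 e1 hfb hfa hb' ha' (hV f (h.ZV hfZ))
      inv_mem' := by
        rintro a ⟨ha, ha'⟩
        exact ⟨inv_mem ha, by rw [inv_pow, ha', inv_one]⟩ }
  have hle : Wg A L V Z D ≤ H := by
    conv_lhs => rw [Wg]
    rw [Subgroup.closure_le]
    intro x hx
    refine ⟨Subgroup.subset_closure hx, ?_⟩
    rcases hx with hx | ⟨l, hl, σ, hσ, v, hv, rfl⟩
    · exact hV x hx
    · have e : (cj l (cj σ v)) ^ p = cj l (cj σ (v ^ p)) := by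
        simp only [cj, conj_pow]
      rw [e, hV v hv]
      simp [cj]
  exact fun x hx => (hle hx).2

/-- `Q = V₂ (Q ∩ Q^τ)` -/
theorem Q_dec {m : G} (hm : m ∈ L) (hmv : Mv D Z m) {q : G} (hq : q ∈ Q) :
    ∃ v ∈ V, ∃ k ∈ Q, cj τ⁻¹ k ∈ Q ∧ q = cj m (cj τ v) * k := by
  have hqB : cj τ⁻¹ q ∈ B := h.cjB (A.inv_mem hτ.1) (h.QB hq)
  obtain ⟨v, hv, k, hk, h1⟩ := h.crit_B hc (h.word_mem (A.inv_mem hτ.1) hm hτ.1)
    (h.crit_tau hc hτ hm hmv) hqB
  have h2 : q = cj m (cj τ v) * cj τ k := by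
    have := congrArg (cj τ) h1
    rw [cj_cj_inv, cj_prod] at this
    rw [this]; simp [cj, mul_assoc]
  refine ⟨v, hv, cj τ k, ?_, ?_, h2⟩
  · have h3 : cj τ k = (cj m (cj τ v))⁻¹ * q := by rw [h2]; group
    rw [h3]
    exact Q.mul_mem (Q.inv_mem (h.Wg_le_Q hc (mem_Wg hτ hm hv))) hq
  · rw [cj_inv_cj]; exact hk

/-- the second step -/
theorem Q_dec2 {m : G} (hm : m ∈ L) (hmv : Mv D Z m) {q : G} (hq : q ∈ Q) (hq' : cj τ⁻¹ q ∈ Q) :
    ∃ v ∈ V, ∃ k ∈ Q, cj τ⁻¹ k ∈ Q ∧ (∀ u ∈ V, k * cj m (cj τ u) = cj m (cj τ u) * k) ∧ q = cj τ v * k := by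
  have hqB : cj τ⁻¹ (cj m⁻¹ q) ∈ B := h.cjB (A.inv_mem hτ.1) (h.QB (h.cjQ (L.inv_mem hm) hq))
  obtain ⟨v, hv, k, hk, h1⟩ := h.crit_B hc (h.word_mem (A.inv_mem hτ.1) (L.inv_mem hm) hτ.1)
    (h.crit_tau hc hτ (L.inv_mem hm) (h.mvinv m hm hmv)) hqB
  have h2 : q = cj τ v * cj m (cj τ k) := by
    have := congrArg (fun x => cj m (cj τ x)) h1
    simp only [cj_cj_inv, cj_prod] at this
    rw [this]; simp [cj, mul_assoc]
  have h3 : cj m (cj τ k) = (cj τ v)⁻¹ * q := by rw [h2]; group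
  refine ⟨v, hv, cj m (cj τ k), ?_, ?_, ?_, h2⟩
  · rw [h3]
    exact Q.mul_mem (Q.inv_mem (h.Wg_le_Q hc (mem_Wg' hτ hv))) hq
  · rw [h3, cj_prod, cj_inv, cj_inv_cj]
    exact Q.mul_mem (Q.inv_mem (h.VQ hv)) hq'
  · intro u hu
    exact cj_comm.2 (cj_comm.2 (h.VcQ k hk u hu))

/-- the third step -/
theorem Q_dec3 {m : G} (hm : m ∈ L) (hmv : Mv D Z m) {q : G} (hq' : cj τ⁻¹ q ∈ Q) :
    ∃ v ∈ V, ∃ k, (∀ u ∈ V, k * cj (τ * m * τ) u = cj (τ * m * τ) u * k) ∧ q = v * k := by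
  have hτ' := h.cr_inv hc hτ
  have hqB : cj τ⁻¹ (cj m⁻¹ (cj τ⁻¹ q)) ∈ B :=
    h.cjB (A.inv_mem hτ.1) (h.QB (h.cjQ (L.inv_mem hm) hq'))
  obtain ⟨v, hv, k, hk, h1⟩ := h.crit_B hc (h.word_mem (A.inv_mem hτ.1) (L.inv_mem hm) (A.inv_mem hτ.1))
    (h.crit_word hc hτ' (L.inv_mem hm) (h.mvinv m hm hmv)) hqB
  have h2 : q = v * cj (τ * m * τ) k := by
    have := congrArg (fun x => cj τ (cj m (cj τ x))) h1
    simp only [cj_cj_inv, cj_prod] at this
    rw [this]; simp [cj, mul_assoc]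
  refine ⟨v, hv, cj (τ * m * τ) k, ?_, h2⟩
  intro u hu
  exact cj_comm.2 (h.VcQ k hk u hu)

/-- `P = V₋₁ V₂ V₀ V₁` -/
def _root_.Cfsg.Agent.H213.Amal.Pset (V : Subgroup G) (τ m : G) : Set G :=
  {x | (∃ v ∈ V, x = cj (τ * m * τ) v) ∨ (∃ v ∈ V, x = cj m (cj τ v)) ∨ (∃ v ∈ V, x = cj τ v) ∨ x ∈ V}

theorem Pset_B {m : G} (hm : m ∈ L) : ∀ x ∈ Pset V τ m, x ∈ B := by
  rintro x (⟨v, hv, rfl⟩ | ⟨v, hv, rfl⟩ | ⟨v, hv, rfl⟩ | hx)
  · exact h.memB' hc le_rfl (h.word_mem hτ.1 hm hτ.1) hv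
  · exact h.QB (h.Wg_le_Q hc (mem_Wg hτ hm hv))
  · exact h.QB (h.Wg_le_Q hc (mem_Wg' hτ hv))
  · exact h.VB hx

/-- `B = P C_Q(P)` -/
theorem B_dec {m : G} (hm : m ∈ L) (hmv : Mv D Z m) {b : G} (hb : b ∈ B) :
    ∃ x ∈ Subgroup.closure (Pset V τ m), ∃ k ∈ Q ⊓ Subgroup.centralizer (Pset V τ m), b = x * k := by
  obtain ⟨v₁, hv₁, q, hq, rfl⟩ := h.crit_B hc (h.word_mem hτ.1 hm hτ.1) (h.crit_word hc hτ hm hmv) hb
  obtain ⟨v₂, hv₂, q₂, hq₂, hq₂', rfl⟩ := h.Q_dec hc hτ hm hmv hq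
  obtain ⟨v₃, hv₃, q₃, hq₃, hq₃', h3, rfl⟩ := h.Q_dec2 hc hτ hm hmv hq₂ hq₂'
  obtain ⟨v₄, hv₄, k, hk, rfl⟩ := h.Q_dec3 hc hτ hm hmv hq₃'
  have hkQ : k ∈ Q := by
    have := Q.mul_mem (Q.inv_mem (h.VQ hv₄)) hq₃
    rwa [inv_mul_cancel_left] at this
  refine ⟨cj (τ * m * τ) v₁ * (cj m (cj τ v₂) * (cj τ v₃ * v₄)), ?_, k, ⟨hkQ, ?_⟩, ?_⟩
  · refine mul_mem (Subgroup.subset_closure (Or.inl ⟨v₁, hv₁, rfl⟩)) (mul_mem
      (Subgroup.subset_closure (Or.inr (Or.inl ⟨v₂, hv₂, rfl⟩))) (mul_mem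
      (Subgroup.subset_closure (Or.inr (Or.inr (Or.inl ⟨v₃, hv₃, rfl⟩))))
      (Subgroup.subset_closure (Or.inr (Or.inr (Or.inr hv₄))))))
  · refine Subgroup.mem_centralizer_iff.mpr ?_
    rintro x (⟨v, hv, rfl⟩ | ⟨v, hv, rfl⟩ | ⟨v, hv, rfl⟩ | hx)
    · exact (hk v hv).symm
    · have k1 : Commute (v₄ * k) (cj m (cj τ v)) := h3 v hv
      have k2 : Commute v₄ (cj m (cj τ v)) := by
        have := h.VcQ _ (h.Wg_le_Q hc (mem_Wg hτ hm hv)) v₄ hv₄
        exact this.symm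
      have k3 : Commute k (cj m (cj τ v)) := by
        have := k2.inv_left.mul_left k1
        rwa [inv_mul_cancel_left] at this
      exact k3.symm.eq
    · have k1 : Commute (cj τ⁻¹ (v₄ * k)) v := h.VcQ _ hq₃' v hv
      have k1' : Commute (v₄ * k) (cj τ v) := by
        have := (cj_comm (g := τ)).2 k1.eq
        rwa [cj_cj_inv] at this
      have k2 : Commute v₄ (cj τ v) := hc 0 one_pos τ hτ.1 v₄ hv₄ v hv
      have k3 : Commute k (cj τ v) := by
        have := k2.inv_left.mul_left k1'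
        rwa [inv_mul_cancel_left] at this
      exact k3.symm.eq
    · exact (h.VcQ k hkQ x hx).symm
  · group

/-- the intersection `V₀ C~ ∩ (V₁ C~)^τ` -/
theorem K_B {τ' : G} (hτ' : Cr A L V Z D τ') {b x : G} (hb : b ∈ B) (hx : x ∈ U1 h hc τ') :
    b * x * b⁻¹ ∈ U1 h hc τ' := by
  have h1 := h.CTs_le_U1 hc τ' (h.q1 hc hτ' hb hx)
  have := mul_mem h1 hx
  rwa [inv_mul_cancel_right] at this

omit hτ in
theorem Z_le_U1 (σ : G) : Z ≤ U1 h hc σ := fun _ hz => h.CTs_le_U1 hc σ (h.V_le_CTs hc (h.ZV hz))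

theorem U1_comm {w v : G} (hw : w ∈ U1 h hc τ) (hv : v ∈ V) : w * cj τ v = cj τ v * w := by
  obtain ⟨y, hy, c, hcc, rfl⟩ := (h.mem_U1 hc hτ).mp hw
  have k1 : Commute (cj τ y) (cj τ v) := cj_comm.2 (h.VcQ y (h.VQ hy) v hv)
  have k2 : Commute c (cj τ v) := h.CT_comm hc hτ hcc hv
  exact (k1.mul_left k2).eq

/-- commutators of `P` lie in the intersection -/
theorem P_comm {m : G} (hm : m ∈ L) : ∀ a ∈ Subgroup.closure (Pset V τ m),
    ∀ b ∈ Subgroup.closure (Pset V τ m),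
      a * b * a⁻¹ * b⁻¹ ∈ U1 h hc τ ⊓ (U1 h hc τ⁻¹).map (MulAut.conj τ).toMonoidHom := by
  have hτ' := h.cr_inv hc hτ
  have hmem : ∀ x, x ∈ (U1 h hc τ⁻¹).map (MulAut.conj τ).toMonoidHom ↔ cj τ⁻¹ x ∈ U1 h hc τ⁻¹ := by
    intro x
    constructor
    · rintro ⟨y, hy, rfl⟩
      have : cj τ⁻¹ ((MulAut.conj τ).toMonoidHom y) = y := by simp [cj, mul_assoc]
      rwa [this]
    · intro hx
      refine ⟨_, hx, ?_⟩
      simp [cj, mul_assoc]
  have hK : ∀ b ∈ B, ∀ k ∈ U1 h hc τ ⊓ (U1 h hc τ⁻¹).map (MulAut.conj τ).toMonoidHom,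
      b * k * b⁻¹ ∈ U1 h hc τ ⊓ (U1 h hc τ⁻¹).map (MulAut.conj τ).toMonoidHom := by
    rintro b hb k ⟨hk1, hk2⟩
    refine ⟨h.K_B hc hτ hτ hb hk1, ?_⟩
    replace hk2 := (hmem _).mp hk2
    refine (hmem _).mpr ?_
    have h1 : cj τ⁻¹ b ∈ B := h.cjB (A.inv_mem hτ.1) hb
    have h2 := h.K_B hc hτ hτ' h1 hk2
    have e : cj τ⁻¹ b * cj τ⁻¹ k * (cj τ⁻¹ b)⁻¹ = cj τ⁻¹ (b * k * b⁻¹) := by simp [cj, mul_assoc]
    rwa [e] at h2
  have hZK : Z ≤ U1 h hc τ ⊓ (U1 h hc τ⁻¹).map (MulAut.conj τ).toMonoidHom := by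
    intro z hz
    refine ⟨h.Z_le_U1 hc τ hz, ?_⟩
    refine (hmem _).mpr ?_
    exact h.Z_le_U1 hc _ (h.cjZ (A.inv_mem hτ.1) hz)
  have hB := h.Pset_B hc hτ hm
  set K := U1 h hc τ ⊓ (U1 h hc τ⁻¹).map (MulAut.conj τ).toMonoidHom with hKdef
  -- the commutator of `V₋₁` and `V₂`
  have key : ∀ v ∈ V, ∀ u ∈ V, cj (τ * m * τ) v * cj m (cj τ u) * (cj (τ * m * τ) v)⁻¹ *
      (cj m (cj τ u))⁻¹ ∈ K := by
    intro v hv u hu
    have hvB : cj (τ * m * τ) v ∈ B := hB _ (Or.inl ⟨v, hv, rfl⟩)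
    have huB : cj m (cj τ u) ∈ B := hB _ (Or.inr (Or.inl ⟨u, hu, rfl⟩))
    refine ⟨h.q2 hc hτ hvB (mem_Wg hτ hm hu), ?_⟩
    refine (hmem _).mpr ?_
    have h1 : cj τ⁻¹ (cj m (cj τ u)) ∈ B := h.cjB (A.inv_mem hτ.1) huB
    have h2 : cj τ⁻¹ (cj (τ * m * τ) v) = cj m (cj τ v) := by simp [cj, mul_assoc]
    have h3 := inv_mem (h.q2 hc hτ' h1 (mem_Wg hτ hm hv))
    rw [← h2] at h3
    have e : (cj τ⁻¹ (cj m (cj τ u)) * cj τ⁻¹ (cj (τ * m * τ) v) * (cj τ⁻¹ (cj m (cj τ u)))⁻¹ *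
        (cj τ⁻¹ (cj (τ * m * τ) v))⁻¹)⁻¹ = cj τ⁻¹ (cj (τ * m * τ) v * cj m (cj τ u) *
        (cj (τ * m * τ) v)⁻¹ * (cj m (cj τ u))⁻¹) := by simp [cj, mul_assoc]
    rwa [e] at h3
  have hV : ∀ v ∈ V, ∀ b ∈ B, v * b * v⁻¹ * b⁻¹ ∈ K := fun v hv b hb => hZK (h.DZ (h.comm v hv b hb))
  have hV0 : ∀ v ∈ V, ∀ b ∈ B, b * cj τ v * b⁻¹ * (cj τ v)⁻¹ ∈ K := by
    intro v hv b hb
    obtain ⟨f, hf, h1⟩ := h.B_comm hτ hb hv
    have e : b * cj τ v * b⁻¹ * (cj τ v)⁻¹ = f := by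
      change cj b (cj τ v) * (cj τ v)⁻¹ = f
      rw [h1]; group
    rw [e]
    exact hZK (h.F_le hτ hf)
  have hinv : ∀ a b : G, a * b * a⁻¹ * b⁻¹ ∈ K → b * a * b⁻¹ * a⁻¹ ∈ K := by
    intro a b hab
    have := K.inv_mem hab
    have e : (a * b * a⁻¹ * b⁻¹)⁻¹ = b * a * b⁻¹ * a⁻¹ := by group
    rwa [e] at this
  have hone : ∀ a b : G, a * b = b * a → a * b * a⁻¹ * b⁻¹ ∈ K := by
    intro a b hab
    have : a * b * a⁻¹ * b⁻¹ = 1 := by rw [hab]; group
    rw [this]; exact one_mem _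
  apply comm_gen
  · intro x hx k hk
    have hxB : x ∈ B := by
      rcases hx with hx | hx
      · exact hB x hx
      · exact hB x hx
    refine ⟨hK x hxB k hk, ?_⟩
    have := hK x⁻¹ (B.inv_mem hxB) k hk
    rwa [inv_inv] at this
  · intro a ha b hb
    have haB := hB a ha
    have hbB := hB b hb
    rcases ha with ⟨v, hv, rfl⟩ | ⟨v, hv, rfl⟩ | ⟨v, hv, rfl⟩ | ha
    · rcases hb with ⟨u, hu, rfl⟩ | ⟨u, hu, rfl⟩ | ⟨u, hu, rfl⟩ | hb
      · exact hone _ _ (cj_comm.2 (h.VcQ v (h.VQ hv) u hu))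
      · exact key v hv u hu
      · exact hV0 u hu _ haB
      · exact hinv _ _ (hV b hb _ haB)
    · rcases hb with ⟨u, hu, rfl⟩ | ⟨u, hu, rfl⟩ | ⟨u, hu, rfl⟩ | hb
      · exact hinv _ _ (key u hu v hv)
      · exact hone _ _ (cj_comm.2 (cj_comm.2 (h.VcQ v (h.VQ hv) u hu)))
      · exact hV0 u hu _ haB
      · exact hinv _ _ (hV b hb _ haB)
    · exact hinv _ _ (hV0 v hv _ hbB)
    · exact hV a ha b hbB

/-- `[K, P] ≤ Z` -/
theorem K_comm {m : G} (hm : m ∈ L) : ∀ a ∈ U1 h hc τ ⊓ (U1 h hc τ⁻¹).map (MulAut.conj τ).toMonoidHom,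
    ∀ b ∈ Subgroup.closure (Pset V τ m), a * b * a⁻¹ * b⁻¹ ∈ Z := by
  have hτ' := h.cr_inv hc hτ
  have hB := h.Pset_B hc hτ hm
  intro a ha b hb
  have haW := h.U1_le hc hτ ha.1
  have haQ := h.Wg_le_Q hc haW
  have ha2 : cj τ⁻¹ a ∈ U1 h hc τ⁻¹ := by
    obtain ⟨y, hy, h1⟩ := ha.2
    have : cj τ⁻¹ a = y := by rw [← h1]; simp [cj, mul_assoc]
    rw [this]; exact hy
  have key := comm_gen (K := Z) (s := {a}) (t := Pset V τ m) (by
    intro x hx k hk
    have hxB : x ∈ B := by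
      rcases hx with hx | hx
      · rw [Set.mem_singleton_iff.mp hx]
        exact h.QB haQ
      · exact hB x hx
    have h1 := h.BcZ x hxB k hk
    refine ⟨?_, ?_⟩
    · rw [h1, mul_inv_cancel_right]; exact hk
    · rw [mul_assoc, ← h1, inv_mul_cancel_left]; exact hk) (by
    intro a' ha' b hb
    rw [Set.mem_singleton_iff.mp ha']
    have hone : ∀ a b : G, a * b = b * a → a * b * a⁻¹ * b⁻¹ ∈ Z := by
      intro a b hab
      have : a * b * a⁻¹ * b⁻¹ = 1 := by rw [hab]; group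
      rw [this]; exact one_mem _
    rcases hb with ⟨v, hv, rfl⟩ | ⟨v, hv, rfl⟩ | ⟨v, hv, rfl⟩ | hb
    · -- conjugate by `τ⁻¹`
      obtain ⟨f, hf, h1⟩ := h.Wg_comm hc hτ' _ (h.U1_le hc hτ' ha2) (cj m (cj τ v)) (mem_Wg hτ hm hv)
      have h2 : a * cj (τ * m * τ) v * a⁻¹ * (cj (τ * m * τ) v)⁻¹ = cj τ f := by
        have h3 : cj (cj τ⁻¹ a) (cj m (cj τ v)) * (cj m (cj τ v))⁻¹ = f := by rw [h1]; group
        rw [← h3]; simp [cj, mul_assoc]
      rw [h2]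
      exact h.cjZ hτ.1 (h.F_le hτ' hf)
    · obtain ⟨f, hf, h1⟩ := h.Wg_comm hc hτ a haW (cj m (cj τ v)) (mem_Wg hτ hm hv)
      have h2 : a * cj m (cj τ v) * a⁻¹ * (cj m (cj τ v))⁻¹ = f := by
        change cj a (cj m (cj τ v)) * _ = f
        rw [h1]; group
      rw [h2]
      exact h.F_le hτ hf
    · exact hone _ _ (h.U1_comm hc hτ ha.1 hv)
    · exact hone _ _ (h.VcQ a haQ b hb))
  exact key a (Subgroup.subset_closure rfl) b hb

/-- the class of `P` is at most three -/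
theorem P_lcs {m : G} (hm : m ∈ L) : (Subgroup.closure (Pset V τ m)).lowerCentralSeries 3 = ⊥ := by
  have hPB : Subgroup.closure (Pset V τ m) ≤ B := by
    rw [Subgroup.closure_le]
    exact h.Pset_B hc hτ hm
  have h1 : (Subgroup.closure (Pset V τ m)).lowerCentralSeries 1 ≤
      U1 h hc τ ⊓ (U1 h hc τ⁻¹).map (MulAut.conj τ).toMonoidHom := by
    rw [Subgroup.lowerCentralSeries_succ, Subgroup.lowerCentralSeries_zero, Subgroup.commutator_le]
    intro a ha b hb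
    rw [commutatorElement_def]
    exact h.P_comm hc hτ hm a ha b hb
  have h2 : (Subgroup.closure (Pset V τ m)).lowerCentralSeries 2 ≤ Z := by
    rw [Subgroup.lowerCentralSeries_succ, Subgroup.commutator_le]
    intro a ha b hb
    rw [commutatorElement_def]
    exact h.K_comm hc hτ hm a (h1 ha) b hb
  rw [Subgroup.lowerCentralSeries_succ, eq_bot_iff, Subgroup.commutator_le]
  intro a ha b hb
  rw [Subgroup.mem_bot, commutatorElement_eq_one_iff_mul_comm]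
  exact (h.BcZ b (hPB hb) a (h2 ha)).symm

/-- the exponent of `P` -/
theorem P_pow {p : ℕ} (hp : p.Prime) (hp2 : p ≠ 2) (hV : ∀ v ∈ V, v ^ p = 1) {m : G} (hm : m ∈ L)
    {x : G} (hx : x ∈ Subgroup.closure (Pset V τ m)) : (x ^ p) ^ p = 1 := by
  set P := Subgroup.closure (Pset V τ m) with hP
  set K := U1 h hc τ ⊓ (U1 h hc τ⁻¹).map (MulAut.conj τ).toMonoidHom with hK
  have hPB : P ≤ B := by
    rw [hP, Subgroup.closure_le]
    exact h.Pset_B hc hτ hm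
  -- `x ^ p ∈ K`
  have hKn : (K.subgroupOf P).Normal := by
    constructor
    intro k hk g
    rw [Subgroup.mem_subgroupOf] at hk ⊢
    have hτ' := h.cr_inv hc hτ
    refine ⟨h.K_B hc hτ hτ (hPB g.2) hk.1, ?_⟩
    obtain ⟨y, hy, h1⟩ := hk.2
    refine ⟨cj τ⁻¹ (g : G) * y * (cj τ⁻¹ (g : G))⁻¹,
      h.K_B hc hτ hτ' (h.cjB (A.inv_mem hτ.1) (hPB g.2)) hy, ?_⟩
    have h1' : τ * y * τ⁻¹ = (k : G) := h1
    change τ * (cj τ⁻¹ (g : G) * y * (cj τ⁻¹ (g : G))⁻¹) * τ⁻¹ = g * k * g⁻¹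
    rw [← h1']; simp [cj, mul_assoc]
  have hab : ∀ a b : P ⧸ K.subgroupOf P, a * b = b * a := by
    intro a b
    obtain ⟨a, rfl⟩ := QuotientGroup.mk'_surjective _ a
    obtain ⟨b, rfl⟩ := QuotientGroup.mk'_surjective _ b
    have h1 : a * b * a⁻¹ * b⁻¹ ∈ K.subgroupOf P := by
      rw [Subgroup.mem_subgroupOf]
      exact h.P_comm hc hτ hm a a.2 b b.2
    have h2 : QuotientGroup.mk' (K.subgroupOf P) (a * b * a⁻¹ * b⁻¹) = 1 := (QuotientGroup.eq_one_iff _).mpr h1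
    rw [map_mul, map_mul, map_mul, map_inv, map_inv] at h2
    rw [mul_inv_eq_one, mul_inv_eq_iff_eq_mul] at h2
    exact h2
  let H : Subgroup G :=
    { carrier := {x | x ∈ P ∧ x ^ p ∈ K}
      one_mem' := ⟨one_mem _, by rw [one_pow]; exact one_mem _⟩
      mul_mem' := by
        rintro a b ⟨ha, ha'⟩ ⟨hb, hb'⟩
        refine ⟨mul_mem ha hb, ?_⟩
        have h1 : (QuotientGroup.mk' (K.subgroupOf P) (⟨a, ha⟩ * ⟨b, hb⟩)) ^ p = 1 := by
          rw [map_mul]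
          have h2 : Commute (QuotientGroup.mk' (K.subgroupOf P) ⟨a, ha⟩)
            (QuotientGroup.mk' (K.subgroupOf P) ⟨b, hb⟩) := hab _ _
          rw [h2.mul_pow, ← map_pow, ← map_pow]
          have h3 : QuotientGroup.mk' (K.subgroupOf P) ((⟨a, ha⟩ : P) ^ p) = 1 :=
            (QuotientGroup.eq_one_iff _).mpr ha'
          have h4 : QuotientGroup.mk' (K.subgroupOf P) ((⟨b, hb⟩ : P) ^ p) = 1 :=
            (QuotientGroup.eq_one_iff _).mpr hb'
          rw [h3, h4, one_mul]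
        rw [← map_pow] at h1
        have h5 : ((⟨a, ha⟩ * ⟨b, hb⟩ : P) ^ p) ∈ K.subgroupOf P := (QuotientGroup.eq_one_iff _).mp h1
        exact h5
      inv_mem' := by
        rintro a ⟨ha, ha'⟩
        exact ⟨inv_mem ha, by rw [inv_pow]; exact inv_mem ha'⟩ }
  have hPH : P ≤ H := by
    conv_lhs => rw [hP]
    rw [Subgroup.closure_le]
    intro y hy
    refine ⟨Subgroup.subset_closure hy, ?_⟩
    have : y ^ p = 1 := by
      rcases hy with ⟨v, hv, rfl⟩ | ⟨v, hv, rfl⟩ | ⟨v, hv, rfl⟩ | hy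
      · have e : (cj (τ * m * τ) v) ^ p = cj (τ * m * τ) (v ^ p) := by simp only [cj, conj_pow]
        rw [e, hV v hv]; simp [cj]
      · have e : (cj m (cj τ v)) ^ p = cj m (cj τ (v ^ p)) := by simp only [cj, conj_pow]
        rw [e, hV v hv]; simp [cj]
      · have e : (cj τ v) ^ p = cj τ (v ^ p) := by simp only [cj, conj_pow]
        rw [e, hV v hv]; simp [cj]
      · exact hV y hy
    rw [this]; exact one_mem _
  have hxK := (hPH hx).2
  exact h.Wg_pow hc hτ hp hp2 hV _ (h.U1_le hc hτ hxK.1)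

theorem PC_comm {m : G} : ∀ x ∈ Subgroup.closure (Pset V τ m),
    ∀ c ∈ Q ⊓ Subgroup.centralizer (Pset V τ m), x * c = c * x := by
  intro x hx c hcc
  have h1 : Subgroup.closure (Pset V τ m) ≤ Subgroup.centralizer ({c} : Set G) := by
    rw [Subgroup.closure_le]
    intro y hy
    rw [SetLike.mem_coe, Subgroup.mem_centralizer_singleton_iff]
    exact Subgroup.mem_centralizer_iff.mp hcc.2 y hy
  exact Subgroup.mem_centralizer_singleton_iff.mp (h1 hx)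

/-- `γ₄(B) ≤ γ₄(Q)` -/
theorem B_lcs : B.lowerCentralSeries 3 ≤ Q.lowerCentralSeries 3 := by
  obtain ⟨m, hm, hmv⟩ := h.moves
  intro b hb
  obtain ⟨x, hx, k, hk, rfl⟩ := Rk.lcs_mul (P := Subgroup.closure (Pset V τ m))
    (C := Q ⊓ Subgroup.centralizer (Pset V τ m)) (h.PC_comm hc hτ)
    (fun b hb => h.B_dec hc hτ hm hmv hb) 3 b hb
  rw [h.P_lcs hc hτ hm, Subgroup.mem_bot] at hx
  rw [hx, one_mul]
  exact Subgroup.lowerCentralSeries_mono 3 inf_le_left hk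

/-- powers of elements of `B` -/
theorem B_pow {p : ℕ} (hp : p.Prime) (hp2 : p ≠ 2) (hV : ∀ v ∈ V, v ^ p = 1) :
    ∀ b ∈ B, ∃ q ∈ Q, b ^ (p * p) = q ^ (p * p) := by
  obtain ⟨m, hm, hmv⟩ := h.moves
  intro b hb
  obtain ⟨x, hx, k, hk, rfl⟩ := h.B_dec hc hτ hm hmv hb
  refine ⟨k, hk.1, ?_⟩
  have : Commute x k := h.PC_comm hc hτ x hx k hk
  rw [this.mul_pow, pow_mul x, h.P_pow hc hτ hp hp2 hV hm hx, one_mul]

/-- `[V₋₁, Q] ≤ W` -/
theorem Y_Q {m : G} (hm : m ∈ L) (hmv : Mv D Z m) {v q : G} (hv : v ∈ V) (hq : q ∈ Q) :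
    cj (τ * m * τ) v * q * (cj (τ * m * τ) v)⁻¹ * q⁻¹ ∈ Wg A L V Z D := by
  obtain ⟨u, hu, k, hk, hk', rfl⟩ := h.Q_dec hc hτ hm hmv hq
  set y := cj (τ * m * τ) v with hy
  have hyB : y ∈ B := h.memB' hc le_rfl (h.word_mem hτ.1 hm hτ.1) hv
  set w := cj m (cj τ u) with hw
  have hwW : w ∈ Wg A L V Z D := mem_Wg hτ hm hu
  have h1 : y * w * y⁻¹ ∈ Wg A L V Z D := h.Wg_L (h.BL hyB) hwW
  -- `[y, k]`
  obtain ⟨f, hf, h2⟩ := h.Q_comm hc hτ hk' (cj m (cj τ v)) (mem_Wg hτ hm hv)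
  have h3 : k * y * k⁻¹ * y⁻¹ = cj τ f := by
    have h4 : cj (cj τ⁻¹ k) (cj m (cj τ v)) * (cj m (cj τ v))⁻¹ = f := by rw [h2]; group
    rw [← h4, hy]; simp [cj, mul_assoc]
  have h5 : y * k * y⁻¹ * k⁻¹ ∈ Wg A L V Z D := by
    have h6 : (k * y * k⁻¹ * y⁻¹)⁻¹ ∈ Wg A L V Z D := by
      rw [h3]
      exact inv_mem (V_le_Wg (h.DV (h.cr_DD hc hτ hf)))
    have e : (k * y * k⁻¹ * y⁻¹)⁻¹ = y * k * y⁻¹ * k⁻¹ := by group
    rwa [e] at h6
  have e : y * (w * k) * y⁻¹ * (w * k)⁻¹ = (y * w * y⁻¹ * w⁻¹) * (w * (y * k * y⁻¹ * k⁻¹) * w⁻¹) := by group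
  rw [e]
  exact mul_mem (mul_mem h1 (inv_mem hwW)) (mul_mem (mul_mem hwW h5) (inv_mem hwW))

theorem Y_B {m : G} (hm : m ∈ L) (hmv : Mv D Z m) {b : G} (hb : b ∈ B) :
    ∃ v ∈ V, ∃ q ∈ Q, b = cj (τ * m * τ) v * q :=
  h.crit_B hc (h.word_mem hτ.1 hm hτ.1) (h.crit_word hc hτ hm hmv) hb

/-- some element of `B` does not commute with a conjugate under `B` -/
theorem exists_nc : ∃ y ∈ B, ∃ b ∈ B, y * (b * y * b⁻¹) ≠ (b * y * b⁻¹) * y := by
  obtain ⟨m, hm, hmv⟩ := h.moves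
  obtain ⟨y, hy, hyZ⟩ := h.exists_notZ
  have h1 : ∃ x ∈ V, cj m (cj τ y) * cj τ x ≠ cj τ x * cj m (cj τ y) := by
    by_contra hcon
    push Not at hcon
    apply hyZ
    apply h.crit_Z hc (h.word_mem (A.inv_mem hτ.1) (L.inv_mem hm) hτ.1)
      (h.crit_tau hc hτ (L.inv_mem hm) (h.mvinv m hm hmv)) hy
    intro u hu
    have h2 := (cj_comm (g := τ⁻¹)).2 ((cj_comm (g := m⁻¹)).2 (hcon u hu))
    rw [cj_inv_cj, cj_inv_cj] at h2
    have e : cj τ⁻¹ (cj m⁻¹ (cj τ u)) = cj (τ⁻¹ * m⁻¹ * τ) u := by simp [cj, mul_assoc]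
    rw [e] at h2
    exact h2
  obtain ⟨x, hx, hne⟩ := h1
  obtain ⟨b, hb, h3⟩ := h.cover hc hτ hm hmv hy hyZ hx
  have hyW : cj m (cj τ y) ∈ Wg A L V Z D := mem_Wg hτ hm hy
  refine ⟨cj m (cj τ y), h.QB (h.Wg_le_Q hc hyW), b, hb, ?_⟩
  intro h4
  apply hne
  set y' := cj m (cj τ y)
  set c := (y' * cj τ x)⁻¹ * cj b y' with hcdef
  have k1 : Commute y' (cj b y') := h4
  have k2 : Commute y' c := (h.CT_central hc hτ h3 hyW).symm
  have e : cj τ x = y'⁻¹ * (cj b y' * c⁻¹) := by rw [hcdef]; group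
  rw [e]
  exact ((Commute.refl y').inv_right.mul_right (k1.mul_right k2.inv_right)).eq

end

end Dt

end Cfsg.Agent.H213.Amal
end

-- part: H213/AmalNs
section
/-!
# The amalgam argument of rank one pushing up: distance two, the non-splitting lemma
-/

set_option autoImplicit false
set_option linter.unusedSectionVars false

namespace Cfsg.Agent.H213.Amal

open Cfsg.Agent.MinSimple.PushUp
open Cfsg.Agent.Omega.PushUp (Mv Dm mem_Dm cj_mem_Dm mem_Dm' closure_left closure_cent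
  closure_comm closure_sq)

variable {G : Type*} [Group G]

variable {A L B Q V Z D : Subgroup G}

/-- the elements of `C~` fixed by `L` modulo elements fixed by `L` -/
def EE (A L V Z D : Subgroup G) (x : G) : Prop :=
  CT A L V Z D x ∧ ∀ l ∈ L, ∀ k ∈ L, cj k (cj l x * x⁻¹) = cj l x * x⁻¹

namespace Dt

variable (h : Dt A L B Q V Z D)

include h

section

variable [Finite G] (hc : ∀ m < 1, ∀ w ∈ W A L m, Com V w)
variable {τ : G} (hτ : Cr A L V Z D τ)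

include hτ hc

theorem exists_notQ : ∃ b ∈ B, b ∉ Q := by
  obtain ⟨m, hm, hmv⟩ := h.moves
  obtain ⟨v, hv, h1, h2⟩ := h.crit_elt hc (h.word_mem hτ.1 hm hτ.1) (h.crit_word hc hτ hm hmv)
  exact ⟨_, h1, h2⟩

/-- elements of `W` whose commutators with `B` are fixed by `L` -/
theorem star_dec (hD : ∀ d ∈ D, (∀ l ∈ L, cj l d = d) → d = 1)
    (hE : ∀ x, CT A L V Z D x → ∃ v ∈ V, ∃ e, EE A L V Z D e ∧ x = v * e)
    {y : G} (hy : y ∈ Wg A L V Z D) (hyB : ∀ b ∈ B, ∀ l ∈ L, cj l (cj b y * y⁻¹) = cj b y * y⁻¹) :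
    ∃ v ∈ V, ∃ e, EE A L V Z D e ∧ y = cj τ v * e := by
  obtain ⟨b₀, hb₀, hb₀Q⟩ := h.exists_notQ hc hτ
  have h1 : b₀ * y * b₀⁻¹ * y⁻¹ ∈ CTs h hc := by
    refine ⟨mul_mem (h.Wg_L (h.BL hb₀) hy) (inv_mem hy), fun l hl => ⟨1, V.one_mem, ?_⟩⟩
    rw [one_mul]
    exact hyB b₀ hb₀ l hl
  obtain ⟨v, hv, c, hcc, rfl⟩ := (h.mem_U1 hc hτ).mp (h.fix hc hτ hb₀ hb₀Q hy h1)
  obtain ⟨v₁, hv₁, e, he, rfl⟩ := hE c hcc
  have hvB : cj τ v ∈ B := h.QB (h.Wg_le_Q hc (mem_Wg' hτ hv))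
  have hvL := h.BL hvB
  have hkey : ∀ b ∈ B, b * v₁ = v₁ * b := by
    intro b hb
    obtain ⟨f, hf, h2⟩ := h.B_comm hτ hb hv
    obtain ⟨d, hd, h3⟩ := h.commB hv₁ hb
    have h4 := he.2 b (h.BL hb)
    set ζ := cj b e * e⁻¹ with hζ
    have h5 : cj b e = ζ * e := by rw [hζ]; group
    have h6 := hyB b hb
    have hζc : ∀ l ∈ L, l * ζ = ζ * l := fun l hl => cj_eq_self.1 (h4 l hl)
    have e1 : cj b (cj τ v * (v₁ * e)) * (cj τ v * (v₁ * e))⁻¹ = f * d * ζ := by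
      rw [cj_prod, cj_prod, h2, h3, h5]
      have k1 : v₁ * ζ = ζ * v₁ := hζc v₁ (h.BL (h.VB hv₁))
      have k2 : cj τ v * ζ = ζ * cj τ v := hζc _ hvL
      have k3 : cj τ v * d = d * cj τ v := h.BcZ _ hvB d (h.DZ hd)
      calc f * cj τ v * (d * v₁ * (ζ * e)) * (cj τ v * (v₁ * e))⁻¹
          = f * (cj τ v * d) * (v₁ * ζ) * v₁⁻¹ * (cj τ v)⁻¹ := by group
        _ = f * d * (cj τ v * ζ) * (cj τ v)⁻¹ := by rw [k3, k1]; group
        _ = f * d * ζ := by rw [k2]; group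
    rw [e1] at h6
    have hd1 : d = 1 := by
      apply hD d hd
      intro l hl
      have h7 := h6 l hl
      have h8 : cj l f = f := h.F_L hc hτ hf hl
      rw [cj_prod, cj_prod, h8, h4 l hl] at h7
      exact mul_left_cancel (mul_right_cancel h7)
    rw [hd1, one_mul] at h3
    exact cj_eq_self.1 h3
  have hv₁Z : v₁ ∈ Z := by
    by_contra hne
    exact h.ncomm v₁ hv₁ hne b₀ hb₀ hb₀Q (hkey b₀ hb₀).symm
  have hv₁' : cj τ⁻¹ v₁ ∈ Z := h.cjZ (A.inv_mem hτ.1) hv₁Z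
  refine ⟨v * cj τ⁻¹ v₁, V.mul_mem hv (h.ZV hv₁'), e, he, ?_⟩
  rw [cj_prod, cj_cj_inv, mul_assoc]

/-- **The non-splitting lemma.** -/
theorem not_split (hD : ∀ d ∈ D, (∀ l ∈ L, cj l d = d) → d = 1)
    (hE : ∀ x, CT A L V Z D x → ∃ v ∈ V, ∃ e, EE A L V Z D e ∧ x = v * e)
    (hY : ∀ x ∈ Wg A L V Z D, ∀ b ∈ B, ∀ b' ∈ B, ∀ l ∈ L,
      cj l (cj b' (cj b x * x⁻¹) * (cj b x * x⁻¹)⁻¹) = cj b' (cj b x * x⁻¹) * (cj b x * x⁻¹)⁻¹) :
    False := by
  have hτ' := h.cr_inv hc hτ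
  obtain ⟨m, hm, hmv⟩ := h.moves
  obtain ⟨u, hu, huZ⟩ := h.exists_notZ
  obtain ⟨b₀, hb₀, hb₀Q⟩ := h.exists_notQ hc hτ
  obtain ⟨v, hv, q, hq, hb₀'⟩ := h.Y_B hc hτ hm hmv hb₀
  have hbB : cj (τ * m * τ) v ∈ B := h.memB' hc le_rfl (h.word_mem hτ.1 hm hτ.1) hv
  have hbQ : cj (τ * m * τ) v ∉ Q := by
    intro h1
    apply hb₀Q
    rw [hb₀']
    exact Q.mul_mem h1 hq
  set b := cj (τ * m * τ) v with hb
  set y' := cj m (cj τ u) with hy'
  have hyW : y' ∈ Wg A L V Z D := mem_Wg hτ hm hu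
  have hyB : y' ∈ B := h.QB (h.Wg_le_Q hc hyW)
  have hxW : cj b y' * y'⁻¹ ∈ Wg A L V Z D := mul_mem (h.Wg_L (h.BL hbB) hyW) (inv_mem hyW)
  obtain ⟨v₀, hv₀, e, he, h1⟩ := h.star_dec hc hτ hD hE hxW (hY y' hyW b hbB)
  -- the other side
  set w := cj m (cj τ v) with hw
  have hwW : w ∈ Wg A L V Z D := mem_Wg hτ hm hv
  have hb₂ : cj τ⁻¹ y' ∈ B := h.cjB (A.inv_mem hτ.1) hyB
  have hxW' : cj (cj τ⁻¹ y') w * w⁻¹ ∈ Wg A L V Z D := mul_mem (h.Wg_L (h.BL hb₂) hwW) (inv_mem hwW)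
  obtain ⟨v₁, hv₁, e', he', h2⟩ := h.star_dec hc hτ' hD hE hxW' (hY w hwW _ hb₂)
  have h3 : cj b y' * y'⁻¹ = (v₁ * cj τ e')⁻¹ := by
    have h4 : cj b y' * y'⁻¹ = (cj τ (cj (cj τ⁻¹ y') w * w⁻¹))⁻¹ := by
      rw [hb, hw]; simp [cj, mul_assoc]
    rw [h4, h2, cj_prod, cj_cj_inv]
  -- `cj τ e'` lies in `Q`
  have hεB : cj τ e' ∈ B := h.cjB hτ.1 (h.QB (h.Wg_le_Q hc he'.1.1))
  have hεQ : cj τ e' ∈ Q := by
    apply h.QcV _ hεB
    intro x hx
    have h5 := h.CT_comm hc hτ' he'.1 hx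
    have h6 := (cj_comm (g := τ)).2 h5
    rwa [cj_cj_inv] at h6
  have hv₀Z : v₀ ∈ Z := by
    apply h.crit_Z hc (h.word_mem (A.inv_mem hτ.1) hm hτ.1) (h.crit_tau hc hτ hm hmv) hv₀
    intro x hx
    set y'' := cj m (cj τ x) with hy''
    have hy''W : y'' ∈ Wg A L V Z D := mem_Wg hτ hm hx
    have hy''Q := h.Wg_le_Q hc hy''W
    have k1 : Commute v₁ y'' := (h.VcQ y'' hy''Q v₁ hv₁).symm
    have k2 : Commute e y'' := h.CT_central hc hτ he.1 hy''W
    have k3 : Commute (cj τ e') y'' := by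
      obtain ⟨f, hf, h5⟩ := h.Q_comm hc hτ hεQ y'' hy''W
      obtain ⟨d, hd, rfl⟩ := mem_Dm' hf
      have hb₃ : cj τ⁻¹ y'' ∈ B := h.cjB (A.inv_mem hτ.1) (h.QB hy''Q)
      have h6 := he'.2 _ (h.BL hb₃)
      have h7 : cj (cj τ⁻¹ y'') e' * e'⁻¹ = d⁻¹ := by
        have h8 : cj (cj τ e') y'' * y''⁻¹ = cj τ d := by rw [h5]; group
        have h9 : cj (cj τ⁻¹ y'') e' * e'⁻¹ = (cj τ⁻¹ (cj (cj τ e') y'' * y''⁻¹))⁻¹ := by
          simp [cj, mul_assoc]
        rw [h9, h8, cj_inv_cj]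
      rw [h7] at h6
      have hd1 : d = 1 := by
        apply hD d hd
        intro l hl
        have := h6 l hl
        rw [cj_inv] at this
        exact inv_injective this
      rw [hd1] at h5
      have : cj τ (1 : G) = 1 := by simp [cj]
      rw [this, one_mul] at h5
      exact cj_eq_self.1 h5
    have h4 : cj τ v₀ = (v₁ * cj τ e')⁻¹ * e⁻¹ := by
      rw [← h3, h1]; group
    have k4 : Commute (cj τ v₀) y'' := by
      rw [h4]
      exact (k1.mul_left k3).inv_left.mul_left k2.inv_left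
    have k5 := (cj_comm (g := τ⁻¹)).2 k4.eq
    rw [cj_inv_cj] at k5
    have e3 : cj τ⁻¹ y'' = cj (τ⁻¹ * m * τ) x := by rw [hy'']; simp [cj, mul_assoc]
    rw [e3] at k5
    exact k5
  have h4 : CT A L V Z D (cj b y' * y'⁻¹) := by
    rw [h1]
    exact h.CT_mul hc (h.CT_V (h.ZV (h.cjZ hτ.1 hv₀Z))) he.1
  apply huZ
  apply h.fix_key hc hτ hm hmv hu hbB hbQ
  have h5 := h.CT_central hc hτ h4 hyW
  have h6 : (cj m (cj τ u))⁻¹ * cj b (cj m (cj τ u)) = cj b y' * y'⁻¹ := by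
    change y'⁻¹ * cj b y' = _
    rw [inv_mul_eq_iff_eq_mul, ← h5, inv_mul_cancel_right]
  rw [h6]
  exact h4

end

end Dt

end Cfsg.Agent.H213.Amal
end

-- part: H213/One
section
/-!
# Rank one pushing up: distance one
-/

set_option autoImplicit false
set_option linter.unusedSectionVars false

namespace Cfsg.Agent.H213.Rk

open Subgroup Cfsg.Agent.H260.Push
open scoped commutatorElement

variable {G : Type*} [Group G]

/-- the image of `H ≤ S` under an automorphism of `S` -/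
def im {S : Subgroup G} (α : S ≃* S) (H : Subgroup G) : Subgroup G :=
  ((H.subgroupOf S).map α.toMonoidHom).map S.subtype

theorem mem_im {S : Subgroup G} {α : S ≃* S} {H : Subgroup G} {x : G} :
    x ∈ im α H ↔ ∃ h : S, (h : G) ∈ H ∧ ((α h : S) : G) = x := by
  constructor
  · rintro ⟨_, ⟨h, hh, rfl⟩, rfl⟩
    exact ⟨h, hh, rfl⟩
  · rintro ⟨h, hh, rfl⟩
    exact ⟨_, ⟨h, hh, rfl⟩, rfl⟩

theorem im_le {S : Subgroup G} {α : S ≃* S} {H : Subgroup G} : im α H ≤ S := by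
  intro x hx
  obtain ⟨h, -, rfl⟩ := mem_im.mp hx
  exact (α h).2

theorem im_mono {S : Subgroup G} {α : S ≃* S} {H K : Subgroup G} (h : H ≤ K) : im α H ≤ im α K := by
  intro x hx
  obtain ⟨a, ha, rfl⟩ := mem_im.mp hx
  exact mem_im.mpr ⟨a, h ha, rfl⟩

theorem card_im [Finite G] {S : Subgroup G} (α : S ≃* S) {H : Subgroup G} (hH : H ≤ S) :
    Nat.card (im α H) = Nat.card H := by
  unfold im
  rw [card_map_sub]
  have h2 : Nat.card ((H.subgroupOf S).map α.toMonoidHom) = Nat.card (H.subgroupOf S) :=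
    (Nat.card_congr ((H.subgroupOf S).equivMapOfInjective α.toMonoidHom α.injective).toEquiv).symm
  rw [h2, Nat.card_congr (Subgroup.subgroupOfEquivOfLe hH).toEquiv]

/-- conjugation by an element normalising the image of `S` is an automorphism of `S` -/
theorem exists_aut {X : Type*} [Group X] (φ : G →* X) (hφ : Function.Injective φ) {S : Subgroup G} {t : X}
    (ht : t ∈ normalizer ((S.map φ : Subgroup X) : Set X)) :
    ∃ α : S ≃* S, ∀ s : S, φ (α s) = t * φ s * t⁻¹ := by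
  have h1 : (S.map φ).map (MulAut.conj t).toMonoidHom = S.map φ := by
    have := (cj_eq_iff_mem_normalizer (g := t) (H := S.map φ)).mpr ht
    exact this
  let e : S ≃* S.map φ := S.equivMapOfInjective φ hφ
  let α : S ≃* S := ((e.trans ((S.map φ).equivMapOfInjective _ (MulAut.conj t).injective)).trans
    (MulEquiv.subgroupCongr h1)).trans e.symm
  refine ⟨α, fun s => ?_⟩
  have h2 : e (α s) = (MulEquiv.subgroupCongr h1)
    (((S.map φ).equivMapOfInjective _ (MulAut.conj t).injective) (e s)) :=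
    e.apply_symm_apply _
  exact congrArg Subtype.val h2

/-- distance one -/
structure One (S T : Subgroup G) (α : S ≃* S) : Prop where
  d1 : ∀ s ∈ S, ∃ v ∈ im α (cen T), ∃ t ∈ T, s = v * t
  d2 : ∀ s ∈ S, ∃ v ∈ cen T, ∃ t ∈ im α T, s = v * t
  nc : ∃ v ∈ cen T, ∃ u ∈ im α (cen T), v * u ≠ u * v
  z : ∀ v ∈ cen T, (∀ u ∈ im α (cen T), v * u = u * v) → v ∈ cen S
  z' : ∀ v ∈ im α (cen T), (∀ u ∈ cen T, v * u = u * v) → v ∈ cen S
  D : im α (comD S T) = comD S T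

section

variable [Finite G] {p q : ℕ} [Fact p.Prime] {S T M : Subgroup G}

open Cfsg.Agent.MinSimple.PushUp (W Com)

theorem exists_one (c : Core p q S T M) {X : Type*} [Group X] [Finite X] (φ : G →* X)
    (hφ : Function.Injective φ) {A : Subgroup X}
    (hAn : A = normalizer ((S.map φ : Subgroup X) : Set X))
    (d : Amal.Dt A φ.range (S.map φ) (T.map φ) ((cen T).map φ) ((cen S).map φ) ((comD S T).map φ))
    (n : Core.Nat' p q S T M)
    (h : ∃ t ∈ A, ∃ v ∈ (cen T).map φ, ∃ u ∈ (cen T).map φ, v * (t * u * t⁻¹) ≠ (t * u * t⁻¹) * v) :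
    ∃ α : S ≃* S, One S T α := by
  obtain ⟨t, ht, v, hv, u, hu, hne⟩ := h
  obtain ⟨α, hα⟩ := exists_aut φ hφ (hAn ▸ ht)
  have hne' : u * (t⁻¹ * v * t⁻¹⁻¹) ≠ (t⁻¹ * v * t⁻¹⁻¹) * u := by
    intro h1
    apply hne
    have h2 : t * (u * (t⁻¹ * v * t⁻¹⁻¹)) * t⁻¹ = t * ((t⁻¹ * v * t⁻¹⁻¹) * u) * t⁻¹ := by rw [h1]
    have e1 : t * (u * (t⁻¹ * v * t⁻¹⁻¹)) * t⁻¹ = t * u * t⁻¹ * v := by group
    have e2 : t * ((t⁻¹ * v * t⁻¹⁻¹) * u) * t⁻¹ = v * (t * u * t⁻¹) := by group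
    rw [e1, e2] at h2
    exact h2.symm
  have ht' := A.inv_mem ht
  have hVS : cen T ≤ S := (cen_le T).trans c.le
  have hmemi : ∀ (H : Subgroup G), H ≤ S → ∀ z ∈ H.map φ, ∃ w ∈ im α H, φ w = t * z * t⁻¹ := by
    rintro H hH _ ⟨z, hz, rfl⟩
    exact ⟨α ⟨z, hH hz⟩, mem_im.mpr ⟨_, hz, rfl⟩, hα ⟨z, hH hz⟩⟩
  have himm : ∀ (H : Subgroup G), ∀ w ∈ im α H, ∃ z ∈ H.map φ, φ w = t * z * t⁻¹ := by
    intro H w hw
    obtain ⟨z, hz, rfl⟩ := mem_im.mp hw
    exact ⟨φ z, Subgroup.mem_map_of_mem φ hz, hα z⟩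
  refine ⟨α, ?_, ?_, ?_, ?_, ?_, ?_⟩
  · intro s hs
    obtain ⟨v', hv', w, ⟨k, hk, rfl⟩, h1⟩ := d.noncomm_B ht hv hu hne (Subgroup.mem_map_of_mem φ hs)
    obtain ⟨v'', hv'', h2⟩ := hmemi _ hVS v' hv'
    refine ⟨v'', hv'', k, hk, ?_⟩
    apply hφ
    rw [h1, map_mul, h2]
  · intro s hs
    obtain ⟨s', hs', hss⟩ : ∃ s' ∈ S, φ s' = t⁻¹ * φ s * t := by
      obtain ⟨s', hs'⟩ := α.surjective ⟨s, hs⟩
      refine ⟨s', s'.2, ?_⟩
      have h1 := hα s'
      rw [hs'] at h1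
      have h2 : φ s = t * φ s' * t⁻¹ := h1
      rw [h2]; group
    obtain ⟨v', ⟨v'', hv'', rfl⟩, w, hw, h1⟩ := d.noncomm_B ht' hu hv hne' (Subgroup.mem_map_of_mem φ hs')
    obtain ⟨w', hw', h2⟩ := hmemi _ c.le w hw
    refine ⟨v'', hv'', w', hw', ?_⟩
    apply hφ
    rw [map_mul, h2]
    rw [hss] at h1
    have h3 : φ s = t * (t⁻¹ * φ s * t) * t⁻¹ := by group
    rw [h3, h1]; group
  · obtain ⟨v', hv', rfl⟩ := hv
    obtain ⟨u', hu', h2⟩ := hmemi _ hVS u hu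
    refine ⟨v', hv', u', hu', ?_⟩
    intro h1
    apply hne
    rw [← h2, ← map_mul, h1, map_mul]
  · intro v' hv' h1
    have h2 := d.noncomm_Z ht hv hu hne (Subgroup.mem_map_of_mem φ hv') (by
      intro w hw
      obtain ⟨w', hw', h2⟩ := hmemi _ hVS w hw
      rw [← h2, ← map_mul, h1 w' hw', map_mul])
    exact (Subgroup.mem_map_iff_mem hφ).mp h2
  · intro v' hv' h1
    obtain ⟨z, hz, h2⟩ := himm _ v' hv'
    have h3 := d.noncomm_Z ht' hu hv hne' hz (by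
      rintro _ ⟨w, hw, rfl⟩
      have h4 := congrArg φ (h1 w hw)
      rw [map_mul, map_mul, h2] at h4
      have h5 := congrArg (fun y => t⁻¹ * y * t) h4
      have e1 : t⁻¹ * (t * z * t⁻¹ * φ w) * t = z * (t⁻¹ * φ w * t⁻¹⁻¹) := by group
      have e2 : t⁻¹ * (φ w * (t * z * t⁻¹)) * t = (t⁻¹ * φ w * t⁻¹⁻¹) * z := by group
      simp only [e1, e2] at h5
      exact h5)
    have h4 : φ v' ∈ (cen S).map φ := by
      rw [h2]
      exact d.AnZ t ht z h3
    exact (Subgroup.mem_map_iff_mem hφ).mp h4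
  · have hDS : comD S T ≤ S := (comD_le n).trans (cen_le S)
    apply Cfsg.Agent.H260.Push.eq_of_le_of_card_le
    · intro w hw
      obtain ⟨z, hz, h1⟩ := himm _ w hw
      have h2 := d.noncomm_D ht hv hu hne hz
      rw [← h1] at h2
      exact (Subgroup.mem_map_iff_mem hφ).mp h2
    · rw [card_im α hDS]

end

namespace One

variable [Finite G] {p q : ℕ} [Fact p.Prime] {S T M : Subgroup G} {α : S ≃* S} (o : One S T α)
  (c : Core p q S T M)
include o c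

theorem V'_normal {s x : G} (hs : s ∈ S) (hx : x ∈ im α (cen T)) : s * x * s⁻¹ ∈ im α (cen T) := by
  obtain ⟨h, hh, rfl⟩ := mem_im.mp hx
  obtain ⟨s', hs'⟩ := α.surjective ⟨s, hs⟩
  refine mem_im.mpr ⟨s' * h * s'⁻¹, c.normX.conj_mem _ hh _, ?_⟩
  rw [map_mul, map_mul, map_inv, hs']
  rfl

theorem T'_normal {s x : G} (hs : s ∈ S) (hx : x ∈ im α T) : s * x * s⁻¹ ∈ im α T := by
  obtain ⟨h, hh, rfl⟩ := mem_im.mp hx
  obtain ⟨s', hs'⟩ := α.surjective ⟨s, hs⟩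
  refine mem_im.mpr ⟨s' * h * s'⁻¹, c.normT.conj_mem _ hh _, ?_⟩
  rw [map_mul, map_mul, map_inv, hs']
  rfl

theorem comm' {v t : G} (hv : v ∈ im α (cen T)) (ht : t ∈ im α T) : t * v = v * t := by
  obtain ⟨v, hv1, rfl⟩ := mem_im.mp hv
  obtain ⟨t, ht1, rfl⟩ := mem_im.mp ht
  have h1 : t * v = v * t := Subtype.ext (cen_comm hv1 ht1)
  have h2 := congrArg (fun z => ((α z : S) : G)) h1
  simp only [map_mul] at h2
  exact h2

/-- the decomposition of `S` -/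
theorem dec {s : G} (hs : s ∈ S) : ∃ v' ∈ im α (cen T), ∃ v ∈ cen T, ∃ k ∈ T ⊓ im α T, s = v' * v * k := by
  obtain ⟨v', hv', t, ht, rfl⟩ := o.d1 s hs
  obtain ⟨v, hv, t', ht', rfl⟩ := o.d2 t (c.le ht)
  refine ⟨v', hv', v, hv, t', ⟨?_, ht'⟩, by rw [mul_assoc]⟩
  have := T.mul_mem (T.inv_mem (cen_le T hv)) ht
  rwa [inv_mul_cancel_left] at this

theorem decT {t : G} (ht : t ∈ T) : ∃ v ∈ cen T, ∃ k ∈ T ⊓ im α T, t = v * k := by
  obtain ⟨v, hv, t', ht', rfl⟩ := o.d2 t (c.le ht)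
  refine ⟨v, hv, t', ⟨?_, ht'⟩, rfl⟩
  have := T.mul_mem (T.inv_mem (cen_le T hv)) ht
  rwa [inv_mul_cancel_left] at this

/-- `[V, V']` is central in `S` -/
theorem comm_mem {v u : G} (hv : v ∈ cen T) (hu : u ∈ im α (cen T)) : v * u * v⁻¹ * u⁻¹ ∈ cen S := by
  have hvS : v ∈ S := c.le (cen_le T hv)
  have huS : u ∈ S := im_le hu
  have h1 : v * u * v⁻¹ * u⁻¹ ∈ im α (cen T) :=
    (im α (cen T)).mul_mem (o.V'_normal c hvS hu) ((im α (cen T)).inv_mem hu)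
  apply o.z' _ h1
  have h2 : v * u * v⁻¹ * u⁻¹ ∈ cen T := by
    have := (cen T).mul_mem hv (c.normX.conj_mem _ ((cen T).inv_mem hv) u)
    have e : v * (u * v⁻¹ * u⁻¹) = v * u * v⁻¹ * u⁻¹ := by group
    rwa [e] at this
  intro w hw
  exact c.cenT_comm h2 hw

/-- `V V'` -/
theorem dec_comm {x k : G} (hx : x ∈ im α (cen T) ⊔ cen T) (hk : k ∈ T ⊓ im α T) : x * k = k * x := by
  have h1 : im α (cen T) ⊔ cen T ≤ centralizer ({k} : Set G) := by
    apply sup_le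
    · intro v hv
      rw [mem_centralizer_singleton_iff]
      exact (o.comm' c hv hk.2).symm
    · intro v hv
      rw [mem_centralizer_singleton_iff]
      exact (cen_comm hv hk.1).symm
  exact mem_centralizer_singleton_iff.mp (h1 hx)

theorem dec' {s : G} (hs : s ∈ S) :
    ∃ x ∈ im α (cen T) ⊔ cen T, ∃ k ∈ T ⊓ im α T, s = x * k := by
  obtain ⟨v', hv', v, hv, k, hk, rfl⟩ := o.dec c hs
  exact ⟨v' * v, mul_mem (mem_sup_left hv') (mem_sup_right hv), k, hk, rfl⟩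

theorem mem_P {x : G} (hx : x ∈ im α (cen T) ⊔ cen T) : ∃ v' ∈ im α (cen T), ∃ v ∈ cen T, x = v' * v := by
  have hn := c.normX
  have h1 : x ∈ ((im α (cen T) ⊔ cen T : Subgroup G) : Set G) := hx
  rw [Subgroup.mul_normal] at h1
  obtain ⟨a, ha, b, hb, rfl⟩ := h1
  exact ⟨a, ha, b, hb, rfl⟩

/-- `γ₂(V V')` is central -/
theorem lcs_P_one : (im α (cen T) ⊔ cen T).lowerCentralSeries 1 ≤ cen S := by
  rw [Subgroup.lowerCentralSeries_succ, Subgroup.lowerCentralSeries_zero, commutator_le]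
  intro a ha b hb
  obtain ⟨v', hv', v, hv, rfl⟩ := o.mem_P c ha
  obtain ⟨u', hu', u, hu, rfl⟩ := o.mem_P c hb
  -- `[v' v, u' u]`
  have h1 := o.comm_mem c hv hu'
  have h2 := o.comm_mem c hu hv'
  have hz : ∀ z ∈ cen S, ∀ s ∈ S, s * z = z * s := fun z hz s hs => cen_comm hz hs
  have k1 : v' * u' = u' * v' := o.comm' c hu' (im_mono (cen_le T) hv')
  have k2 : v * u = u * v := c.cenT_comm hv hu
  have hvS : v ∈ S := c.le (cen_le T hv)
  have huS : u ∈ S := c.le (cen_le T hu)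
  have hv'S : v' ∈ S := im_le hv'
  have hu'S : u' ∈ S := im_le hu'
  -- write `v * u' = z₁ * u' * v`, `u * v' = z₂ * v' * u`
  set z₁ := v * u' * v⁻¹ * u'⁻¹ with hz₁
  set z₂ := u * v' * u⁻¹ * v'⁻¹ with hz₂
  have e1 : v * u' = z₁ * (u' * v) := by rw [hz₁]; group
  have e2 : u * v' = z₂ * (v' * u) := by rw [hz₂]; group
  have e3 : (v' * v) * (u' * u) = z₁ * (v' * u' * v * u) := by
    calc (v' * v) * (u' * u) = v' * (v * u') * u := by group
      _ = (v' * z₁) * (u' * v) * u := by rw [e1]; group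
      _ = z₁ * (v' * u' * v * u) := by rw [hz z₁ h1 v' hv'S]; group
  have e4 : (u' * u) * (v' * v) = z₂ * (v' * u' * v * u) := by
    calc (u' * u) * (v' * v) = u' * (u * v') * v := by group
      _ = (u' * z₂) * (v' * u) * v := by rw [e2]; group
      _ = z₂ * ((u' * v') * (u * v)) := by rw [hz z₂ h2 u' hu'S]; group
      _ = z₂ * (v' * u' * v * u) := by rw [← k1, ← k2]; group
  have e5 : ⁅v' * v, u' * u⁆ = z₁ * z₂⁻¹ := by
    have : ⁅v' * v, u' * u⁆ = (v' * v) * (u' * u) * ((u' * u) * (v' * v))⁻¹ := by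
      rw [commutatorElement_def]; group
    rw [this, e3, e4]; group
  rw [e5]
  exact mul_mem h1 (inv_mem h2)

theorem lcs_P_two : (im α (cen T) ⊔ cen T).lowerCentralSeries 2 = ⊥ := by
  rw [Subgroup.lowerCentralSeries_succ, eq_bot_iff, commutator_le]
  intro a ha b hb
  have h1 := o.lcs_P_one c ha
  have h2 : b ∈ S := (sup_le im_le ((cen_le T).trans c.le) : im α (cen T) ⊔ cen T ≤ S) hb
  rw [Subgroup.mem_bot, commutatorElement_eq_one_iff_mul_comm]
  exact (cen_comm h1 h2).symm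

/-- `S` has class two -/
theorem lcs_two (hchar : ∀ H : Subgroup G, H ≤ S → (∀ α : S ≃* S, ∀ s : S, (s : G) ∈ H → ((α s : S) : G) ∈ H) →
      H.Normal → H = ⊥) : S.lowerCentralSeries 2 = ⊥ := by
  apply collapse_lcs c hchar
  intro s hs
  obtain ⟨x, hx, k, hk, rfl⟩ := lcs_mul (P := im α (cen T) ⊔ cen T) (C := T ⊓ im α T)
    (fun x hx k hk => o.dec_comm c hx hk) (fun s hs => o.dec' c hs) 2 s hs
  rw [o.lcs_P_two c, Subgroup.mem_bot] at hx
  rw [hx, one_mul]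
  exact Subgroup.lowerCentralSeries_mono 2 inf_le_left hk

theorem lcs_one : S.lowerCentralSeries 1 ≠ ⊥ := by
  intro h
  obtain ⟨v, hv, u, hu, hne⟩ := o.nc
  apply hne
  have h1 : ⁅v, u⁆ ∈ S.lowerCentralSeries 1 := by
    rw [Subgroup.lowerCentralSeries_succ]
    exact commutator_mem_commutator (c.le (cen_le T hv)) (im_le hu)
  rw [h, Subgroup.mem_bot, commutatorElement_eq_one_iff_mul_comm] at h1
  exact h1

theorem exp_P (hV : ∀ x ∈ cen T, x ^ p = 1) {x : G} (hx : x ∈ im α (cen T) ⊔ cen T) :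
    (p ≠ 2 → x ^ p = 1) ∧ (p = 2 → x ^ 4 = 1) := by
  obtain ⟨v', hv', v, hv, rfl⟩ := o.mem_P c hx
  have h1 := o.comm_mem c hv hv'
  have hv'p : v' ^ p = 1 := by
    obtain ⟨w, hw, rfl⟩ := mem_im.mp hv'
    have h2 : w ^ p = 1 := Subtype.ext (hV _ hw)
    have h3 := congrArg (fun z => ((α z : S) : G)) h2
    simp only [map_pow, map_one] at h3
    exact h3
  have hvp := hV v hv
  set z := v * v' * v⁻¹ * v'⁻¹ with hz
  have hzv : Commute v z := cen_comm h1 (c.le (cen_le T hv))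
  have hzv' : Commute v' z := cen_comm h1 (im_le hv')
  have e1 : v * v' = z * (v' * v) := by rw [hz]; group
  have hzp : z ^ p = 1 := hV z (c.Zs_le h1)
  -- `(v' v)^n = v'^n v^n z^(n(n-1)/2)`
  have e2 : ∀ n : ℕ, v ^ n * v' = z ^ n * (v' * v ^ n) := by
    intro n
    induction n with
    | zero => simp
    | succ n ih =>
      calc v ^ (n + 1) * v' = v * (v ^ n * v') := by rw [pow_succ']; group
        _ = (v * z ^ n) * v' * v ^ n := by rw [ih]; group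
        _ = z ^ n * (v * v') * v ^ n := by rw [(hzv.pow_right n).eq]; group
        _ = z ^ n * z * (v' * (v * v ^ n)) := by rw [e1]; group
        _ = z ^ (n + 1) * (v' * v ^ (n + 1)) := by rw [pow_succ z, pow_succ' v]
  have e3 : ∀ n : ℕ, (v' * v) ^ n = v' ^ n * v ^ n * z ^ (n * (n - 1) / 2) := by
    intro n
    induction n with
    | zero => simp
    | succ n ih =>
      have hzz : Commute (z ^ (n * (n - 1) / 2)) (v' * v) := (hzv'.symm.mul_right hzv.symm).pow_left _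
      have hn : n * (n - 1) / 2 + n = (n + 1) * (n + 1 - 1) / 2 := by
        rcases n with _ | n
        · simp
        · have h4 : (n + 1 + 1) * (n + 1 + 1 - 1) = (n + 1) * (n + 1 - 1) + (n + 1) * 2 := by
            simp only [Nat.add_sub_cancel]; ring
          rw [h4, Nat.add_mul_div_right _ _ (by norm_num)]
      calc (v' * v) ^ (n + 1) = (v' ^ n * v ^ n * z ^ (n * (n - 1) / 2)) * (v' * v) := by rw [pow_succ, ih]
        _ = v' ^ n * v ^ n * (z ^ (n * (n - 1) / 2) * (v' * v)) := by group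
        _ = v' ^ n * (v ^ n * v') * v * z ^ (n * (n - 1) / 2) := by rw [hzz.eq]; group
        _ = (v' ^ n * z ^ n) * (v' * v ^ n) * v * z ^ (n * (n - 1) / 2) := by rw [e2]; group
        _ = z ^ n * (v' ^ n * v' * (v ^ n * v)) * z ^ (n * (n - 1) / 2) := by
            rw [((hzv'.pow_left n).pow_right n).eq]; group
        _ = (z ^ n * (v' ^ (n + 1) * v ^ (n + 1))) * z ^ (n * (n - 1) / 2) := by rw [← pow_succ, ← pow_succ]
        _ = (v' ^ (n + 1) * v ^ (n + 1)) * z ^ n * z ^ (n * (n - 1) / 2) := by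
            have : Commute (z ^ n) (v' ^ (n + 1) * v ^ (n + 1)) :=
              ((hzv'.symm.pow_right _).mul_right (hzv.symm.pow_right _)).pow_left n
            rw [this.eq]
        _ = v' ^ (n + 1) * v ^ (n + 1) * z ^ (n * (n - 1) / 2 + n) := by rw [add_comm, pow_add]; group
        _ = _ := by rw [hn]
  constructor
  · intro hp2
    rw [e3, hv'p, hvp, one_mul, one_mul]
    have hodd : Odd p := (Fact.out : p.Prime).odd_of_ne_two hp2
    obtain ⟨m, hm⟩ := hodd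
    have h4 : p * (p - 1) / 2 = p * m := by
      rw [hm]
      have : (2 * m + 1) * (2 * m + 1 - 1) = ((2 * m + 1) * m) * 2 := by
        simp only [Nat.add_sub_cancel]; ring
      rw [this]
      exact Nat.mul_div_cancel _ (by norm_num)
    rw [h4, pow_mul, hzp, one_pow]
  · intro hp2
    rw [hp2] at hv'p hvp hzp
    have h4 : (v' * v) ^ 4 = ((v' * v) ^ 2) ^ 2 := by rw [← pow_mul]
    have h5 := e3 2
    norm_num at h5
    rw [h4, h5, hv'p, hvp, one_mul, one_mul, hzp]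

/-- the exponent of `S` -/
theorem expo (hV : ∀ x ∈ cen T, x ^ p = 1)
    (hchar : ∀ H : Subgroup G, H ≤ S → (∀ α : S ≃* S, ∀ s : S, (s : G) ∈ H → ((α s : S) : G) ∈ H) →
      H.Normal → H = ⊥) :
    (p ≠ 2 → ∀ s ∈ S, s ^ p = 1) ∧ (p = 2 → ∀ s ∈ S, s ^ 4 = 1) := by
  constructor
  · intro hp2
    apply collapse_pow c hchar
    intro s hs
    obtain ⟨x, hx, k, hk, rfl⟩ := o.dec' c hs
    refine ⟨k, hk.1, ?_⟩
    have : Commute x k := o.dec_comm c hx hk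
    rw [this.mul_pow, (o.exp_P c hV hx).1 hp2, one_mul]
  · intro hp2
    apply collapse_pow c hchar
    intro s hs
    obtain ⟨x, hx, k, hk, rfl⟩ := o.dec' c hs
    refine ⟨k, hk.1, ?_⟩
    have : Commute x k := o.dec_comm c hx hk
    rw [this.mul_pow, (o.exp_P c hV hx).2 hp2, one_mul]

/-- `[V', T] ≤ V` -/
theorem comm_T {y t : G} (hy : y ∈ im α (cen T)) (ht : t ∈ T) : y * t * y⁻¹ * t⁻¹ ∈ cen T := by
  obtain ⟨v, hv, k, hk, rfl⟩ := o.decT c ht
  have h1 : k * y = y * k := o.comm' c hy hk.2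
  have h2 : k * y⁻¹ = y⁻¹ * k := by
    have : Commute k y := h1
    exact this.inv_right.eq
  have e : y * (v * k) * y⁻¹ * (v * k)⁻¹ = (y * v * y⁻¹) * v⁻¹ := by
    calc y * (v * k) * y⁻¹ * (v * k)⁻¹ = y * v * (k * y⁻¹) * k⁻¹ * v⁻¹ := by group
      _ = y * v * (y⁻¹ * k) * k⁻¹ * v⁻¹ := by rw [h2]
      _ = _ := by group
  rw [e]
  exact mul_mem (c.normX.conj_mem v hv y) (inv_mem hv)

theorem S_le : S ≤ im α (cen T) ⊔ T := by
  intro s hs
  obtain ⟨v, hv, t, ht, rfl⟩ := o.d1 s hs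
  exact mul_mem (mem_sup_left hv) (mem_sup_right ht)

end One

end Cfsg.Agent.H213.Rk
end

-- part: H213/Chain
section
/-!
# Rank one pushing up: chains of normal subgroups
-/

set_option autoImplicit false
set_option linter.unusedSectionVars false

namespace Cfsg.Agent.H213.Rk

open Subgroup Cfsg.Agent.H260.Push Matrix
open scoped commutatorElement

variable {G : Type*} [Group G]

section

variable [Finite G] {p q : ℕ} [hp : Fact p.Prime] {S T M : Subgroup G}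

/-- a chief factor which crosses a section on which `R` acts trivially is central -/
theorem cross (c : Core p q S T M) {R A C U W : Subgroup G} (h : R ⊔ T = ⊤)
    (hch : Cfsg.IsChiefFactor A C) (hAT : A ≤ T) (hU : U.Normal)
    (hR : ∀ r ∈ R, ∀ t ∈ U, r * t * r⁻¹ * t⁻¹ ∈ W) (h1 : A ⊓ W ≤ C) (h2 : ¬ A ⊓ U ≤ C) :
    ⁅A, (⊤ : Subgroup G)⁆ ≤ C := by
  apply chief_central c h hch hAT
  obtain ⟨hlt, hAn, hCn, hmin⟩ := hch
  have hAU : (A ⊓ U).Normal := inferInstance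
  have hsup : (A ⊓ U) ⊔ C = A := by
    rcases hmin ((A ⊓ U) ⊔ C) inferInstance le_sup_right (sup_le inf_le_left hlt.le) with h3 | h3
    · exact absurd (h3 ▸ le_sup_left : A ⊓ U ≤ C) h2
    · exact h3
  intro r hr t ht
  rw [← hsup] at ht
  have h3 : t ∈ ((A ⊓ U ⊔ C : Subgroup G) : Set G) := ht
  rw [Subgroup.mul_normal] at h3
  obtain ⟨a, ha, k, hk, rfl⟩ := h3
  have h4 : r * a * r⁻¹ * a⁻¹ ∈ C :=
    h1 ⟨A.mul_mem (hAn.conj_mem a ha.1 r) (A.inv_mem ha.1), hR r hr a ha.2⟩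
  have h5 : r * k * r⁻¹ * k⁻¹ ∈ C := C.mul_mem (hCn.conj_mem k hk r) (C.inv_mem hk)
  have h6 := C.mul_mem h4 (hCn.conj_mem _ h5 a)
  have e : r * a * r⁻¹ * a⁻¹ * (a * (r * k * r⁻¹ * k⁻¹) * a⁻¹) = r * (a * k) * r⁻¹ * (a * k)⁻¹ := by group
  change r * (a * k) * r⁻¹ * (a * k)⁻¹ ∈ C
  rw [← e]
  exact h6

theorem iter_one_le {A B : Subgroup G} (h : ∀ g : G, ∀ a ∈ A, g * a * g⁻¹ * a⁻¹ ∈ B) :
    Cfsg.iterCommutator A ⊤ 1 ≤ B := by
  change ⁅A, ⊤⁆ ≤ B
  rw [commutator_le]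
  intro a ha g _
  have := B.inv_mem (h g a ha)
  have e : (g * a * g⁻¹ * a⁻¹)⁻¹ = ⁅a, g⁆ := by rw [commutatorElement_def]; group
  rwa [e] at this

theorem center_triv (g : G) {a : G} (ha : a ∈ center G) : g * a * g⁻¹ * a⁻¹ = 1 := by
  rw [mem_center_iff.mp ha g]; group

theorem iso_of_ker {F : Type*} [Field F] {ρ : G →* SpecialLinearGroup (Fin 2) F}
    (hs : Function.Surjective ρ) {T : Subgroup G} [hT : T.Normal] (hk : ρ.ker = T) :
    Nonempty (G ⧸ T ≃* SpecialLinearGroup (Fin 2) F) := by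
  subst hk
  exact ⟨QuotientGroup.quotientKerEquivOfSurjective ρ hs⟩

end

section One

variable [Finite G] {F : Type*} [Field F] [Fintype F] {p : ℕ} [hp : Fact p.Prime] {S T M : Subgroup G}
  {α : S ≃* S} (o : One S T α) (c : Core p (Fintype.card F) S T M)
  {ρ : G →* SpecialLinearGroup (Fin 2) F} {ψ : G → (Fin 2 → F)}
  (ns : NatSec F (cen T) (center G) ρ ψ)

include o c

/-- the normal closure of `V'` -/
theorem One.R_sup : normalClosure ((im α (cen T) : Subgroup G) : Set G) ⊔ T = ⊤ :=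
  closure_sup c (o.S_le c)

theorem One.R_T : ∀ r ∈ normalClosure ((im α (cen T) : Subgroup G) : Set G), ∀ t ∈ T,
    r * t * r⁻¹ * t⁻¹ ∈ cen T :=
  triv_R c c.normX (fun _ hy _ ht => o.comm_T c hy ht)

include ns

/-- the kernel of the action on the natural module is `O_p(G)` -/
theorem One.ker_eq (hρT : ∀ t ∈ T, ρ t = 1) : ρ.ker = T := by
  apply le_antisymm
  · apply le_T c inferInstance
    intro x hx hcop
    have hxR := pprime_mem c normalClosure_normal (o.R_sup c) hcop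
    have h1 : ∀ v ∈ cen T, x * v = v * x := by
      apply stab hcop (K := center G) ((pgT c).to_le (c.center_le.trans (c.Zs_le.trans (cen_le T))))
      · intro k hk
        exact mem_center_iff.mp hk x
      · intro h hh
        exact ns.of_ρ hx hh
    exact stab hcop (K := cen T) ((pgT c).to_le (cen_le T)) h1 (fun t ht => o.R_T c x hxR t ht)
  · intro t ht
    exact hρT t ht

/-- every noncentral chief factor inside `O_p(G)` is natural -/
theorem One.chief_nat {A C : Subgroup G} (hch : Cfsg.IsChiefFactor A C) (hAT : A ≤ T)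
    (hnc : ¬ ⁅A, (⊤ : Subgroup G)⁆ ≤ C) : ∃ ψ', NatSec F A C ρ ψ' := by
  have hTn := c.normT
  have hRs := o.R_sup c
  have hlt := hch.1
  by_cases h1 : A ⊓ cen T ≤ C
  · exfalso
    apply hnc
    exact cross c hRs hch hAT hTn (o.R_T c) h1 (fun h2 => hlt.not_ge ((le_inf le_rfl hAT).trans h2))
  by_cases h2 : A ⊓ center G ≤ C
  · exact ns.transfer hch h2 h1
  · exfalso
    apply hnc
    apply cross c hRs hch hAT (inferInstance : (center G).Normal) (W := ⊥) _ _ h2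
    · intro r _ t ht
      rw [center_triv r ht]; exact one_mem _
    · exact (inf_le_right).trans bot_le

end One

end Cfsg.Agent.H213.Rk
end

-- part: H213/Two
section
/-!
# Rank one pushing up: distance two
-/

set_option autoImplicit false
set_option linter.unusedSectionVars false

namespace Cfsg.Agent.H213.Rk

open Subgroup Cfsg.Agent.H260.Push
open scoped commutatorElement

variable {G : Type*} [Group G]

/-- The data for distance two. -/
structure Two (p q : ℕ) (S T M U U₁ C Y : Subgroup G) : Prop where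
  sec : Sec q S T M U U₁ C
  VC : cen T ≤ C
  UT : U ≤ T
  trivC : ∀ g : G, ∀ x ∈ C, g * x * g⁻¹ * x⁻¹ ∈ cen T
  TU : ∀ t ∈ T, ∀ x ∈ U, t * x * t⁻¹ * x⁻¹ ∈ center G
  YS : Y ≤ S
  SY : S ≤ Y ⊔ T
  YT : ∀ y ∈ Y, ∀ t ∈ T, y * t * y⁻¹ * t⁻¹ ∈ U
  expU : p ≠ 2 → ∀ x ∈ U, x ^ p = 1
  lcs3 : S.lowerCentralSeries 3 ≤ T.lowerCentralSeries 3
  pow : p ≠ 2 → ∀ s ∈ S, ∃ t ∈ T, s ^ (p * p) = t ^ (p * p)
  nc : ∃ y ∈ S, ∃ s ∈ S, y * (s * y * s⁻¹) ≠ (s * y * s⁻¹) * y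
  str : ∀ u ∈ U₁, ∃ y ∈ U, ∃ k ∈ C, (∀ b ∈ S, b * y * b⁻¹ * y⁻¹ ∈ center G) ∧ u = y * k
  ns : (∀ d ∈ comD S T, d ∈ center G → d = 1) →
    (∀ x ∈ C, ∃ v ∈ cen T, ∃ e ∈ C, (∀ g : G, g * e * g⁻¹ * e⁻¹ ∈ center G) ∧ x = v * e) →
    (∀ x ∈ U, ∀ b ∈ S, ∀ b' ∈ S,
      b' * (b * x * b⁻¹ * x⁻¹) * b'⁻¹ * (b * x * b⁻¹ * x⁻¹)⁻¹ ∈ center G) → False

open Cfsg.Agent.MinSimple.PushUp (W Com)
open Cfsg.Agent.Omega.PushUp (Mv Dm)

theorem mv_phi [Finite G] {p q : ℕ} [Fact p.Prime] {S T M : Subgroup G}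
    (c : Core p q S T M) (n : Core.Nat' p q S T M)
    {X : Type*} [Group X] (φ : G →* X) (hφ : Function.Injective φ) (l : G) :
    Mv ((comD S T).map φ) ((cen S).map φ) (φ l) ↔ l ∉ M := by
  have hmem : ∀ (H : Subgroup G) (g : G), φ g ∈ H.map φ ↔ g ∈ H := by
    intro H g
    exact Subgroup.mem_map_iff_mem hφ
  rw [← mv_iff c n l]
  constructor
  · rintro ⟨_, ⟨d, hd, rfl⟩, h1⟩
    refine ⟨d, hd, fun h2 => h1 ?_⟩
    have : Cfsg.Agent.MinSimple.PushUp.cj (φ l) (φ d) = φ (l * d * l⁻¹) := by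
      simp [Cfsg.Agent.MinSimple.PushUp.cj]
    rw [this]
    exact Subgroup.mem_map_of_mem φ h2
  · rintro ⟨d, hd, h1⟩
    refine ⟨φ d, Subgroup.mem_map_of_mem φ hd, fun h2 => h1 ?_⟩
    have : Cfsg.Agent.MinSimple.PushUp.cj (φ l) (φ d) = φ (l * d * l⁻¹) := by
      simp [Cfsg.Agent.MinSimple.PushUp.cj]
    rw [this] at h2
    exact (hmem _ _).mp h2

theorem card_comap {X : Type*} [Group X] (φ : G →* X) (hφ : Function.Injective φ) {H : Subgroup X}
    (hH : H ≤ φ.range) : Nat.card (H.comap φ) = Nat.card H := by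
  have h1 : (H.comap φ).map φ = H := Subgroup.map_comap_eq_self hH
  rw [← Nat.card_congr ((H.comap φ).equivMapOfInjective φ hφ).symm.toEquiv, h1]

set_option maxHeartbeats 1000000 in
theorem exists_two [Finite G] {p q : ℕ} [hp : Fact p.Prime] {S T M : Subgroup G}
    (c : Core p q S T M) (n : Core.Nat' p q S T M) (hV : ∀ x ∈ cen T, x ^ p = 1)
    {X : Type*} [Group X] [Finite X] (φ : G →* X) (hφ : Function.Injective φ) {A : Subgroup X}
    (d : Amal.Dt A φ.range (S.map φ) (T.map φ) ((cen T).map φ) ((cen S).map φ) ((comD S T).map φ))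
    (hc : ∀ m < 1, ∀ w ∈ W A φ.range m, Com ((cen T).map φ) w) {τ : X}
    (hτ : Amal.Cr A φ.range ((cen T).map φ) ((cen S).map φ) ((comD S T).map φ) τ) :
    ∃ U U₁ C Y, Two p q S T M U U₁ C Y := by
  set V' := (cen T).map φ with hV'
  set Z' := (cen S).map φ with hZ'
  set D' := (comD S T).map φ with hD'
  have hmem : ∀ (H : Subgroup G) (g : G), φ g ∈ H.map φ ↔ g ∈ H := by
    intro H g
    exact Subgroup.mem_map_iff_mem hφ
  have hconj : ∀ a b : G, φ (a * b * a⁻¹ * b⁻¹) = φ a * φ b * (φ a)⁻¹ * (φ b)⁻¹ := by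
    intro a b; simp
  have hconj' : ∀ a b : G, φ (a * b * a⁻¹) = φ a * φ b * (φ a)⁻¹ := by
    intro a b; simp
  have hrange : ∀ g : G, φ g ∈ φ.range := fun g => ⟨g, rfl⟩
  have hWT : Amal.Wg A φ.range V' Z' D' ≤ T.map φ := d.Wg_le_Q hc
  have hWr : Amal.Wg A φ.range V' Z' D' ≤ φ.range := hWT.trans (Subgroup.map_le_range φ T)
  have hFc : ∀ f ∈ Dm D' τ, ∀ g : G, φ g = f → g ∈ center G := by
    intro f hf g hg
    rw [mem_center_iff]
    intro k
    apply hφ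
    have h1 := d.F_L hc hτ hf (hrange k)
    have h2 : φ k * f * (φ k)⁻¹ = f := h1
    rw [map_mul, map_mul, hg]
    rw [mul_inv_eq_iff_eq_mul] at h2
    exact h2
  obtain ⟨g₁, hg₁⟩ := c.exists_notMem_M
  have hg₁m : Mv D' Z' (φ g₁) := (mv_phi c n φ hφ g₁).mpr hg₁
  have hUT : (Amal.Wg A φ.range V' Z' D').comap φ ≤ T := by
    intro x hx
    exact (hmem T x).mp (hWT hx)
  have hCr : Amal.CTs d hc ≤ φ.range := (d.CTs_le hc).trans hWr
  have hU₁r : Amal.U1 d hc τ ≤ φ.range := (d.U1_le hc hτ).trans hWr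
  have hUn : ((Amal.Wg A φ.range V' Z' D').comap φ).Normal := by
    constructor
    intro x hx g
    rw [Subgroup.mem_comap] at hx ⊢
    rw [hconj']
    exact d.Wg_L (hrange g) hx
  refine ⟨(Amal.Wg A φ.range V' Z' D').comap φ, (Amal.U1 d hc τ).comap φ, (Amal.CTs d hc).comap φ,
    (V'.map (MulAut.conj (τ * φ g₁ * τ)).toMonoidHom).comap φ, ?_⟩
  refine
    { sec := ?_, VC := ?_, UT := hUT, trivC := ?_, TU := ?_, YS := ?_, SY := ?_, YT := ?_,
      expU := ?_, lcs3 := ?_, pow := ?_, nc := ?_, str := ?_, ns := ?_ }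
  · refine ⟨hUn, ?_, ?_, ?_, ?_, ?_, ?_, ?_, ?_, ?_, ?_, ?_⟩
    · constructor
      intro x hx g
      rw [Subgroup.mem_comap] at hx ⊢
      rw [hconj']
      exact d.CT_L hx (hrange g)
    · exact Subgroup.comap_mono (d.CTs_le_U1 hc τ)
    · exact Subgroup.comap_mono (d.U1_le hc hτ)
    · intro x hx y hy
      rw [Subgroup.mem_comap, hconj]
      obtain ⟨f, hf, h1⟩ := d.Wg_comm hc hτ (φ x) hx (φ y) hy
      have h2 : φ x * φ y * (φ x)⁻¹ = f * φ y := h1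
      rw [h2, mul_inv_cancel_right]
      exact d.Dm_le_CTs hc hτ hf
    · intro t ht x hx
      rw [Subgroup.mem_comap, hconj]
      exact d.Dm_le_CTs hc hτ (d.Q_Wg hc hτ ((hmem T t).mpr ht) hx)
    · intro s hs x hx
      rw [Subgroup.mem_comap, hconj]
      exact d.q1 hc hτ ((hmem S s).mpr hs) hx
    · intro s hs x hx
      rw [Subgroup.mem_comap, hconj]
      exact d.q2 hc hτ ((hmem S s).mpr hs) hx
    · intro s hs hsT x hx h1
      rw [Subgroup.mem_comap, hconj] at h1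
      exact d.fix hc hτ ((hmem S s).mpr hs) (fun h2 => hsT ((hmem T s).mp h2)) hx h1
    · intro g hg
      apply le_antisymm
      · apply sup_le
        · exact Subgroup.comap_mono (d.U1_le hc hτ)
        · have := cj_mono (g := g) (Subgroup.comap_mono (f := φ) (d.U1_le hc hτ))
          rwa [cj_normal g ((Amal.Wg A φ.range V' Z' D').comap φ)] at this
      · intro x hx
        obtain ⟨a, ha, b, hb, h1⟩ := d.sup hc hτ (hrange g) ((mv_phi c n φ hφ g).mpr hg) hx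
        obtain ⟨a', rfl⟩ := hU₁r ha
        obtain ⟨b', rfl⟩ := hU₁r hb
        have h2 : x = (g * a' * g⁻¹) * b' := by
          apply hφ
          rw [map_mul, hconj']
          exact h1
        rw [h2]
        exact mul_mem (mem_sup_right (conj_mem_cj ha)) (mem_sup_left hb)
    · intro g hg x hx hx'
      rw [mem_cj] at hx'
      apply d.inf hc hτ (hrange g) ((mv_phi c n φ hφ g).mpr hg) hx
      change (φ g)⁻¹ * φ x * (φ g)⁻¹⁻¹ ∈ _
      rw [inv_inv, ← map_inv, ← map_mul, ← map_mul]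
      exact hx'
    · have h1 := d.card_U1 hc hτ
      rw [card_comap φ hφ hU₁r, card_comap φ hφ hCr]
      have h2 : Nat.card V' = Nat.card (cen T) :=
        Nat.card_congr ((cen T).equivMapOfInjective φ hφ).symm.toEquiv
      have h3 : Nat.card Z' = Nat.card (cen S) :=
        Nat.card_congr ((cen S).equivMapOfInjective φ hφ).symm.toEquiv
      rw [h2, h3, n.cardX] at h1
      have hpos : 0 < Nat.card (cen S) := Nat.card_pos
      apply Nat.eq_of_mul_eq_mul_right hpos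
      rw [h1]; ring
  · intro x hx
    exact d.V_le_CTs hc (Subgroup.mem_map_of_mem φ hx)
  · intro g x hx
    obtain ⟨v, hv, h1⟩ := (show Amal.CT A φ.range V' Z' D' (φ x) from hx).2 (φ g) (hrange g)
    have h2 : φ g * φ x * (φ g)⁻¹ = v * φ x := h1
    have h3 : φ (g * x * g⁻¹ * x⁻¹) ∈ V' := by
      rw [hconj, h2, mul_inv_cancel_right]
      exact hv
    exact (hmem _ _).mp h3
  · intro t ht x hx
    exact hFc _ (d.Q_Wg hc hτ ((hmem T t).mpr ht) hx) _ (hconj t x)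
  · rintro x ⟨v, hv, hx⟩
    have h1 := d.memB' hc le_rfl (d.word_mem hτ.1 (hrange g₁) hτ.1) hv
    have h2 : φ x ∈ S.map φ := by
      rw [← hx]
      exact h1
    exact (hmem S x).mp h2
  · intro s hs
    obtain ⟨v, hv, q, ⟨t, ht, rfl⟩, h1⟩ := d.Y_B hc hτ (hrange g₁) hg₁m ((hmem S s).mpr hs)
    have h2 : s = (s * t⁻¹) * t := by group
    rw [h2]
    apply mul_mem (mem_sup_left _) (mem_sup_right ht)
    refine ⟨v, hv, ?_⟩
    have h3 : φ (s * t⁻¹) = Cfsg.Agent.MinSimple.PushUp.cj (τ * φ g₁ * τ) v := by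
      rw [map_mul φ s t⁻¹, map_inv φ t, h1, mul_inv_cancel_right]
    rw [h3]
    rfl
  · rintro y ⟨v, hv, hy⟩ t ht
    rw [Subgroup.mem_comap, hconj, ← hy]
    exact d.Y_Q hc hτ (hrange g₁) hg₁m hv ((hmem T t).mpr ht)
  · intro hp2 x hx
    have h1 := d.Wg_pow hc hτ hp.out hp2 (by
      rintro _ ⟨v, hv, rfl⟩
      rw [← map_pow, hV v hv, map_one]) (φ x) hx
    apply hφ
    rw [map_pow, h1, map_one]
  · have h1 := d.B_lcs hc hτ
    rw [← Subgroup.map_lowerCentralSeries, ← Subgroup.map_lowerCentralSeries] at h1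
    exact (Subgroup.map_le_map_iff_of_injective hφ).mp h1
  · intro hp2 s hs
    obtain ⟨_, ⟨t, ht, rfl⟩, h1⟩ := d.B_pow hc hτ hp.out hp2 (by
      rintro _ ⟨v, hv, rfl⟩
      rw [← map_pow, hV v hv, map_one]) (φ s) ((hmem S s).mpr hs)
    refine ⟨t, ht, ?_⟩
    apply hφ
    rw [map_pow, map_pow, h1]
  · obtain ⟨_, ⟨y, hy, rfl⟩, _, ⟨s, hs, rfl⟩, h1⟩ := d.exists_nc hc hτ
    refine ⟨y, hy, s, hs, fun h2 => h1 ?_⟩
    have h3 := congrArg φ h2
    rw [map_mul, map_mul _ _ y, hconj'] at h3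
    exact h3
  · intro u hu
    obtain ⟨v, hv, k, hk, h1⟩ := (d.mem_U1 hc hτ).mp hu
    have h2 : Cfsg.Agent.MinSimple.PushUp.cj τ v ∈ Amal.Wg A φ.range V' Z' D' := Amal.mem_Wg' hτ hv
    obtain ⟨y, hy⟩ := hWr h2
    obtain ⟨k', hk'⟩ := hCr hk
    refine ⟨y, ?_, k', ?_, ?_, ?_⟩
    · rw [Subgroup.mem_comap, hy]; exact h2
    · rw [Subgroup.mem_comap, hk']; exact hk
    · intro b hb
      obtain ⟨f, hf, h3⟩ := d.B_comm hτ ((hmem S b).mpr hb) hv
      apply hFc f hf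
      have h4 : φ b * Cfsg.Agent.MinSimple.PushUp.cj τ v * (φ b)⁻¹ =
        f * Cfsg.Agent.MinSimple.PushUp.cj τ v := h3
      rw [hconj, hy, h4, mul_inv_cancel_right]
    · apply hφ
      rw [map_mul, hy, hk']
      exact h1
  · intro h1 h2 h3
    have hcent : ∀ g ∈ center G, ∀ l ∈ φ.range, Cfsg.Agent.MinSimple.PushUp.cj l (φ g) = φ g := by
      rintro g hg _ ⟨l, rfl⟩
      change φ l * φ g * (φ l)⁻¹ = φ g
      rw [← hconj']
      congr 1
      rw [mem_center_iff.mp hg l]; group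
    apply d.not_split hc hτ
    · rintro _ ⟨e, he, rfl⟩ h4
      have h5 : e ∈ center G := by
        rw [mem_center_iff]
        intro k
        apply hφ
        have h6 := h4 (φ k) (hrange k)
        have h7 : φ k * φ e * (φ k)⁻¹ = φ e := h6
        rw [mul_inv_eq_iff_eq_mul] at h7
        rw [map_mul, map_mul]
        exact h7
      rw [h1 e he h5, map_one]
    · intro x hx
      obtain ⟨x', rfl⟩ := hCr hx
      obtain ⟨v, hv, e, he, h4, rfl⟩ := h2 x' hx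
      refine ⟨φ v, Subgroup.mem_map_of_mem φ hv, φ e, ⟨he, ?_⟩, map_mul φ v e⟩
      rintro _ ⟨l, rfl⟩ k hk
      have h5 : Cfsg.Agent.MinSimple.PushUp.cj (φ l) (φ e) * (φ e)⁻¹ = φ (l * e * l⁻¹ * e⁻¹) := (hconj l e).symm
      rw [h5]
      exact hcent _ (h4 l) k hk
    · rintro x hx _ ⟨b, hb, rfl⟩ _ ⟨b', hb', rfl⟩ l hl
      obtain ⟨x', rfl⟩ := hWr hx
      have h4 := h3 x' hx b hb b' hb'
      have h5 : Cfsg.Agent.MinSimple.PushUp.cj (φ b) (φ x') * (φ x')⁻¹ = φ (b * x' * b⁻¹ * x'⁻¹) :=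
        (hconj b x').symm
      rw [h5]
      have h6 : Cfsg.Agent.MinSimple.PushUp.cj (φ b') (φ (b * x' * b⁻¹ * x'⁻¹)) *
          (φ (b * x' * b⁻¹ * x'⁻¹))⁻¹ = φ (b' * (b * x' * b⁻¹ * x'⁻¹) * b'⁻¹ * (b * x' * b⁻¹ * x'⁻¹)⁻¹) :=
        (hconj b' (b * x' * b⁻¹ * x'⁻¹)).symm
      rw [h6]
      exact hcent _ h4 l hl

end Cfsg.Agent.H213.Rk
end

-- part: H213/TwoEnd
section
/-!
# Rank one pushing up: distance two forces characteristic three
-/

set_option autoImplicit false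
set_option linter.unusedSectionVars false

namespace Cfsg.Agent.H213.Rk

open Subgroup Cfsg.Agent.H260.Push Matrix
open Cfsg.Agent.H260.Psl (dg dg_conj)
open Cfsg.Agent.LieClassical.SLTwoUnipotent (u l)
open scoped commutatorElement

variable {G : Type*} [Group G]

section

variable [Finite G] {F : Type*} [Field F] [Fintype F] {p : ℕ} [hp : Fact p.Prime] {S T M : Subgroup G}
  (c : Core p (Fintype.card F) S T M) {x y : F → G} {g₀ : G} (fr : Frame F S T M x y g₀)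

include c fr

/-- a homomorphism is determined by the coordinates -/
theorem hom_ext {H : Type*} [Group H] {ρ ρ' : G →* H} (hx : ∀ a, ρ (x a) = ρ' (x a))
    (hy : ∀ a, ρ (y a) = ρ' (y a)) (hT : ∀ t ∈ T, ρ t = ρ' t) : ρ = ρ' := by
  have h1 : (⊤ : Subgroup G) ≤ MonoidHom.eqLocus ρ ρ' := by
    rw [← c.gen g₀ fr.gM]
    apply sup_le
    · intro s hs
      obtain ⟨a, ha⟩ := fr.xsur s hs
      have := mul_mem (show x a ∈ MonoidHom.eqLocus ρ ρ' from hx a)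
        (show (x a)⁻¹ * s ∈ MonoidHom.eqLocus ρ ρ' from hT _ ha)
      rwa [mul_inv_cancel_left] at this
    · intro s hs
      obtain ⟨a, ha⟩ := fr.ysur s hs
      have := mul_mem (show y a ∈ MonoidHom.eqLocus ρ ρ' from hy a)
        (show (y a)⁻¹ * s ∈ MonoidHom.eqLocus ρ ρ' from hT _ ha)
      rwa [mul_inv_cancel_left] at this
  exact MonoidHom.ext fun g => h1 (mem_top g)

/-- elements acting diagonally normalise `S` -/
theorem diag_norm {ρ : G →* SpecialLinearGroup (Fin 2) F} (hρx : ∀ a, ρ (x a) = u a) (hk : ρ.ker = T)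
    {t : G} {k : F} {hk0 : k ≠ 0} (ht : ρ t = dg k hk0) {s : G} (hs : s ∈ S) :
    t * s * t⁻¹ ∈ S ∧ ∃ a, ρ s = u a ∧ ρ (t * s * t⁻¹) = u (k ^ 2 * a) := by
  obtain ⟨a, ha⟩ := fr.xsur s hs
  have h1 : ρ s = u a := by
    have h2 : (x a)⁻¹ * s ∈ ρ.ker := by rw [hk]; exact ha
    rw [MonoidHom.mem_ker, map_mul, map_inv, inv_mul_eq_one, hρx] at h2
    exact h2.symm
  have h3 : ρ (t * s * t⁻¹) = u (k ^ 2 * a) := by
    rw [map_mul, map_mul, map_inv, h1, ht, dg_conj]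
  refine ⟨?_, a, h1, h3⟩
  have h4 : (x (k ^ 2 * a))⁻¹ * (t * s * t⁻¹) ∈ T := by
    rw [← hk, MonoidHom.mem_ker, map_mul, map_inv, hρx, h3, inv_mul_cancel]
  have := S.mul_mem (fr.xS (k ^ 2 * a)) (c.le h4)
  rwa [mul_inv_cancel_left] at this

theorem diag_norm' {ρ : G →* SpecialLinearGroup (Fin 2) F} (hρx : ∀ a, ρ (x a) = u a) (hk : ρ.ker = T)
    {t : G} {k : F} {hk0 : k ≠ 0} (ht : ρ t = dg k hk0) : cj t S = S :=
  conj_cj' (fun _ hs => (diag_norm c fr hρx hk ht hs).1)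

end

/-- the element acting as `-1` -/
theorem dg_neg_one_mulVec {F : Type*} [Field F] (v : Fin 2 → F) :
    (dg (-1 : F) (neg_ne_zero.mpr one_ne_zero)).1.mulVec v = - v := by
  funext i
  fin_cases i <;> simp [dg, Matrix.mulVec, dotProduct, Fin.sum_univ_two, inv_neg]

theorem dg_neg_one_comm {F : Type*} [Field F] (A : SpecialLinearGroup (Fin 2) F) :
    dg (-1 : F) (neg_ne_zero.mpr one_ne_zero) * A = A * dg (-1 : F) (neg_ne_zero.mpr one_ne_zero) := by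
  apply NatAbs.sl_eq
  intro v
  rw [NatAbs.mul_mv, NatAbs.mul_mv, dg_neg_one_mulVec, dg_neg_one_mulVec, Matrix.mulVec_neg]

theorem dg_mulVec_one {F : Type*} [Field F] (k : F) (hk : k ≠ 0) (v : Fin 2 → F) :
    (dg k hk).1.mulVec v 1 = k⁻¹ * v 1 := by
  simp [dg, Matrix.mulVec, dotProduct, Fin.sum_univ_two]

section

variable [Finite G] {F : Type*} [Field F] {p : ℕ} [hp : Fact p.Prime] {S T M : Subgroup G} {q : ℕ}
  (c : Core p q S T M) (n : Core.Nat' p q S T M) (hV : ∀ v ∈ cen T, v ^ p = 1)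
  {ρ : G →* SpecialLinearGroup (Fin 2) F} {ψ : G → (Fin 2 → F)} (ns : NatSec F (cen T) (center G) ρ ψ)
  (hk : ρ.ker = T) (hp2 : p ≠ 2) {z : G}
  (hz : ρ z = dg (-1 : F) (neg_ne_zero.mpr one_ne_zero))

include ns hz

/-- `z` inverts `Z(T)` modulo the centre -/
theorem z_inv {v : G} (hv : v ∈ cen T) : z * v * z⁻¹ * v ∈ center G := by
  rw [← ns.ker _ (mul_mem (ns.cjU z hv) hv), ns.add _ (ns.cjU z hv) _ hv, ns.act z v hv, hz,
    dg_neg_one_mulVec, neg_add_cancel]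

include hk

omit ns in
theorem z_comm (g : G) : z⁻¹ * g⁻¹ * z * g ∈ T := by
  rw [← hk, MonoidHom.mem_ker, map_mul, map_mul, map_mul, map_inv, map_inv, hz]
  have := dg_neg_one_comm (ρ g)⁻¹
  rw [mul_assoc (dg (-1 : F) _)⁻¹, ← this]
  group

include c n

/-- `z` inverts `[Z(T), S]` -/
theorem z_D {d : G} (hd : d ∈ comD S T) : z * d * z⁻¹ = d⁻¹ := by
  have hXn := c.normX
  let H : Subgroup G :=
    { carrier := {d | d ∈ cen T ∧ z * d * z⁻¹ = d⁻¹}
      one_mem' := ⟨one_mem _, by group⟩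
      mul_mem' := by
        rintro a b ⟨ha, ha'⟩ ⟨hb, hb'⟩
        refine ⟨mul_mem ha hb, ?_⟩
        have e : z * (a * b) * z⁻¹ = (z * a * z⁻¹) * (z * b * z⁻¹) := by group
        rw [e, ha', hb', ← _root_.mul_inv_rev, c.cenT_comm hb ha]
      inv_mem' := by
        rintro a ⟨ha, ha'⟩
        refine ⟨inv_mem ha, ?_⟩
        have e : z * a⁻¹ * z⁻¹ = (z * a * z⁻¹)⁻¹ := by group
        rw [e, ha'] }
  have hle : comD S T ≤ H := by
    rw [comD, closure_le]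
    rintro _ ⟨v, hv, b, hb, rfl⟩
    have hmem : v * b * v⁻¹ * b⁻¹ ∈ cen T := by
      have := mul_mem hv (hXn.conj_mem _ (inv_mem hv) b)
      have e : v * (b * v⁻¹ * b⁻¹) = v * b * v⁻¹ * b⁻¹ := by group
      rwa [e] at this
    refine ⟨hmem, ?_⟩
    -- `z v z⁻¹ = ζ v⁻¹`, `z b z⁻¹ = b κ`
    have h1 := z_inv ns hz hv
    set ζ := z * v * z⁻¹ * v with hζ
    have e1 : z * v * z⁻¹ = ζ * v⁻¹ := by rw [hζ]; group
    have h2 : b⁻¹ * (z * b * z⁻¹) ∈ T := by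
      have hTn := c.normT
      have h3 := z_comm hk hz b⁻¹
      rw [inv_inv] at h3
      have h4 := hTn.conj_mem _ (T.inv_mem h3) z
      -- z * (z⁻¹ b z b⁻¹)⁻¹ z⁻¹ = z b z⁻¹ b⁻¹
      have e2 : z * (z⁻¹ * b * z * b⁻¹)⁻¹ * z⁻¹ = z * b * z⁻¹ * b⁻¹ := by group
      rw [e2] at h4
      have h5 := hTn.conj_mem _ h4 b⁻¹
      have e3 : b⁻¹ * (z * b * z⁻¹ * b⁻¹) * b⁻¹⁻¹ = b⁻¹ * (z * b * z⁻¹) := by group
      rwa [e3] at h5
    set κ := b⁻¹ * (z * b * z⁻¹) with hκ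
    have e2 : z * b * z⁻¹ = b * κ := by rw [hκ]; group
    have hζc : ∀ k : G, k * ζ = ζ * k := fun k => mem_center_iff.mp h1 k
    have hκv : κ * v = v * κ := cen_comm hv h2
    have hbv : (v * b * v⁻¹ * b⁻¹) * v = v * (v * b * v⁻¹ * b⁻¹) := c.cenT_comm hmem hv
    have e4 : z * (v * b * v⁻¹ * b⁻¹) * z⁻¹ =
        (z * v * z⁻¹) * (z * b * z⁻¹) * (z * v * z⁻¹)⁻¹ * (z * b * z⁻¹)⁻¹ := by group
    have e5 : ζ * v⁻¹ * (b * κ) * (ζ * v⁻¹)⁻¹ * (b * κ)⁻¹ = v⁻¹ * b * (κ * v) * κ⁻¹ * b⁻¹ := by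
      calc ζ * v⁻¹ * (b * κ) * (ζ * v⁻¹)⁻¹ * (b * κ)⁻¹ = ζ * (v⁻¹ * b * κ * v) * ζ⁻¹ * (b * κ)⁻¹ := by group
        _ = (v⁻¹ * b * κ * v) * ζ * ζ⁻¹ * (b * κ)⁻¹ := by rw [hζc (v⁻¹ * b * κ * v)]
        _ = _ := by group
    rw [e4, e1, e2, e5, hκv]
    have e6 : v⁻¹ * b * (v * κ) * κ⁻¹ * b⁻¹ = v⁻¹ * (v * b * v⁻¹ * b⁻¹)⁻¹ * v := by group
    rw [e6]
    have e7 : (v * b * v⁻¹ * b⁻¹)⁻¹ * v = v * (v * b * v⁻¹ * b⁻¹)⁻¹ := by
      rw [inv_mul_eq_iff_eq_mul, ← mul_assoc, hbv, mul_inv_cancel_right]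
    rw [mul_assoc, e7, inv_mul_cancel_left]
  exact (hle hd).2

include hV hp2

theorem D_cap {d : G} (hd : d ∈ comD S T) (hdc : d ∈ center G) : d = 1 := by
  have h1 := z_D c n ns hk hz hd
  rw [mem_center_iff.mp hdc z, mul_inv_cancel_right] at h1
  have h2 : d ^ 2 = 1 := by
    rw [pow_two]
    nth_rewrite 1 [h1]
    exact inv_mul_cancel d
  have h3 := hV d (c.Zs_le (comD_le n hd))
  have h4 : Nat.Coprime 2 p := (Nat.coprime_primes Nat.prime_two hp.out).mpr (Ne.symm hp2)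
  have h5 : orderOf d ∣ 1 := by
    rw [← h4]
    exact Nat.dvd_gcd (orderOf_dvd_of_pow_eq_one h2) (orderOf_dvd_of_pow_eq_one h3)
  exact orderOf_eq_one_iff.mp (Nat.dvd_one.mp h5)

end

end Cfsg.Agent.H213.Rk
end

-- part: H213/TwoFin
section
/-!
# Rank one pushing up: distance two, conclusions
-/

set_option autoImplicit false
set_option linter.unusedSectionVars false

namespace Cfsg.Agent.H213.Rk

open Subgroup Cfsg.Agent.H260.Push Matrix
open Cfsg.Agent.H260.Psl (dg dg_conj)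
open Cfsg.Agent.LieClassical.SLTwoUnipotent (u l)
open scoped commutatorElement

variable {G : Type*} [Group G]

section Two

variable [Finite G] {F : Type*} [Field F] [Fintype F] {p : ℕ} [hp : Fact p.Prime]
  {S T M U U₁ C Y : Subgroup G}
  (w : Two p (Fintype.card F) S T M U U₁ C Y) (c : Core p (Fintype.card F) S T M)

include w c

theorem Two.R_sup : normalClosure (Y : Set G) ⊔ T = ⊤ := closure_sup c w.SY

theorem Two.R_T : ∀ r ∈ normalClosure (Y : Set G), ∀ t ∈ T, r * t * r⁻¹ * t⁻¹ ∈ U :=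
  triv_R c w.sec.Un w.YT

variable {ρ : G →* SpecialLinearGroup (Fin 2) F} {ψ ψ' : G → (Fin 2 → F)}
  (ns : NatSec F (cen T) (center G) ρ ψ) (ns' : NatSec F U C ρ ψ')

include ns ns'

theorem Two.ker_eq (hρT : ∀ t ∈ T, ρ t = 1) : ρ.ker = T := by
  apply le_antisymm
  · apply le_T c inferInstance
    intro x hx hcop
    have hxR := pprime_mem c normalClosure_normal (w.R_sup c) hcop
    have h1 : ∀ v ∈ cen T, x * v = v * x := by
      apply stab hcop (K := center G) ((pgT c).to_le (c.center_le.trans (c.Zs_le.trans (cen_le T))))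
      · intro k hk
        exact mem_center_iff.mp hk x
      · intro h hh
        exact ns.of_ρ hx hh
    have h2 : ∀ v ∈ C, x * v = v * x :=
      stab hcop (K := cen T) ((pgT c).to_le (cen_le T)) h1 (fun t ht => w.trivC x t ht)
    have h3 : ∀ v ∈ U, x * v = v * x :=
      stab hcop (K := C) ((pgT c).to_le (ns'.WU.trans w.UT)) h2 (fun t ht => ns'.of_ρ hx ht)
    exact stab hcop (K := U) ((pgT c).to_le w.UT) h3 (fun t ht => w.R_T c x hxR t ht)
  · intro t ht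
    exact hρT t ht

/-- every noncentral chief factor inside `O_p(G)` is natural -/
theorem Two.chief_nat {A B : Subgroup G} (hch : Cfsg.IsChiefFactor A B) (hAT : A ≤ T)
    (hnc : ¬ ⁅A, (⊤ : Subgroup G)⁆ ≤ B) : ∃ ψ'', NatSec F A B ρ ψ'' := by
  have hTn := c.normT
  have hRs := w.R_sup c
  have hlt := hch.1
  by_cases h0 : A ⊓ U ≤ B
  · exfalso
    apply hnc
    exact cross c hRs hch hAT hTn (w.R_T c) h0 (fun h2 => hlt.not_ge ((le_inf le_rfl hAT).trans h2))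
  by_cases h1 : A ⊓ C ≤ B
  · exact ns'.transfer hch h1 h0
  by_cases h2 : A ⊓ cen T ≤ B
  · exfalso
    apply hnc
    exact cross c hRs hch hAT ns'.Wn (fun r _ t ht => w.trivC r t ht) h2 h1
  by_cases h3 : A ⊓ center G ≤ B
  · exact ns.transfer hch h3 h2
  · exfalso
    apply hnc
    apply cross c hRs hch hAT (inferInstance : (center G).Normal) (W := ⊥) _ _ h3
    · intro r _ t ht
      rw [center_triv r ht]; exact one_mem _
    · exact (inf_le_right).trans bot_le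

/-- the splitting of `C~` -/
theorem Two.split (hV : ∀ v ∈ cen T, v ^ p = 1) (hk : ρ.ker = T) (hp2 : p ≠ 2) {z : G}
    (hz : ρ z = dg (-1 : F) (neg_ne_zero.mpr one_ne_zero)) {x : G} (hx : x ∈ C) :
    ∃ v ∈ cen T, ∃ e ∈ C, (∀ g : G, g * e * g⁻¹ * e⁻¹ ∈ center G) ∧ x = v * e := by
  obtain ⟨m, hm⟩ := hp.out.odd_of_ne_two hp2
  have hpm : p + 1 = (m + 1) * 2 := by omega
  have hXn := c.normX
  have hv' := w.trivC z x hx
  set v' := z * x * z⁻¹ * x⁻¹ with hv'd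
  set v := v' ^ (m + 1) with hv
  have hvX : v ∈ cen T := pow_mem hv' _
  have hvv : v * v = v' := by
    rw [← pow_two, hv, ← pow_mul, ← hpm, pow_succ, hV v' hv', one_mul]
  have heC : v * x ∈ C := mul_mem (w.VC hvX) hx
  refine ⟨v⁻¹, inv_mem hvX, v * x, heC, ?_, by group⟩
  set e := v * x with he
  -- `z e z⁻¹ = ζ e`
  have h1 := z_inv ns hz hvX
  set ζ := z * v * z⁻¹ * v with hζ
  have hζe : z * e * z⁻¹ = ζ * e := by
    have e1 : z * v * z⁻¹ = ζ * v⁻¹ := by rw [hζ]; group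
    have e2 : z * x * z⁻¹ = v' * x := by rw [hv'd]; group
    calc z * e * z⁻¹ = (z * v * z⁻¹) * (z * x * z⁻¹) := by rw [he]; group
      _ = ζ * v⁻¹ * (v * v * x) := by rw [e1, e2, hvv]
      _ = ζ * e := by rw [he]; group
  have hc : ∀ a ∈ center G, ∀ k : G, k * a = a * k := fun a ha k => mem_center_iff.mp ha k
  intro g
  have hw := w.trivC g e heC
  set y := g * e * g⁻¹ * e⁻¹ with hy
  have hge : g * e * g⁻¹ = y * e := by rw [hy]; group
  -- `κ`
  have hκ := z_comm hk hz g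
  set κ := z⁻¹ * g⁻¹ * z * g with hκd
  have hη := w.TU κ hκ e (ns'.WU heC)
  set η := κ * e * κ⁻¹ * e⁻¹ with hηd
  have hκe : κ * e * κ⁻¹ = η * e := by rw [hηd]; group
  have hyz := z_inv ns hz hw
  set ζ' := z * y * z⁻¹ * y with hζ'
  have e1 : z * y * z⁻¹ = ζ' * y⁻¹ := by rw [hζ']; group
  have l1 : g * (z * (κ * e * κ⁻¹) * z⁻¹) * g⁻¹ = η * ζ * (y * e) := by
    calc g * (z * (κ * e * κ⁻¹) * z⁻¹) * g⁻¹ = g * ((z * η) * e * z⁻¹) * g⁻¹ := by rw [hκe]; group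
      _ = g * (η * (z * e * z⁻¹)) * g⁻¹ := by rw [hc η hη z]; group
      _ = g * (η * (ζ * e)) * g⁻¹ := by rw [hζe]
      _ = (g * (η * ζ)) * e * g⁻¹ := by group
      _ = η * ζ * (g * e * g⁻¹) := by rw [hc (η * ζ) (mul_mem hη h1) g]; group
      _ = _ := by rw [hge]
  have l2 : g * (z * (κ * e * κ⁻¹) * z⁻¹) * g⁻¹ = ζ' * y⁻¹ * (ζ * e) := by
    have e2 : z * κ = g⁻¹ * z * g := by rw [hκd]; group
    calc g * (z * (κ * e * κ⁻¹) * z⁻¹) * g⁻¹ = g * ((z * κ) * e * (z * κ)⁻¹) * g⁻¹ := by group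
      _ = z * (g * e * g⁻¹) * z⁻¹ := by rw [e2]; group
      _ = (z * y * z⁻¹) * (z * e * z⁻¹) := by rw [hge]; group
      _ = _ := by rw [e1, hζe]
  have l3 : y * y = η⁻¹ * ζ' := by
    rw [l1] at l2
    have l4 : η * ζ * y = ζ' * y⁻¹ * ζ := by
      have := congrArg (· * e⁻¹) l2
      simpa [mul_assoc] using this
    have l5 : ζ' * y⁻¹ * ζ = ζ * (ζ' * y⁻¹) := by rw [hc ζ h1]
    have l6 : η * ζ * y = ζ * (η * y) := by rw [hc ζ h1 η]; group
    rw [l5, l6] at l4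
    have l7 : η * y = ζ' * y⁻¹ := mul_left_cancel l4
    calc y * y = η⁻¹ * (η * y) * y := by group
      _ = η⁻¹ * (ζ' * y⁻¹) * y := by rw [l7]
      _ = _ := by group
  have l4 : y * y ∈ center G := by
    rw [l3]; exact mul_mem (inv_mem hη) hyz
  have l5 : y = (y * y) ^ (m + 1) := by
    rw [← pow_two, ← pow_mul, mul_comm 2, ← hpm, pow_succ, hV y hw, one_mul]
  rw [l5]
  exact pow_mem l4 _

/-- **Distance two forces characteristic three.** -/
theorem Two.eq_three (n : Core.Nat' p (Fintype.card F) S T M) [CharP F p]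
    {x y : F → G} {g₀ : G} (fr : Frame F S T M x y g₀)
    (hρx : ∀ a, ρ (x a) = u a) (hψ' : ∀ z ∈ U, z ∈ U₁ ↔ ψ' z 1 = 0) (hψ : ∀ z ∈ cen T, z ∈ cen S ↔ ψ z 1 = 0)
    (hV : ∀ v ∈ cen T, v ^ p = 1) (hk : ρ.ker = T) (hp2 : p ≠ 2) : p = 3 := by
  classical
  by_contra hp3
  obtain ⟨z, hz⟩ := ns.rsur (dg (-1 : F) (neg_ne_zero.mpr one_ne_zero))
  have h2 : (2 : F) ≠ 0 := by
    intro h0
    have h1 : ((2 : ℕ) : F) = 0 := by exact_mod_cast h0
    rw [CharP.cast_eq_zero_iff F p] at h1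
    exact hp2 ((Nat.prime_dvd_prime_iff_eq hp.out Nat.prime_two).mp h1)
  have h3 : (3 : F) ≠ 0 := by
    intro h0
    have h1 : ((3 : ℕ) : F) = 0 := by exact_mod_cast h0
    rw [CharP.cast_eq_zero_iff F p] at h1
    exact hp3 ((Nat.prime_dvd_prime_iff_eq hp.out Nat.prime_three).mp h1)
  obtain ⟨t, ht⟩ := ns.rsur (dg (2 : F) h2)
  have hsplit := fun x (hx : x ∈ C) => w.split c ns ns' hV hk hp2 hz hx
  apply w.ns (fun d hd hdc => D_cap c n hV ns hk hp2 hz hd hdc) hsplit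
  have hXn := c.normX
  have hTn := c.normT
  have hUn := w.sec.Un
  -- the subgroup `Y`
  let E : Subgroup G :=
    { carrier := {e | e ∈ U ∧ ∀ b ∈ S, b * e * b⁻¹ * e⁻¹ ∈ center G}
      one_mem' := ⟨one_mem _, fun b _ => by
        have : b * 1 * b⁻¹ * 1⁻¹ = 1 := by group
        rw [this]; exact one_mem _⟩
      mul_mem' := by
        rintro a b ⟨ha, ha'⟩ ⟨hb, hb'⟩
        refine ⟨mul_mem ha hb, fun s hs => ?_⟩
        have h1 := ha' s hs
        have h4 := hb' s hs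
        have e : s * (a * b) * s⁻¹ * (a * b)⁻¹ = (s * a * s⁻¹ * a⁻¹) * (a * (s * b * s⁻¹ * b⁻¹) * a⁻¹) := by
          group
        rw [e, mem_center_iff.mp h4 a, mul_inv_cancel_right]
        exact mul_mem h1 h4
      inv_mem' := by
        rintro a ⟨ha, ha'⟩
        refine ⟨inv_mem ha, fun s hs => ?_⟩
        have h1 := ha' s hs
        have e : s * a⁻¹ * s⁻¹ * a⁻¹⁻¹ = a⁻¹ * (s * a * s⁻¹ * a⁻¹)⁻¹ * a := by group
        rw [e, mem_center_iff.mp (inv_mem h1) a⁻¹, inv_mul_cancel_right]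
        exact inv_mem h1 }
  have hEU : E ≤ U := fun _ he => he.1
  have hZE : center G ≤ E := by
    intro a ha
    refine ⟨w.sec.WU (w.VC (c.Zs_le (c.center_le ha))), fun s hs => ?_⟩
    rw [center_triv s ha]; exact one_mem _
  have hcenS : cen S ≤ E := by
    intro a ha
    refine ⟨w.sec.WU (w.VC (c.Zs_le ha)), fun s hs => ?_⟩
    have : s * a * s⁻¹ * a⁻¹ = 1 := by rw [cen_comm ha hs]; group
    rw [this]; exact one_mem _
  obtain ⟨s₀, hs₀, hs₀T⟩ := exists_not_T c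
  -- `V ∩ Y ≤ Z(S)`
  have hcap : ∀ a ∈ cen T, a ∈ E → a ∈ cen S := by
    intro a ha haE
    exact n.cmc s₀ hs₀ hs₀T a ha (haE.2 s₀ hs₀)
  -- decomposition of `U₁`
  have hdec : ∀ a ∈ U₁, ∃ v ∈ cen T, ∃ e ∈ E, a = v * e := by
    intro a ha
    obtain ⟨y₁, hy₁, k, hkC, h4, rfl⟩ := w.str a ha
    obtain ⟨v, hv, e, he, h5, rfl⟩ := hsplit k hkC
    refine ⟨v, hv, y₁ * e, mul_mem ⟨hy₁, h4⟩ ⟨w.sec.WU he, fun b _ => h5 b⟩, ?_⟩
    have : y₁ * v = v * y₁ := cen_comm hv (w.UT hy₁)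
    rw [← mul_assoc, this, mul_assoc]
  let χ : G → F := fun a => if ha : ∃ v ∈ cen T, ∃ e ∈ E, a = v * e then ψ (Classical.choose ha) 1 else 0
  have hχ : ∀ v ∈ cen T, ∀ e ∈ E, χ (v * e) = ψ v 1 := by
    intro v hv e he
    have ha : ∃ v' ∈ cen T, ∃ e' ∈ E, v * e = v' * e' := ⟨v, hv, e, he, rfl⟩
    simp only [χ]
    rw [dif_pos ha]
    obtain ⟨hv', e', he', h4⟩ := Classical.choose_spec ha
    set v' := Classical.choose ha
    have h5 : v'⁻¹ * v = e' * e⁻¹ := by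
      rw [inv_mul_eq_iff_eq_mul, ← mul_assoc, ← h4]; group
    have h6 : v'⁻¹ * v ∈ cen S := by
      apply hcap _ (mul_mem (inv_mem hv') hv)
      rw [h5]; exact mul_mem he' (inv_mem he)
    rw [hψ _ (mul_mem (inv_mem hv') hv), ns.add _ (inv_mem hv') _ hv, ns.inv hv'] at h6
    simp only [Pi.add_apply, Pi.neg_apply] at h6
    exact (neg_add_eq_zero.mp h6)
  have hχE : ∀ e ∈ E, χ e = 0 := by
    intro e he
    have h4 := hχ 1 (one_mem _) e he
    rw [one_mul, ns.one] at h4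
    exact h4
  have hχadd : ∀ a b : G, (∃ v ∈ cen T, ∃ e ∈ E, a = v * e) → (∃ v ∈ cen T, ∃ e ∈ E, b = v * e) →
      χ (a * b) = χ a + χ b := by
    rintro _ _ ⟨v, hv, e, he, rfl⟩ ⟨v', hv', e', he', rfl⟩
    have h4 : e * v' = v' * e := cen_comm hv' (w.UT he.1)
    have h5 : v * e * (v' * e') = (v * v') * (e * e') := by
      calc v * e * (v' * e') = v * (e * v') * e' := by group
        _ = _ := by rw [h4]; group
    rw [h5, hχ _ (mul_mem hv hv') _ (mul_mem he he'), hχ v hv e he, hχ v' hv' e' he',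
      ns.add v hv v' hv']
    rfl
  have hχ0 : ∀ a ∈ U₁, χ a = 0 → a ∈ E := by
    intro a ha h4
    obtain ⟨v, hv, e, he, rfl⟩ := hdec a ha
    rw [hχ v hv e he, ← hψ v hv] at h4
    exact mul_mem (hcenS h4) he
  -- `t` normalises `S`
  have htS : ∀ s ∈ S, t * s * t⁻¹ ∈ S := fun s hs => (diag_norm c fr hρx hk ht hs).1
  have htS' : ∀ s ∈ S, t⁻¹ * s * t ∈ S := by
    intro s hs
    have h4 := diag_norm' c fr hρx hk ht
    rw [← h4, mem_cj] at hs
    exact hs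
  have htE : ∀ e ∈ E, t * e * t⁻¹ ∈ E := by
    intro e he
    refine ⟨hUn.conj_mem e he.1 t, fun b hb => ?_⟩
    have h4 := he.2 _ (htS' b hb)
    have h5 := (inferInstance : (center G).Normal).conj_mem _ h4 t
    have e1 : t * (t⁻¹ * b * t * e * (t⁻¹ * b * t)⁻¹ * e⁻¹) * t⁻¹ =
      b * (t * e * t⁻¹) * b⁻¹ * (t * e * t⁻¹)⁻¹ := by group
    rwa [e1] at h5
  have hχt : ∀ a ∈ U₁, χ (t * a * t⁻¹) = 2⁻¹ * χ a := by
    intro a ha
    obtain ⟨v, hv, e, he, rfl⟩ := hdec a ha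
    have e1 : t * (v * e) * t⁻¹ = (t * v * t⁻¹) * (t * e * t⁻¹) := by group
    rw [e1, hχ _ (ns.cjU t hv) _ (htE e he), hχ v hv e he, ns.act t v hv, ht, dg_mulVec_one]
  -- commutators
  have hSE : ∀ s ∈ S, ∀ a ∈ U₁, s * a * s⁻¹ * a⁻¹ ∈ E := by
    intro s hs a ha
    obtain ⟨v, hv, e, he, rfl⟩ := hdec a ha
    have h4 : s * v * s⁻¹ * v⁻¹ ∈ cen S := n.quad v hv s hs
    have h5 := he.2 s hs
    have e1 : s * (v * e) * s⁻¹ * (v * e)⁻¹ = (s * v * s⁻¹ * v⁻¹) * (v * (s * e * s⁻¹ * e⁻¹) * v⁻¹) := by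
      group
    rw [e1, mem_center_iff.mp h5 v, mul_inv_cancel_right]
    exact mul_mem (hcenS h4) (hZE h5)
  have hU₁ : ∀ s ∈ S, ∀ a ∈ U, s * a * s⁻¹ * a⁻¹ ∈ U₁ := w.sec.q2
  have hdecE : ∀ e ∈ E, ∃ v ∈ cen T, ∃ e' ∈ E, e = v * e' := fun e he => ⟨1, one_mem _, e, he, by rw [one_mul]⟩
  let β : G → G → F := fun s a => χ (s * a * s⁻¹ * a⁻¹)
  have hβ1 : ∀ s ∈ S, ∀ s' ∈ S, ∀ a ∈ U, β (s * s') a = β s' a + β s a := by
    intro s hs s' hs' a ha
    have h4 := hU₁ s' hs' a ha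
    have h5 := hSE s hs _ h4
    set b := s' * a * s'⁻¹ * a⁻¹ with hb
    have e1 : s * s' * a * (s * s')⁻¹ * a⁻¹ = (s * b * s⁻¹ * b⁻¹) * (b * (s * a * s⁻¹ * a⁻¹)) := by
      rw [hb]; group
    have hb' := hdec b h4
    have hsa := hdec _ (hU₁ s hs a ha)
    change χ (s * s' * a * (s * s')⁻¹ * a⁻¹) = χ b + χ (s * a * s⁻¹ * a⁻¹)
    have hbs : ∃ v ∈ cen T, ∃ e ∈ E, b * (s * a * s⁻¹ * a⁻¹) = v * e := by
      obtain ⟨v, hv, e, he, h6⟩ := hb'
      obtain ⟨v', hv', e', he', h7⟩ := hsa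
      refine ⟨v * v', mul_mem hv hv', e * e', mul_mem he he', ?_⟩
      rw [h6, h7]
      have h8 : e * v' = v' * e := cen_comm hv' (w.UT he.1)
      calc v * e * (v' * e') = v * (e * v') * e' := by group
        _ = _ := by rw [h8]; group
    rw [e1, hχadd _ _ (hdecE _ h5) hbs, hχE _ h5, zero_add, hχadd _ _ hb' hsa]
  have hβ2 : ∀ s ∈ S, ∀ a ∈ U, ∀ a' ∈ U, β s (a * a') = β s a + β s a' := by
    intro s hs a ha a' ha'
    have h4 := hU₁ s hs a' ha'
    set b := s * a' * s⁻¹ * a'⁻¹ with hb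
    have hbU : b ∈ U := w.sec.U₁U h4
    have h5 : a * b * a⁻¹ * b⁻¹ ∈ E := hZE (w.TU a (w.UT ha) b hbU)
    have e1 : s * (a * a') * s⁻¹ * (a * a')⁻¹ = (s * a * s⁻¹ * a⁻¹) * ((a * b * a⁻¹ * b⁻¹) * b) := by
      rw [hb]; group
    have hb' := hdec b h4
    have hsa := hdec _ (hU₁ s hs a ha)
    change χ (s * (a * a') * s⁻¹ * (a * a')⁻¹) = χ (s * a * s⁻¹ * a⁻¹) + χ b
    have h6 : ∃ v ∈ cen T, ∃ e ∈ E, (a * b * a⁻¹ * b⁻¹) * b = v * e := by
      obtain ⟨v, hv, e, he, h6⟩ := hb'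
      refine ⟨v, hv, (a * b * a⁻¹ * b⁻¹) * e, mul_mem h5 he, ?_⟩
      have h7 : (a * b * a⁻¹ * b⁻¹) * v = v * (a * b * a⁻¹ * b⁻¹) := cen_comm hv (w.UT h5.1)
      calc (a * b * a⁻¹ * b⁻¹) * b = (a * b * a⁻¹ * b⁻¹) * (v * e) := by rw [← h6]
        _ = ((a * b * a⁻¹ * b⁻¹) * v) * e := (mul_assoc _ _ _).symm
        _ = (v * (a * b * a⁻¹ * b⁻¹)) * e := by rw [h7]
        _ = _ := mul_assoc _ _ _
    rw [e1, hχadd _ _ hsa h6, hχadd _ _ (hdecE _ h5) hb', hχE _ h5, zero_add]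
  have hβT : ∀ s ∈ T, ∀ a ∈ U, β s a = 0 := fun s hs a ha => hχE _ (hZE (w.TU s hs a ha))
  have hβU : ∀ s ∈ S, ∀ a ∈ U₁, β s a = 0 := fun s hs a ha => hχE _ (hSE s hs a ha)
  have hβt : ∀ s ∈ S, ∀ a ∈ U, β (t * s * t⁻¹) (t * a * t⁻¹) = 2⁻¹ * β s a := by
    intro s hs a ha
    change χ (t * s * t⁻¹ * (t * a * t⁻¹) * (t * s * t⁻¹)⁻¹ * (t * a * t⁻¹)⁻¹) = _
    have e1 : t * s * t⁻¹ * (t * a * t⁻¹) * (t * s * t⁻¹)⁻¹ * (t * a * t⁻¹)⁻¹ =
      t * (s * a * s⁻¹ * a⁻¹) * t⁻¹ := by group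
    rw [e1, hχt _ (hU₁ s hs a ha)]
  -- the computation
  intro a ha b hb b' hb'
  have hmain : β b a = 0 := by
    obtain ⟨htb, α, hα, hα'⟩ := diag_norm c fr hρx hk ht hb
    set a' := t * a * t⁻¹ with ha'
    have ha'U : a' ∈ U := hUn.conj_mem a ha t
    -- `t b t⁻¹ = b⁴ t'`
    have h4 : β (t * b * t⁻¹) a' = 4 * β b a' := by
      have h5 : (b * b * (b * b))⁻¹ * (t * b * t⁻¹) ∈ T := by
        rw [← hk, MonoidHom.mem_ker, map_mul, map_inv, hα', map_mul, map_mul, hα,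
          ← Cfsg.Agent.LieClassical.SLTwoUnipotent.u_add, ← Cfsg.Agent.LieClassical.SLTwoUnipotent.u_add,
          ← Cfsg.Agent.LieClassical.SLTwoUnipotent.u_neg, ← Cfsg.Agent.LieClassical.SLTwoUnipotent.u_add]
        have : -(α + α + (α + α)) + 2 ^ 2 * α = 0 := by ring
        rw [this, Cfsg.Agent.LieClassical.SLTwoUnipotent.u_zero]
      have hbb : b * b ∈ S := mul_mem hb hb
      have h6 : t * b * t⁻¹ = (b * b * (b * b)) * ((b * b * (b * b))⁻¹ * (t * b * t⁻¹)) := by group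
      rw [h6, hβ1 _ (mul_mem hbb hbb) _ (c.le h5) a' ha'U, hβT _ h5 a' ha'U, zero_add,
        hβ1 _ hbb _ hbb a' ha'U, hβ1 _ hb _ hb a' ha'U]
      ring
    have h5 : β b a' + β b a' = β b a := by
      have h6 : a⁻¹ * (a' * a') ∈ U₁ := by
        have hmem : a⁻¹ * (a' * a') ∈ U := mul_mem (inv_mem ha) (mul_mem ha'U ha'U)
        rw [hψ' _ hmem, ns'.add _ (inv_mem ha) _ (mul_mem ha'U ha'U), ns'.add _ ha'U _ ha'U,
          ns'.inv ha, ha', ns'.act t a ha, ht]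
        simp only [Pi.add_apply, Pi.neg_apply, dg_mulVec_one]
        field_simp
        ring
      have h7 : a' * a' = a * (a⁻¹ * (a' * a')) := by group
      rw [← hβ2 b hb a' ha'U a' ha'U, h7, hβ2 b hb a ha _ (w.sec.U₁U h6), hβU b hb _ h6, add_zero]
    have h6 := hβt b hb a ha
    rw [← ha', h4, ← h5] at h6
    have h7 : (3 : F) * β b a' = 0 := by
      have : 2 * (4 * β b a') = 2 * (2⁻¹ * (β b a' + β b a')) := by rw [h6]
      rw [← mul_assoc 2 2⁻¹, mul_inv_cancel₀ h2, one_mul] at this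
      have h8 : 2 * (3 * β b a') = 0 := by linear_combination this
      rcases mul_eq_zero.mp h8 with h9 | h9
      · exact absurd h9 h2
      · exact h9
    rcases mul_eq_zero.mp h7 with h8 | h8
    · exact absurd h8 h3
    · rw [← h5, h8, add_zero]
  exact (hχ0 _ (hU₁ b hb a ha) hmain).2 b' hb'

end Two

end Cfsg.Agent.H213.Rk
end

-- part: H213/Main
section
/-!
# Rank one pushing up: the main theorem
-/

set_option autoImplicit false
set_option linter.unusedSectionVars false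

namespace Cfsg.Agent.H213.Rk

open Subgroup Cfsg.Agent.H260.Push Matrix
open Cfsg.Agent.LieClassical.SLTwoUnipotent (u l)
open scoped commutatorElement

variable {G : Type*} [Group G]

/-- **Rank one pushing up.**  With `V = Z(O_p(G))`: `V / Z(G)` is a natural `SL₂(F)`-module with kernel
`T = O_p(G)`, and either some automorphism of `S` moves `V` to a subgroup not commuting with `V` (`One`), or
`p = 3` and there is a second natural section (`Two`). -/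
theorem main [Finite G] {F : Type*} [Field F] [Fintype F] {p : ℕ} [hp : Fact p.Prime] {S T M : Subgroup G}
    {x y : F → G} {g : G} (su : Su F p S T M x y g) :
    ∃ (ρ : G →* SpecialLinearGroup (Fin 2) F) (ψ : G → (Fin 2 → F)), NatSec F (cen T) (center G) ρ ψ ∧
      (∀ a, ρ (x a) = u a) ∧ (∀ b, ρ (y b) = l b) ∧ ρ.ker = T ∧ (∀ z ∈ cen T, z ∈ cen S ↔ ψ z 1 = 0) ∧
      ((∃ α : S ≃* S, One S T α) ∨ (p = 3 ∧ ∃ U U₁ C Y, Two p (Fintype.card F) S T M U U₁ C Y ∧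
        ∃ ψ', NatSec F U C ρ ψ' ∧ (∀ z ∈ U, z ∈ U₁ ↔ ψ' z 1 = 0))) := by
  obtain ⟨c, n, fr, hchar, -, hch⟩ := su
  have hV := expo_X c n hchar
  obtain ⟨ρ, ψ, ns, hρx, hρy, hρT, hψ⟩ := (sec_of_nat c n).natural c fr
  -- the ambient group
  have hA : ∀ α : S ≃* S, ∃ a ∈ normalizer ((S.map (Amb.φ G) : Subgroup (Equiv.Perm G)) : Set (Equiv.Perm G)),
      ∀ s : S, a * Amb.φ G s * a⁻¹ = Amb.φ G (α s) := by
    intro α
    obtain ⟨σ, hσ⟩ := Amb.exists_perm S α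
    refine ⟨σ, ?_, hσ⟩
    rw [← cj_eq_iff_mem_normalizer]
    apply conj_cj'
    rintro _ ⟨s, hs, rfl⟩
    have := hσ ⟨s, hs⟩
    change σ * Amb.φ G s * σ⁻¹ ∈ _
    rw [this]
    exact Subgroup.mem_map_of_mem _ (α ⟨s, hs⟩).2
  have d := dt_of_core c n hchar (Amb.φ G) (Amb.φ_inj (G := G)) _ rfl hA
  refine ⟨ρ, ψ, ns, hρx, hρy, ?_⟩
  rcases d.one_or_two with h1 | ⟨hc, w, hw, hnc⟩
  · obtain ⟨α, o⟩ := exists_one c (Amb.φ G) (Amb.φ_inj (G := G)) rfl d n h1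
    exact ⟨o.ker_eq c ns hρT, hψ, Or.inl ⟨α, o⟩⟩
  · -- distance two
    have hp2 : p ≠ 2 := by
      intro hp2
      subst hp2
      have d' : PushGen.Dt (normalizer ((S.map (Amb.φ G) : Subgroup (Equiv.Perm G)) : Set (Equiv.Perm G)))
          (Amb.φ G).range (S.map (Amb.φ G)) (T.map (Amb.φ G)) ((cen T).map (Amb.φ G))
          ((cen S).map (Amb.φ G)) ((comD S T).map (Amb.φ G)) := by
        refine ⟨d.BA, d.BL, d.QB, d.VQ, d.ZV, d.DZ, d.AnB, d.AnZ, d.LnQ, d.LnV, d.BcZ, ?_, d.QcV, d.VcQ, ?_,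
          d.comm, d.Dgen, d.ncomm, d.card, d.gen, d.moves, d.mvinv, d.ti, d.core⟩
        · rintro _ ⟨v, hv, rfl⟩
          rw [← map_mul, ← pow_two, hV v hv, map_one]
        · rintro _ ⟨b, hb, rfl⟩
          rw [← map_mul, ← pow_two]
          exact Subgroup.mem_map_of_mem _ (c.expo b hb)
      exact d'.not_one hc hw hnc
    obtain ⟨τ, hτ⟩ := d.exists_cr hc hw hnc
    obtain ⟨U, U₁, C, Y, tw⟩ := exists_two c n hV (Amb.φ G) (Amb.φ_inj (G := G)) d hc hτ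
    obtain ⟨ρ', ψ', ns', hρx', hρy', hρT', hψ'⟩ := tw.sec.natural c fr
    have hρρ : ρ' = ρ := hom_ext c fr (fun a => by rw [hρx, hρx']) (fun a => by rw [hρy, hρy'])
      (fun t ht => by rw [hρT t ht, hρT' t ht])
    subst hρρ
    have hk := tw.ker_eq c ns ns' hρT
    refine ⟨hk, hψ, Or.inr ⟨?_, U, U₁, C, Y, tw, ψ', ns', hψ'⟩⟩
    exact tw.eq_three c ns ns' n fr hρx hψ' hψ hV hk hp2

/-- The first conclusion -/
theorem concl_one [Finite G] {F : Type*} [Field F] [Fintype F] {p : ℕ} [hp : Fact p.Prime]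
    {S T M : Subgroup G} {x y : F → G} {g : G} (su : Su F p S T M x y g) [T.Normal] :
    Nonempty (G ⧸ T ≃* SpecialLinearGroup (Fin 2) F) ∧ ∀ (U W : Subgroup G) [W.Normal], U ≤ T →
      Cfsg.IsChiefFactor U W → ¬ ⁅U, (⊤ : Subgroup G)⁆ ≤ W →
        Cfsg.IsNaturalSL2Module F (U.map (QuotientGroup.mk' W)) (⊤ : Subgroup (G ⧸ W)) := by
  obtain ⟨ρ, ψ, ns, hρx, hρy, hk, hψ, hcase⟩ := main su
  refine ⟨iso_of_ker ns.rsur hk, ?_⟩
  intro U W hW hU hch hnc
  rcases hcase with ⟨α, o⟩ | ⟨-, U', U₁, C, Y, tw, ψ', ns', -⟩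
  · obtain ⟨ψ'', h1⟩ := o.chief_nat su.c ns hch hU hnc
    exact h1.isNatural
  · obtain ⟨ψ'', h1⟩ := tw.chief_nat su.c ns ns' hch hU hnc
    exact h1.isNatural

theorem exp_three_comm {H : Type*} [Group H] (h : ∀ a : H, a ^ 3 = 1) (y s : H) :
    y * (s * y * s⁻¹) = (s * y * s⁻¹) * y := by
  have h1 : (y * s) ^ 3 = 1 := h _
  have h2 : (y * s⁻¹) ^ 3 = 1 := h _
  have hs : s ^ 3 = 1 := h s
  have e1 : (y * s) ^ 3 = y * (s * y * s⁻¹) * (s * s * y * (s * s)⁻¹) * s ^ 3 := by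
    simp only [pow_succ, pow_zero, one_mul]
    group
  have e2 : (y * s⁻¹) ^ 3 = y * (s⁻¹ * y * s) * (s⁻¹ * s⁻¹ * y * (s⁻¹ * s⁻¹)⁻¹) * (s ^ 3)⁻¹ := by
    simp only [pow_succ, pow_zero, one_mul]
    group
  have hss : s⁻¹ = s * s := by
    rw [inv_eq_iff_mul_eq_one]
    rw [pow_succ, pow_two] at hs
    rw [← mul_assoc]; exact hs
  have hss' : s⁻¹ * s⁻¹ = s := by
    rw [← _root_.mul_inv_rev, ← hss, inv_inv]
  rw [hs, mul_one] at e1
  rw [hs, inv_one, mul_one] at e2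
  rw [h1] at e1
  rw [h2] at e2
  -- `s⁻¹ y s = s² y s⁻²`
  have e3 : s⁻¹ * y * s = s * s * y * (s * s)⁻¹ := by
    rw [← hss, inv_inv]
  rw [hss'] at e2
  rw [e3] at e2
  generalize s * y * s⁻¹ = a at e1 e2 ⊢
  generalize s * s * y * (s * s)⁻¹ = b at e1 e2
  have e5 : y * a = b⁻¹ := by
    rw [eq_inv_iff_mul_eq_one]; exact e1.symm
  have e8 : y = a⁻¹ * b⁻¹ := by
    rw [← _root_.mul_inv_rev, eq_inv_iff_mul_eq_one, ← mul_assoc]; exact e2.symm
  have e6 : a * y = b⁻¹ := by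
    rw [e8]; group
  rw [e5, e6]

/-- the second conclusion -/
theorem concl_two [Finite G] {F : Type*} [Field F] [Fintype F] {p : ℕ} [hp : Fact p.Prime]
    {S T M : Subgroup G} {x y : F → G} {g : G} (su : Su F p S T M x y g) :
    (S.lowerCentralSeries 2 = ⊥ ∧ S.lowerCentralSeries 1 ≠ ⊥ ∧ (p = 2 → Monoid.exponent S = 4) ∧
      (p ≠ 2 → Monoid.exponent S = p) ∧ (∃ U W : Subgroup G, W ≤ U ∧ U ≤ T ∧
        Cfsg.IsChiefFactor U W ∧ ¬ ⁅U, (⊤ : Subgroup G)⁆ ≤ W ∧ (∃ k : ℕ, Cfsg.iterCommutator W ⊤ k = ⊥) ∧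
        (∃ k : ℕ, Cfsg.iterCommutator T ⊤ k ≤ U))) ∨
    (p = 3 ∧ S.lowerCentralSeries 3 = ⊥ ∧ S.lowerCentralSeries 2 ≠ ⊥ ∧ Monoid.exponent S = 9 ∧
      (∃ U₁ W₁ U₂ W₂ : Subgroup G, W₁ ≤ U₁ ∧ U₁ ≤ W₂ ∧ W₂ ≤ U₂ ∧ U₂ ≤ T ∧ Cfsg.IsChiefFactor U₁ W₁ ∧
        Cfsg.IsChiefFactor U₂ W₂ ∧ ¬ ⁅U₁, (⊤ : Subgroup G)⁆ ≤ W₁ ∧ ¬ ⁅U₂, (⊤ : Subgroup G)⁆ ≤ W₂ ∧
        (∃ k : ℕ, Cfsg.iterCommutator W₁ ⊤ k = ⊥) ∧ (∃ k : ℕ, Cfsg.iterCommutator W₂ ⊤ k ≤ U₁) ∧
        (∃ k : ℕ, Cfsg.iterCommutator T ⊤ k ≤ U₂))) := by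
  obtain ⟨ρ, ψ, ns, hρx, hρy, hk, hψ, hcase⟩ := main su
  obtain ⟨c, n, fr, hchar, -, hch⟩ := su
  have hV := expo_X c n hchar
  have hcen : ∃ k : ℕ, Cfsg.iterCommutator (center G) ⊤ k = ⊥ := by
    refine ⟨1, ?_⟩
    rw [eq_bot_iff]
    apply iter_one_le
    intro g a ha
    rw [center_triv g ha]; exact one_mem _
  have hTn := c.normT
  obtain ⟨s₀, hs₀, hs₀T⟩ := exists_not_T c
  rcases hcase with ⟨α, o⟩ | ⟨hp3, U', U₁, C, Y, tw, ψ', ns', -⟩
  · left
    have hlcs1 := o.lcs_one c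
    have hexp := o.expo c hV hchar
    refine ⟨o.lcs_two c hchar, hlcs1, ?_, ?_, cen T, center G, ns.WU, cen_le T, ns.chief, ns.noncentral,
      hcen, ?_⟩
    · intro hp2
      have h4 := hexp.2 hp2
      have hdvd : Monoid.exponent S ∣ 2 ^ 2 := by
        apply Monoid.exponent_dvd_of_forall_pow_eq_one
        intro s
        apply Subtype.ext
        exact h4 s s.2
      obtain ⟨k, hk2, hk3⟩ := (Nat.dvd_prime_pow Nat.prime_two).mp hdvd
      have hk4 : k = 2 := by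
        by_contra hne
        have hk1 : k ≤ 1 := by omega
        apply hlcs1
        have hdvd2 : Monoid.exponent S ∣ 2 := by
          rw [hk3]
          exact (pow_dvd_pow 2 hk1)
        have hsq : ∀ s ∈ S, s * s = 1 := by
          intro s hs
          have h5 : (⟨s, hs⟩ : S) ^ 2 = 1 := Monoid.exponent_dvd_iff_forall_pow_eq_one.mp hdvd2 _
          have h6 := congrArg Subtype.val h5
          rw [pow_two] at h6
          exact h6
        rw [Subgroup.lowerCentralSeries_succ, eq_bot_iff, commutator_le]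
        intro a ha b hb
        rw [Subgroup.mem_bot, commutatorElement_eq_one_iff_mul_comm]
        have h7 := hsq _ (S.mul_mem ha hb)
        have h8 := hsq a ha
        have h9 := hsq b hb
        have i1 : a⁻¹ = a := inv_eq_of_mul_eq_one_left h8
        have i2 : b⁻¹ = b := inv_eq_of_mul_eq_one_left h9
        have i3 : (a * b)⁻¹ = a * b := inv_eq_of_mul_eq_one_left h7
        rw [_root_.mul_inv_rev, i1, i2] at i3
        exact i3.symm
      rw [hk3, hk4]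
      norm_num
    · intro hp2
      have h4 := hexp.1 hp2
      have hdvd : Monoid.exponent S ∣ p := by
        apply Monoid.exponent_dvd_of_forall_pow_eq_one
        intro s
        apply Subtype.ext
        exact h4 s s.2
      rcases (Nat.dvd_prime hp.out).mp hdvd with h5 | h5
      · exfalso
        apply hs₀T
        have h6 : (⟨s₀, hs₀⟩ : S) ^ 1 = 1 := Monoid.exponent_dvd_iff_forall_pow_eq_one.mp (by rw [h5]) _
        rw [pow_one] at h6
        have h7 : s₀ = 1 := congrArg Subtype.val h6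
        rw [h7]; exact one_mem _
      · exact h5
    · exact iter_le c hTn le_rfl (o.R_sup c) c.normX (o.R_T c)
  · right
    have hp2 : p ≠ 2 := by omega
    obtain ⟨y', hy', s', hs', hnc⟩ := tw.nc
    refine ⟨hp3, collapse_lcs c hchar tw.lcs3, ?_, ?_, cen T, center G, U', C, ns.WU, tw.VC, ns'.WU,
      tw.UT, ns.chief, ns'.chief, ns.noncentral, ns'.noncentral, hcen, ⟨1, ?_⟩, ?_⟩
    · intro h0
      apply hnc
      have h1 : ⁅⁅s', y'⁆, y'⁆ ∈ S.lowerCentralSeries 2 := by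
        rw [Subgroup.lowerCentralSeries_succ, Subgroup.lowerCentralSeries_succ, Subgroup.lowerCentralSeries_zero]
        exact commutator_mem_commutator (commutator_mem_commutator hs' hy') hy'
      rw [h0, Subgroup.mem_bot, commutatorElement_eq_one_iff_mul_comm] at h1
      have e : s' * y' * s'⁻¹ = ⁅s', y'⁆ * y' := by rw [commutatorElement_def]; group
      rw [e]
      have k1 : Commute ⁅s', y'⁆ y' := h1
      exact (k1.symm.mul_right (Commute.refl y')).eq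
    · subst hp3
      have h9 := collapse_pow c hchar (tw.pow hp2)
      have hdvd : Monoid.exponent S ∣ 3 ^ 2 := by
        apply Monoid.exponent_dvd_of_forall_pow_eq_one
        intro s
        apply Subtype.ext
        exact h9 s s.2
      obtain ⟨k, hk2, hk3⟩ := (Nat.dvd_prime_pow Nat.prime_three).mp hdvd
      have hk4 : k = 2 := by
        by_contra hne
        have hk1 : k ≤ 1 := by omega
        have hdvd2 : Monoid.exponent S ∣ 3 := by
          rw [hk3]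
          exact (pow_dvd_pow 3 hk1)
        have h3 : ∀ a : S, a ^ 3 = 1 := Monoid.exponent_dvd_iff_forall_pow_eq_one.mp hdvd2
        apply hnc
        have := exp_three_comm h3 ⟨y', hy'⟩ ⟨s', hs'⟩
        exact congrArg Subtype.val this
      rw [hk3, hk4]
      norm_num
    · exact iter_one_le (fun g a ha => tw.trivC g a ha)
    · exact iter_le c hTn le_rfl (tw.R_sup c) tw.sec.Un (tw.R_T c)

end Cfsg.Agent.H213.Rk
end
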